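import Groth.Agent.PerfC.LiftAll

/-!
# Extending morphisms from perfect objects, in terms of opens (Stacks 09IM, strong and weak form)
-/

set_option autoImplicit false
universe u
open CategoryTheory CategoryTheory.Limits AlgebraicGeometry Pretriangulated
attribute [local instance] HasDerivedCategory.standard

namespace Groth.Agent.PerfC.ExtendMap
open Groth.Agent.PerfC.LiftStep

/-- If `X = U ∪ V` with `V` affine, then a morphism `α : P ⟶ E|_U` from a perfect object supported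
on `T`, precomposed with `P ⊞ P[1] ⟶ P`, extends to `R ⟶ E` with `R` perfect supported on `T`. -/
theorem extendMap_of_affine {X : Scheme.{u}} [CompactSpace X] [QuasiSeparatedSpace X]
    (U V : X.Opens) (hUV : U ⊔ V = ⊤) (hU : IsCompact (U : Set X)) (hV : IsAffineOpen V)
    [PreservesFiniteLimits (Scheme.Modules.restrictFunctor U.ι)]
    (T : Set X) (hT : IsClosed T) (hTc : IsCompact Tᶜ) (E : DCoh.D X) (hE : DCoh.IsQCohD E)
    (P : DCoh.D (U : Scheme.{u})) (hP : DCoh.IsPerfect P)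
    (hPT : ∀ k : ℤ, CohB1.support (DCoh.HD P k) ⊆ {x : ↥(U : Scheme.{u}) | U.ι.base x ∈ T})
    (α : P ⟶ (DCoh.restrictD U.ι).obj E) :
    ∃ (R : DCoh.D X) (β : R ⟶ E) (e : (DCoh.restrictD U.ι).obj R ≅ P ⊞ P⟦(1 : ℤ)⟧),
      DCoh.IsPerfect R ∧ (∀ k : ℤ, CohB1.support (DCoh.HD R k) ⊆ T) ∧
        (DCoh.restrictD U.ι).map β = e.hom ≫ biprod.fst ≫ α := by
  have : CompactSpace (U : X.Opens) := isCompact_iff_compactSpace.mp hU
  have : IsAffine (V : X.Opens) := hV
  exact strongLift_of_affine U.ι V.ι (by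
    rw [Scheme.Opens.range_ι, Scheme.Opens.range_ι]
    exact congr_arg (fun W : X.Opens => (W : Set X)) hUV) T hT hTc E hE P hP hPT α

/-- Stacks 09IM. -/
theorem exists_lift {X : Scheme.{u}} [CompactSpace X] [QuasiSeparatedSpace X]
    (U : X.Opens) (hU : IsCompact (U : Set X))
    [PreservesFiniteLimits (Scheme.Modules.restrictFunctor U.ι)] (T : Set X) (hT : IsClosed T)
    (hTc : IsCompact Tᶜ) (E : DCoh.D X) (hE : DCoh.IsQCohD E)
    (P : DCoh.D (U : Scheme.{u})) (hP : DCoh.IsPerfect P)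
    (hPT : ∀ k : ℤ, CohB1.support (DCoh.HD P k) ⊆ {x : ↥(U : Scheme.{u}) | U.ι.base x ∈ T})
    (α : P ⟶ (DCoh.restrictD U.ι).obj E) :
    ∃ (R : DCoh.D X) (β : R ⟶ E) (i : P ⟶ (DCoh.restrictD U.ι).obj R)
      (p : (DCoh.restrictD U.ι).obj R ⟶ P),
      DCoh.IsPerfect R ∧ (∀ k : ℤ, CohB1.support (DCoh.HD R k) ⊆ T) ∧ i ≫ p = 𝟙 P ∧
        i ≫ (DCoh.restrictD U.ι).map β = α :=
  weakLift_opens U hU T hT hTc E hE P hP hPT α

end Groth.Agent.PerfC.ExtendMap
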