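import Groth.Agent.PerfC.RetractPerf
import Groth.Agent.PerfB.DescRing
import Groth.Agent.Dcoh.BddCx
import Groth.Agent.S2066
import Mathlib.RingTheory.Flat.EquationalCriterion

/-!
# Perfect complexes of modules descend along faithfully flat families of ring maps

`perfect_descent_family`: if `φ j : A → B j` is a finite family of flat ring maps, jointly surjective on
spectra, and `K ⊗ B j` is perfect for all `j`, then `K` is perfect (`DRing.IsPerfect`).
`perfect_of_local`: the case of principal localizations.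
-/

set_option autoImplicit false
universe u v w
open CategoryTheory CategoryTheory.Limits TensorProduct
attribute [local instance] HasDerivedCategory.standard

namespace Groth.Agent.PerfC.RingPerf

open Groth.Agent.PerfB Groth.Agent.PerfB.DescRing

section Algebra

variable {A : Type u} [CommRing A] {ι : Type v} [Finite ι] (B : ι → Type w) [∀ j, CommRing (B j)]
  [∀ j, Algebra A (B j)]

theorem flat_of_forall [∀ j, Module.Flat A (B j)] [Module.FaithfullyFlat A (∀ j, B j)] (M : Type*)
    [AddCommGroup M] [Module A M] (h : ∀ j, Module.Flat (B j) (B j ⊗[A] M)) : Module.Flat A M := by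
  classical
  have := Fintype.ofFinite ι
  have h1 : ∀ j, Module.Flat A (M ⊗[A] B j) := fun j => by
    have : Module.Flat A (B j ⊗[A] M) := Module.Flat.trans _ (B j) _
    exact Module.Flat.of_linearEquiv (TensorProduct.comm A M (B j))
  have h2 : Module.Flat A (∀ j, M ⊗[A] B j) := Module.Flat.of_linearEquiv
    (DFinsupp.linearEquivFunOnFintype (R := A) (M := fun j => M ⊗[A] B j)).symm
  have h3 : Module.Flat A (M ⊗[A] (∀ j, B j)) := Module.Flat.of_linearEquiv
    (TensorProduct.piRight A A M B)
  have h4 : Module.Flat A ((∀ j, B j) ⊗[A] M) := Module.Flat.of_linearEquiv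
    (TensorProduct.comm A (∀ j, B j) M)
  rw [Module.Flat.iff_lTensor_preserves_injective_linearMap]
  intro N P _ _ _ _ f hf
  rw [← Module.FaithfullyFlat.lTensor_injective_iff_injective A (∀ j, B j)]
  have : LinearMap.lTensor (∀ j, B j) (LinearMap.lTensor M f) =
      (TensorProduct.assoc _ _ _ _).toLinearMap ∘ₗ LinearMap.lTensor ((∀ j, B j) ⊗[A] M) f ∘ₗ
        (TensorProduct.assoc _ _ _ _).symm.toLinearMap := by
    ext
    simp
  simpa [this] using Module.Flat.lTensor_preserves_injective_linearMap f hf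

end Algebra

section Complexes

variable {A : Type u} [CommRing A]

lemma isKProjective {F : DRing.Cx A} {b : ℤ} (hb : DRing.VanishesAbove F b)
    (hF : ∀ i, Module.Projective A (F.X i)) : F.IsKProjective := by
  have : F.IsStrictlyLE b := (CochainComplex.isStrictlyLE_iff _ _).2 fun i hi => hb i hi
  have : ∀ i, Projective (F.X i) := fun i => by
    have := hF i
    exact ModuleCat.projective_of_categoryTheory_projective (F.X i)
  exact CochainComplex.isKProjective_of_projective F b

lemma isPerfect_of_iso {K L : Dual.D A} (e : K ≅ L) (h : DRing.IsPerfect A K) : DRing.IsPerfect A L := by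
  obtain ⟨E, a, b, h1, h2, ⟨e'⟩⟩ := h
  exact ⟨E, a, b, h1, h2, ⟨e' ≪≫ e⟩⟩

lemma pc_of_isPerfect {K : Dual.D A} (h : DRing.IsPerfect A K) (m : ℤ) : DRing.IsPseudoCoherent A m K := by
  obtain ⟨E, a, b, h1, h2, h3⟩ := h
  exact (S2066.result K).2.2 ⟨E, b, fun i hi => h1 i (Or.inr hi), h2, h3⟩ m

/-- The class of finite projective modules. -/
def finProj (A : Type u) [CommRing A] : ObjectProperty (ModuleCat.{u} A) :=
  fun M => Module.Finite A M ∧ Module.Projective A M

instance : (finProj A).IsClosedUnderIsomorphisms where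
  of_iso e h := ⟨@Module.Finite.equiv _ _ _ _ _ _ _ _ h.1 e.toLinearEquiv,
    @Module.Projective.of_equiv' _ _ _ _ _ _ _ _ h.2 e.toLinearEquiv⟩

lemma finProj_of_isZero {M : ModuleCat.{u} A} (h : IsZero M) : finProj A M := by
  have := ModuleCat.subsingleton_of_isZero h
  exact ⟨inferInstance, inferInstance⟩

/-- If `F` is bounded above with finite projective terms, `H^i(F) = 0` for `i < n` and `opcycles n` is finite
projective, then `F` is perfect. -/
lemma isPerfect_of_opcycles (F : DRing.Cx A) (n b : ℤ) (hb : DRing.VanishesAbove F b)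
    (hF : DRing.TermwiseFiniteProjective F) (h0 : ∀ i, i < n → IsZero (F.homology i))
    (hn : finProj A (F.opcycles n)) : DRing.IsPerfect A (DRing.toD F) := by
  obtain ⟨e⟩ := Dcoh.BddCx.nonempty_iso_truncGE F (DRing.toD F) n
    (fun i hi => (h0 i hi).of_iso ((DerivedCategory.homologyFunctorFactors (ModuleCat.{u} A) i).app F))
    (𝟙 _) (fun i _ => by rw [CategoryTheory.Functor.map_id]; infer_instance)
  refine ⟨F.truncGE n, n, b, ?_, ?_, ⟨e.symm⟩⟩
  · rintro i (hi | hi)
    · exact (F.truncGE n).isZero_of_isStrictlyGE n i hi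
    · exact Dcoh.BddCx.truncGE_isZero_of_lt F n b hb i hi
  · exact fun i => Dcoh.BddCx.prop_truncGE_X (P := finProj A) (fun _ h => finProj_of_isZero h) F n hn
      (fun i _ => hF i) i

lemma finitePresentation_opcycles (F : DRing.Cx A) (n : ℤ) (hF : DRing.TermwiseFiniteFree F) :
    Module.FinitePresentation A (F.opcycles n) := by
  have hc := F.opcyclesIsCokernel (n - 1) n (by simp)
  have h1 : (ShortComplex.mk (F.d (n - 1) n) (F.pOpcycles n) (F.d_pOpcycles (n - 1) n)).Exact :=
    ShortComplex.exact_of_g_is_cokernel _ hc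
  rw [ShortComplex.moduleCat_exact_iff_range_eq_ker] at h1
  have h2 : Function.Surjective (F.pOpcycles n).hom :=
    (ModuleCat.epi_iff_surjective _).1 inferInstance
  obtain ⟨h3, h4⟩ := hF n
  obtain ⟨h5, h6⟩ := hF (n - 1)
  have h7 : Module.FinitePresentation A (F.X n) := Module.finitePresentation_of_projective A _
  refine Module.finitePresentation_of_surjective (F.pOpcycles n).hom h2 ?_
  change (LinearMap.ker (ShortComplex.mk (F.d (n - 1) n) (F.pOpcycles n) (F.d_pOpcycles (n - 1) n)).g.hom).FG
  rw [← h1]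
  exact Submodule.FG.of_finite

lemma opcycles_of_section (F : DRing.Cx A) (n : ℤ) (hF : DRing.TermwiseFiniteProjective F)
    (h : ∃ s : F.opcycles n ⟶ F.X n, s ≫ F.pOpcycles n = 𝟙 _) : finProj A (F.opcycles n) := by
  obtain ⟨s, hs⟩ := h
  obtain ⟨h1, h2⟩ := hF n
  have h3 : (F.pOpcycles n).hom ∘ₗ s.hom = LinearMap.id := by
    rw [← ModuleCat.hom_comp, hs]
    rfl
  refine ⟨Module.Finite.of_surjective (F.pOpcycles n).hom ?_, Module.Projective.of_split s.hom
    (F.pOpcycles n).hom h3⟩
  intro x
  exact ⟨s.hom x, LinearMap.congr_fun h3 x⟩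

end Complexes

section Descent

variable {A : Type u} [CommRing A] {ι : Type u} [Finite ι] (B : ι → Type u) [∀ j, CommRing (B j)]
  (φ : ∀ j, A →+* B j)

lemma flat_module_of_forall (hφ : ∀ j, (φ j).Flat)
    (h : ∀ p : PrimeSpectrum A, ∃ j, ∃ q : PrimeSpectrum (B j), PrimeSpectrum.comap (φ j) q = p)
    (M : ModuleCat.{u} A) (hM : ∀ j, Module.Flat (B j) ((ModuleCat.extendScalars.{u, u, u} (φ j)).obj M)) :
    Module.Flat A M := by
  let : ∀ j, Algebra A (B j) := fun j => (φ j).toAlgebra
  have : ∀ j, Module.Flat A (B j) := fun j => hφ j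
  have := FFFamily.faithfullyFlat_pi (A := A) B h
  exact flat_of_forall B M hM

/-- The `opcycles` of a base change. -/
noncomputable def opcyclesIso {B : Type u} [CommRing B] (φ : A →+* B)
    [PreservesFiniteLimits (ModuleCat.extendScalars.{u, u, u} φ)] (F : DRing.Cx A) (n : ℤ) :
    ((bcCx φ).obj F).opcycles n ≅ (ModuleCat.extendScalars.{u, u, u} φ).obj (F.opcycles n) :=
  ShortComplex.mapOpcyclesIso (F.sc n) (ModuleCat.extendScalars.{u, u, u} φ)

/-- **Descent of perfectness** along a finite family of flat ring maps which is jointly surjective on spectra. -/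
theorem perfect_descent_family (hφ : ∀ j, (φ j).Flat)
    (h : ∀ p : PrimeSpectrum A, ∃ j, ∃ q : PrimeSpectrum (B j), PrimeSpectrum.comap (φ j) q = p)
    [∀ j, PreservesFiniteLimits (ModuleCat.extendScalars.{u, u, u} (φ j))] (K : Dual.D A)
    (hK : ∀ j, DRing.IsPerfect (B j) ((ModuleCat.extendScalars.{u, u, u} (φ j)).mapDerivedCategory.obj K)) :
    DRing.IsPerfect A K := by
  have hpc : ∀ m : ℤ, DRing.IsPseudoCoherent A m K := fun m =>
    pc_descent_family B φ hφ h m K fun j => pc_of_isPerfect (hK j) m
  obtain ⟨F, b, hb, hF, ⟨e⟩⟩ := (S2066.result K).1.1 hpc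
  have hF' : DRing.TermwiseFiniteProjective F := fun i => by
    obtain ⟨h1, h2⟩ := hF i
    exact ⟨h1, inferInstance⟩
  choose E a b' hE1 hE2 e' using hK
  obtain ⟨n, hn⟩ := (Set.finite_range a).bddBelow
  have hn' : ∀ j i, i < n → IsZero ((E j).X i) := fun j i hi =>
    hE1 j i (Or.inl (lt_of_lt_of_le hi (hn ⟨j, rfl⟩)))
  have hFj : ∀ j, DRing.TermwiseFiniteFree ((bcCx (φ j)).obj F) := fun j i => finiteFree_ext (φ j) _ (hF i)
  have hFj' : ∀ j, DRing.TermwiseFiniteProjective ((bcCx (φ j)).obj F) := fun j i => by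
    obtain ⟨h1, h2⟩ := hFj j i
    exact ⟨h1, inferInstance⟩
  have hbj : ∀ j, DRing.VanishesAbove ((bcCx (φ j)).obj F) b := fun j i hi =>
    Functor.map_isZero (ModuleCat.extendScalars.{u, u, u} (φ j)) (hb i hi)
  have k1 : ∀ j, ((bcCx (φ j)).obj F).IsKProjective := fun j => isKProjective (hbj j) fun i => (hFj' j i).2
  have k2 : ∀ j, (E j).IsKProjective := fun j =>
    isKProjective (b := b' j) (fun i hi => hE1 j i (Or.inr hi)) fun i => (hE2 j i).2
  have ej : ∀ j, Nonempty (DerivedCategory.Q.obj ((bcCx (φ j)).obj F) ≅ DerivedCategory.Q.obj (E j)) := fun j =>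
    ⟨((ModuleCat.extendScalars.{u, u, u} (φ j)).mapDerivedCategoryFactors.app F).symm ≪≫
      (ModuleCat.extendScalars.{u, u, u} (φ j)).mapDerivedCategory.mapIso e ≪≫ (e' j).some.symm⟩
  refine isPerfect_of_iso e (isPerfect_of_opcycles F (n - 1) b hb hF' ?_ ?_)
  · intro i hi
    refine FFFamily.isZero_of_forall B φ hφ h _ fun j => ?_
    have h1 := RetractPerf.isZero_homology_of_iso (ej j).some i (hn' j i (by omega))
    exact h1.of_iso (ShortComplex.mapHomologyIso (F.sc i) (ModuleCat.extendScalars.{u, u, u} (φ j))).symm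
  · have h1 : Module.Flat A (F.opcycles (n - 1)) := by
      refine flat_module_of_forall B φ hφ h _ fun j => ?_
      have h2 := opcycles_of_section _ (n - 1) (hFj' j)
        (RetractPerf.exists_section_of_iso (ej j).some (n - 1) (hn' j (n - 1) (by omega)))
      have h3 := (finProj (B j)).prop_of_iso (opcyclesIso (φ j) F (n - 1)) h2
      have h4 := h3.2
      infer_instance
    have h2 := finitePresentation_opcycles F (n - 1) hF
    exact ⟨inferInstance, Module.Flat.projective_of_finitePresentation⟩

/-- Perfectness is Zariski local on the ring. -/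
theorem perfect_of_local (K : Dual.D A)
    [∀ f : A, PreservesFiniteLimits (ModuleCat.extendScalars.{u, u, u} (algebraMap A (Localization.Away f)))]
    (H : ∀ p : PrimeSpectrum A, ∃ f : A, f ∉ p.asIdeal ∧ DRing.IsPerfect (Localization.Away f)
      ((ModuleCat.extendScalars.{u, u, u} (algebraMap A (Localization.Away f))).mapDerivedCategory.obj K)) :
    DRing.IsPerfect A K := by
  choose f hf hK using H
  have h1 : Ideal.span (Set.range f) = ⊤ := by
    by_contra hne
    obtain ⟨P, hP, hle⟩ := Ideal.exists_le_maximal _ hne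
    exact hf ⟨P, hP.isPrime⟩ (hle (Ideal.subset_span ⟨_, rfl⟩))
  obtain ⟨s, hs, hs1⟩ := (Ideal.span_eq_top_iff_finite _).1 h1
  have key : ∀ x : s, ∃ p, f p = x := fun x => hs x.2
  choose q hq using key
  refine perfect_descent_family (ι := s) (fun x => Localization.Away (f (q x)))
    (fun x => algebraMap A (Localization.Away (f (q x)))) (fun x => ?_) ?_ K fun x => hK (q x)
  · rw [RingHom.flat_algebraMap_iff]
    exact IsLocalization.flat _ (Submonoid.powers (f (q x)))
  · intro p
    have h2 : ∃ x : s, f (q x) ∉ p.asIdeal := by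
      by_contra hcon
      push Not at hcon
      apply p.2.ne_top
      rw [eq_top_iff, ← hs1, Ideal.span_le]
      intro y hy
      have := hcon ⟨y, hy⟩
      rwa [hq ⟨y, hy⟩] at this
    obtain ⟨x, hx⟩ := h2
    have h3 : p ∈ Set.range (PrimeSpectrum.comap (algebraMap A (Localization.Away (f (q x))))) := by
      rw [PrimeSpectrum.localization_away_comap_range (Localization.Away (f (q x))) (f (q x))]
      exact hx
    obtain ⟨r, hr⟩ := h3
    exact ⟨x, r, hr⟩

end Descent

end Groth.Agent.PerfC.RingPerf
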