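import Groth.Agent.PerfA.TildeRes
import Groth.Agent.Dcoh.FinLocFree
import Groth.Agent.PerfC.RingPerf

/-!
# Finite projective modules give finite locally free sheaves

`isFinLocFree_tilde`: `N` finite projective ⟹ `N~` finite locally free; `isStrictlyPerfect_tilde`: a bounded
complex of finite projective modules gives a strictly perfect complex; `isPerfect_tildeD`: `K` perfect in
`D(A)` ⟹ `K~` perfect in `D(O_{Spec A})`.
-/

set_option autoImplicit false
universe u
open CategoryTheory CategoryTheory.Limits AlgebraicGeometry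
attribute [local instance] HasDerivedCategory.standard

namespace Groth.Agent.PerfC.TildeProj

open Groth.Agent.PerfA.TildeRes Groth.Agent.PerfA.PerfLocal

theorem isFinLocFree_tilde (A : Type u) [CommRing A] (N : ModuleCat.{u} A) [Module.Finite A N]
    [Module.Projective A N] : FlatMod.IsFinLocFree (tilde (R := CommRingCat.of A) N) := by
  have : Module.FinitePresentation A N := Module.finitePresentation_of_projective A N
  refine Dcoh.FinLocFree.isFinLocFree_of_local fun (p : PrimeSpectrum A) => ?_
  have : Module.Projective (Localization.AtPrime p.asIdeal)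
      (N.localizedModule p.asIdeal.primeCompl) :=
    Module.projective_of_isLocalizedModule p.asIdeal.primeCompl
      (N.localizedModuleMkLinearMap p.asIdeal.primeCompl)
  have : Module.Finite (Localization.AtPrime p.asIdeal)
      (N.localizedModule p.asIdeal.primeCompl) :=
    Module.Finite.of_isLocalizedModule p.asIdeal.primeCompl
      (N.localizedModuleMkLinearMap p.asIdeal.primeCompl)
  have hfree : Module.Free (Localization.AtPrime p.asIdeal)
      (N.localizedModule p.asIdeal.primeCompl) := Module.free_of_flat_of_isLocalRing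
  obtain ⟨U, j, hj, y, hy, h⟩ := exists_restrict_isFinLocFree p N hfree
  exact ⟨U, j, hj, ⟨y, hy⟩, h⟩

theorem isStrictlyPerfect_tilde (R : CommRingCat.{u}) (E : CochainComplex (ModuleCat.{u} R) ℤ) (a b : ℤ)
    (h1 : ∀ i : ℤ, i < a ∨ b < i → IsZero (E.X i))
    (h2 : ∀ i : ℤ, Module.Finite R (E.X i) ∧ Module.Projective R (E.X i)) :
    DCoh.IsStrictlyPerfect (((tilde.functor R).mapHomologicalComplex (ComplexShape.up ℤ)).obj E) := by
  refine ⟨⟨a, b, fun i hi => Functor.map_isZero (tilde.functor R) (h1 i hi)⟩, fun i => ?_⟩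
  obtain ⟨h3, h4⟩ := h2 i
  exact isFinLocFree_tilde R (E.X i)

theorem isPerfect_tildeD (R : CommRingCat.{u}) [PreservesFiniteLimits (tilde.functor R)]
    (K : DerivedCategory (ModuleCat.{u} R)) (h : DRing.IsPerfect R K) :
    DCoh.IsPerfect ((DCoh.tildeD R).obj K) := by
  obtain ⟨E, a, b, h1, h2, ⟨e⟩⟩ := h
  exact isPerfect_of_iso (((tilde.functor R).mapDerivedCategoryFactors.app E).symm ≪≫
    (DCoh.tildeD R).mapIso e) (isPerfect_Q (isStrictlyPerfect_tilde R E a b h1 h2))

end Groth.Agent.PerfC.TildeProj
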