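import Groth.Agent.PerfC.ExtZeroD
import Mathlib.CategoryTheory.Adjunction.Mates

/-!
# Extension by zero on derived categories: base change
-/

set_option autoImplicit false
universe u
open CategoryTheory CategoryTheory.Limits AlgebraicGeometry Pretriangulated
attribute [local instance] HasDerivedCategory.standard

namespace Groth.Agent.PerfC.ExtZeroD
open Groth.Agent.PerfA.Restrict Groth.Agent.PerfA Groth.Agent.CohqB Groth.Agent.PerfC.Supp
open Groth.Agent.PerfC.PcLocal AlgebraicGeometry.Scheme.Modules

variable {X U V W : Scheme.{u}} (j : U ⟶ X) [IsOpenImmersion j] (k : V ⟶ X) [IsOpenImmersion k]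
  (wU : W ⟶ U) (wV : W ⟶ V) [IsOpenImmersion wU] [IsOpenImmersion wV]

/-- If `K` is supported on `Y` and `G` is zero on `Y` then there are no nonzero morphisms. -/
lemma eq_zero_of_supp {K G : DCoh.D X} (hK : ∀ i, supp K i ⊆ Set.range j)
    (hG : IsZero ((restrictD j).obj G)) (f : K ⟶ G) : f = 0 :=
  (bijective_restrictD_map j K G hK).1 (hG.eq_of_tgt _ _)

/-- Vanishing of the direct image of an object which is zero over the preimage. -/
lemma isZero_restrictD_of_supp (R : DCoh.D V ⥤ DCoh.D X) (adj' : restrictD k ⊣ R) (C : DCoh.D V)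
    (hC : ∀ i, Disjoint (supp C i) (k ⁻¹' (Set.range j))) :
    IsZero ((restrictD j).obj (R.obj C)) := by
  rw [IsZero.iff_id_eq_zero]
  apply ((adjunction j).homEquiv _ _).symm.injective
  apply (adj'.homEquiv _ _).symm.injective
  have hr : Set.range (k ⁻¹ᵁ j.opensRange).ι = k ⁻¹' (Set.range j) := by
    rw [Scheme.Opens.range_ι]
    rfl
  refine (bijective_restrictD_map (k ⁻¹ᵁ j.opensRange).ι _ _ ?_).1 ?_
  · intro i
    rw [hr]
    exact (supp_restrictD k _ i).trans_subset (Set.preimage_mono (supp_shriekD_subset_range j _ i))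
  · refine IsZero.eq_of_tgt ?_ _ _
    rw [ExactD.isZero_iff]
    intro i
    rw [← supp_eq_empty_iff, supp_restrictD, Set.preimage_eq_empty_iff, hr]
    exact hC i

variable (e : wU ≫ j = wV ≫ k) (hW : k ⁻¹' (Set.range j) ⊆ Set.range wV)

/-- The base change morphism `wV_! wU^* A ⟶ k^* j_! A`. -/
noncomputable def shriekBCHom : restrictD wU ⋙ shriekD wV ⟶ shriekD j ⋙ restrictD k :=
  Functor.whiskerRight (Functor.whiskerRight (adjunction j).unit (restrictD wU)) (shriekD wV) ≫
    Functor.whiskerRight (Functor.whiskerLeft (shriekD j)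
      (restrictDSquare e).hom) (shriekD wV) ≫
      Functor.whiskerLeft (shriekD j ⋙ restrictD k) (adjunction wV).counit

include hW in
lemma isIso_shriekBCHom_app (A : DCoh.D U) : IsIso ((shriekBCHom j k wU wV e).app A) := by
  have h : IsIso ((adjunction wV).counit.app ((restrictD k).obj ((shriekD j).obj A))) := by
    refine isIso_counit_app wV _ fun i => ?_
    exact (supp_restrictD k _ i).trans_subset
      ((Set.preimage_mono (supp_shriekD_subset_range j _ i)).trans hW)
  have h2 : (shriekBCHom j k wU wV e).app A =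
    (shriekD wV).map ((restrictD wU).map ((adjunction j).unit.app A)) ≫
      (shriekD wV).map ((restrictDSquare e).hom.app ((shriekD j).obj A)) ≫
        (adjunction wV).counit.app ((restrictD k).obj ((shriekD j).obj A)) := rfl
  rw [h2]
  infer_instance

/-- Base change for extension by zero: `wV_! wU^* ≅ k^* j_!`. -/
noncomputable def shriekBC : restrictD wU ⋙ shriekD wV ≅ shriekD j ⋙ restrictD k :=
  haveI : ∀ A, IsIso ((shriekBCHom j k wU wV e).app A) := isIso_shriekBCHom_app j k wU wV e hW
  haveI : IsIso (shriekBCHom j k wU wV e) := NatIso.isIso_of_isIso_app _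
  asIso (shriekBCHom j k wU wV e)

/-- Base change for direct images along open immersions: `j^* Rk_* ≅ RwU_* wV^*`, for arbitrary
right adjoints of the restriction functors. -/
noncomputable def pushBC (Rk : DCoh.D V ⥤ DCoh.D X) (adjk : restrictD k ⊣ Rk)
    (Rw : DCoh.D W ⥤ DCoh.D U) (adjw : restrictD wU ⊣ Rw) :
    Rk ⋙ restrictD j ≅ restrictD wV ⋙ Rw :=
  (conjugateIsoEquiv ((adjunction j).comp adjk) (adjw.comp (adjunction wV)))
    (shriekBC j k wU wV e hW)

end Groth.Agent.PerfC.ExtZeroD
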