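import Mathlib.Algebra.Homology.DerivedCategory.TStructure
import Mathlib.Algebra.Homology.DerivedCategory.FullyFaithful
import Mathlib.Algebra.Homology.DerivedCategory.ExactFunctor

/-!
# Auxiliary lemmas on derived categories of abelian categories
-/

set_option autoImplicit false

open CategoryTheory CategoryTheory.Limits Pretriangulated DerivedCategory ZeroObject

universe w v u

namespace Groth.Agent.PerfC.DerAux

variable {C : Type u} [Category.{v} C] [Abelian C] [HasDerivedCategory.{w} C]

/-- In a distinguished triangle whose first two terms are `≤ p` and whose first map is an epimorphism on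
`H^p`, the third term is `≤ p - 1`. -/
lemma isLE_obj₃_of_epi (T : Triangle (DerivedCategory C)) (hT : T ∈ distTriang _) (p q : ℤ)
    (hq : q + 1 = p) [h₁ : T.obj₁.IsLE p] [h₂ : T.obj₂.IsLE p]
    (h : Epi ((homologyFunctor C p).map T.mor₁)) : T.obj₃.IsLE q := by
  rw [isLE_iff]
  intro i hi
  have hz : IsZero ((homologyFunctor C (i + 1)).obj T.obj₁) := isZero_of_isLE _ p _ (by lia)
  have hepi : Epi ((homologyFunctor C i).map T.mor₂) := by
    rw [HomologySequence.epi_homologyMap_mor₂_iff T hT i (i + 1)]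
    exact hz.eq_of_tgt _ _
  by_cases hip : p < i
  · have hz₂ : IsZero ((homologyFunctor C i).obj T.obj₂) := isZero_of_isLE _ p _ hip
    rw [IsZero.iff_id_eq_zero, ← cancel_epi ((homologyFunctor C i).map T.mor₂)]
    exact hz₂.eq_of_src _ _
  · obtain rfl : i = p := by lia
    have := (HomologySequence.epi_homologyMap_mor₁_iff T hT i).1 h
    rw [IsZero.iff_id_eq_zero, ← cancel_epi ((homologyFunctor C i).map T.mor₂), this]
    simp

/-- If the outer terms of a distinguished triangle are `≤ p`, so is the middle one. -/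
lemma isLE_obj₂ (T : Triangle (DerivedCategory C)) (hT : T ∈ distTriang _) (p : ℤ)
    (h₁ : T.obj₁.IsLE p) (h₃ : T.obj₃.IsLE p) : T.obj₂.IsLE p := by
  rw [isLE_iff]
  intro i hi
  exact (HomologySequence.exact₂ T hT i).isZero_of_both_zeros
    ((isZero_of_isLE T.obj₁ p i hi).eq_of_src _ _) ((isZero_of_isLE T.obj₃ p i hi).eq_of_tgt _ _)

/-- An object of the derived category which is `≤ p` for all `p` is zero. -/
lemma isZero_of_forall_isLE (K : DerivedCategory C) (h : ∀ p : ℤ, K.IsLE p) : IsZero K := by
  have hi : IsIso (0 : K ⟶ 0) := by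
    rw [isIso_iff]
    intro n
    have h₁ : IsZero ((homologyFunctor C n).obj K) := by
      have := h (n - 1)
      exact isZero_of_isLE K (n - 1) n (by lia)
    have h₂ : IsZero ((homologyFunctor C n).obj (0 : DerivedCategory C)) :=
      (homologyFunctor C n).map_isZero (isZero_zero _)
    exact ⟨0, h₁.eq_of_src _ _, h₂.eq_of_src _ _⟩
  exact (isZero_zero _).of_iso (asIso (0 : K ⟶ 0))

section Single

omit [HasDerivedCategory.{w} C]

variable (F : CochainComplex C ℤ) (p : ℤ) [F.IsStrictlyLE p]

/-- For a complex that is strictly `≤ p`, `H^p(F)` is the cokernel of `F^{p-1} → F^p`. -/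
instance isIso_homologyι : IsIso (F.homologyι p) := by
  have : F.d p ((ComplexShape.up ℤ).next p) = 0 :=
    (F.isZero_of_isStrictlyLE p _ (by simp)).eq_of_tgt _ _
  exact F.isIso_homologyι p _ rfl this

/-- The map of complexes `A[-p] ⟶ F` attached to a map `A ⟶ F^p`, when `F` is strictly `≤ p`. -/
noncomputable def mapFromSingle {A : C} (ψ : A ⟶ F.X p) :
    (HomologicalComplex.single C (ComplexShape.up ℤ) p).obj A ⟶ F :=
  HomologicalComplex.mkHomFromSingle ψ (fun k hk => by
    have : k = p + 1 := by simpa using hk.symm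
    subst this
    exact (F.isZero_of_isStrictlyLE p _ (by lia)).eq_of_tgt _ _)

lemma homologyMap_mapFromSingle {A : C} (ψ : A ⟶ F.X p) :
    (HomologicalComplex.singleObjHomologySelfIso (ComplexShape.up ℤ) p A).inv ≫
      HomologicalComplex.homologyMap (mapFromSingle F p ψ) p ≫ F.homologyι p =
        ψ ≫ F.pOpcycles p := by
  rw [HomologicalComplex.homologyι_naturality,
    HomologicalComplex.singleObjHomologySelfIso_inv_homologyι_assoc,
    HomologicalComplex.singleObjOpcyclesSelfIso_hom, Category.assoc,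
    HomologicalComplex.p_opcyclesMap, mapFromSingle, HomologicalComplex.mkHomFromSingle_f]
  simp

lemma epi_homologyMap_mapFromSingle {A : C} (ψ : A ⟶ F.X p) [Epi (ψ ≫ F.pOpcycles p)] :
    Epi (HomologicalComplex.homologyMap (mapFromSingle F p ψ) p) := by
  have h := homologyMap_mapFromSingle F p ψ
  have : HomologicalComplex.homologyMap (mapFromSingle F p ψ) p =
      (HomologicalComplex.singleObjHomologySelfIso (ComplexShape.up ℤ) p A).hom ≫
        (ψ ≫ F.pOpcycles p) ≫ inv (F.homologyι p) := by
    rw [← h]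
    simp only [Category.assoc, IsIso.hom_inv_id, Category.comp_id, Iso.hom_inv_id_assoc]
  rw [this]
  infer_instance

end Single

section Single'

variable (F : CochainComplex C ℤ) (p : ℤ) [F.IsStrictlyLE p]

/-- `H^p` of an object represented by a complex strictly `≤ p` is the cokernel of the last differential. -/
noncomputable def isoOpcycles {K : DerivedCategory C} (e : K ≅ Q.obj F) :
    (homologyFunctor C p).obj K ≅ F.opcycles p :=
  (homologyFunctor C p).mapIso e ≪≫ (homologyFunctorFactors C p).app F ≪≫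
    (asIso (F.homologyι p) : F.homology p ≅ F.opcycles p)

/-- A morphism of complexes which is epi on `H^p` induces a morphism in the derived category which is epi
on `H^p`. -/
lemma epi_homology_Q_map {K L : CochainComplex C ℤ} (f : K ⟶ L) (p : ℤ)
    (h : Epi (HomologicalComplex.homologyMap f p)) : Epi ((homologyFunctor C p).map (Q.map f)) :=
  ((MorphismProperty.epimorphisms C).arrow_mk_iso_iff
    (((Functor.mapArrowFunctor _ _).mapIso (homologyFunctorFactors C p)).app (Arrow.mk f))).2 h

/-- A map `A ⟶ F^p` whose composition to `coker (F^{p-1} ⟶ F^p)` is epi induces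
`A[-p] ⟶ F` which is epi on `H^p`. -/
lemma exists_map_single {A : C} (ψ : A ⟶ F.X p) (h : Epi (ψ ≫ F.pOpcycles p)) :
    ∃ α : (singleFunctor C p).obj A ⟶ Q.obj F, Epi ((homologyFunctor C p).map α) := by
  refine ⟨(singleFunctorIsoCompQ C p).hom.app A ≫ Q.map (mapFromSingle F p ψ), ?_⟩
  have h2 := epi_homology_Q_map (mapFromSingle F p ψ) p (epi_homologyMap_mapFromSingle F p ψ)
  rw [Functor.map_comp]
  exact @epi_comp _ _ _ _ _ _ inferInstance _ h2

universe w' v' u'

variable {B : Type u'} [Category.{v'} B] [Abelian B] [HasDerivedCategory.{w'} B]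
  (Φ : C ⥤ B) [Φ.Additive] [PreservesFiniteLimits Φ] [PreservesFiniteColimits Φ]

omit [HasDerivedCategory.{w} C] [HasDerivedCategory.{w'} B] in
lemma epi_comp_pOpcycles (K : CochainComplex C ℤ) {E : B}
    (ψ : E ⟶ ((Φ.mapHomologicalComplex (ComplexShape.up ℤ)).obj K).X p)
    (h : Epi (Y := Φ.obj (K.opcycles p))
      (CategoryStruct.comp (Y := Φ.obj (K.X p)) ψ (Φ.map (K.pOpcycles p)))) :
    Epi (ψ ≫ ((Φ.mapHomologicalComplex (ComplexShape.up ℤ)).obj K).pOpcycles p) := by
  let e : ((Φ.mapHomologicalComplex (ComplexShape.up ℤ)).obj K).opcycles p ≅ Φ.obj (K.opcycles p) :=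
    ((K.sc p).rightHomologyData.map Φ).opcyclesIso
  have he : ((Φ.mapHomologicalComplex (ComplexShape.up ℤ)).obj K).pOpcycles p ≫ e.hom =
      Φ.map (K.pOpcycles p) :=
    ((K.sc p).rightHomologyData.map Φ).pOpcycles_comp_opcyclesIso_hom
  have h3 : Epi ((ψ ≫ ((Φ.mapHomologicalComplex (ComplexShape.up ℤ)).obj K).pOpcycles p) ≫
    e.hom) := by
    rw [Category.assoc, he]
    exact h
  exact (epi_comp_iff_of_isIso _ _).1 h3

/-- The same after applying an exact functor `Φ`: a map `E ⟶ Φ(F^p)` with epi composition to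
`Φ(coker d)` induces `E[-p] ⟶ Φ(F)` which is epi on `H^p`. -/
lemma exists_map_single_exact {K : DerivedCategory C} (e : K ≅ Q.obj F) {E : B}
    (ψ : E ⟶ Φ.obj (F.X p)) (h : Epi (ψ ≫ Φ.map (F.pOpcycles p))) :
    ∃ α : (singleFunctor B p).obj E ⟶ Φ.mapDerivedCategory.obj K,
      Epi ((homologyFunctor B p).map α) := by
  let G : CochainComplex B ℤ := (Φ.mapHomologicalComplex (ComplexShape.up ℤ)).obj F
  have : G.IsStrictlyLE p := by
    rw [CochainComplex.isStrictlyLE_iff]
    intro i hi
    exact Φ.map_isZero (F.isZero_of_isStrictlyLE p i hi)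
  obtain ⟨α, hα⟩ := exists_map_single G p (A := E) ψ (epi_comp_pOpcycles p Φ F ψ h)
  refine ⟨α ≫ Φ.mapDerivedCategoryFactors.inv.app F ≫ Φ.mapDerivedCategory.map e.inv, ?_⟩
  rw [Functor.map_comp]
  exact epi_comp _ _

end Single'

end Groth.Agent.PerfC.DerAux
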