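import Groth.Agent.PerfC.PcLocal
import Groth.Agent.Dcoh.LocLift
import Groth.Agent.PerfC.DerAux
import Groth.Agent.CohqB.FiniteType

/-!
# Covering the top cohomology sheaf of an object of `D(O_X)` by a finite free module, locally
-/

set_option autoImplicit false
universe u

open CategoryTheory CategoryTheory.Limits AlgebraicGeometry DerivedCategory
open Groth.Agent.PerfA Groth.Agent.PerfA.Restrict Groth.Agent.Dcoh.LocLift
open Groth.Agent.PerfC.DerAux Groth.Agent.PerfC.PcLocal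

attribute [local instance] HasDerivedCategory.standard

namespace Groth.Agent.PerfC.PCCover

variable {X Y : Scheme.{u}}

/-- If `K ∈ D(O_X)` is `≤ p` and `O_X^n ⟶ H^p(K)` is an epimorphism then, locally on `X`, there is a map
`O_V^n[-p] ⟶ K|_V` inducing an epimorphism on `H^p`. -/
theorem exists_cover_of_epi (K : DCoh.D X) (p : ℤ) [K.IsLE p] {n : ℕ}
    (q : FlatMod.freeMod X n ⟶ DCoh.HD K p) [Epi q] (x : X) :
    ∃ (V : X.Opens), x ∈ V ∧
      ∃ α : (singleFunctor _ p).obj (FlatMod.freeMod (V : Scheme.{u}) n) ⟶ (restrictD V.ι).obj K,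
        Epi ((homologyFunctor _ p).map α) := by
  obtain ⟨F, hF, ⟨e⟩⟩ := exists_iso_Q_obj_of_isLE K p
  obtain ⟨V, hxV, ψ, hψ⟩ := exists_lifts_of_isFinLocFree (F.pOpcycles p)
    (q ≫ (isoOpcycles F p e).hom) (isFinLocFree_freeMod n) x
  refine ⟨V, hxV, ?_⟩
  refine exists_map_single_exact F p (Scheme.Modules.restrictFunctor V.ι) e
    ((freeModRestrict V.ι n).inv ≫ ψ) ?_
  rw [Category.assoc, hψ]
  infer_instance

/-- `K` receives a map `O_X^n[-p] ⟶ K` that is an epimorphism on `H^p`. -/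
def HasCover (K : DCoh.D X) (p : ℤ) : Prop :=
  ∃ (n : ℕ) (α : (singleFunctor _ p).obj (FlatMod.freeMod X n) ⟶ K),
    Epi ((homologyFunctor _ p).map α)

lemma HasCover.of_iso {K L : DCoh.D X} {p : ℤ} (h : HasCover K p) (e : K ≅ L) : HasCover L p := by
  obtain ⟨n, α, hα⟩ := h
  refine ⟨n, α ≫ e.hom, ?_⟩
  rw [Functor.map_comp]
  exact epi_comp _ _

/-- Restriction of `O^n[-p]` along an open immersion. -/
noncomputable def singleFreeModRestrict (j : X ⟶ Y) [IsOpenImmersion j] (n : ℕ) (p : ℤ) :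
    (restrictD j).obj ((singleFunctor _ p).obj (FlatMod.freeMod Y n)) ≅
      (singleFunctor _ p).obj (FlatMod.freeMod X n) :=
  ((Scheme.Modules.restrictFunctor j).mapDerivedCategorySingleFunctor p).app _ ≪≫
    (singleFunctor _ p).mapIso (freeModRestrict j n)

lemma HasCover.restrict {K : DCoh.D Y} {p : ℤ} (h : HasCover K p) (j : X ⟶ Y)
    [IsOpenImmersion j] : HasCover ((restrictD j).obj K) p := by
  obtain ⟨n, α, hα⟩ := h
  refine ⟨n, (singleFreeModRestrict j n p).inv ≫ (restrictD j).map α, ?_⟩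
  have := epi_map_restrictD j α p hα
  rw [Functor.map_comp]
  infer_instance

/-- Restriction to a smaller open subset. -/
noncomputable def restrictDLE (K : DCoh.D X) {V W : X.Opens} (h : W ≤ V) :
    (restrictD (X.homOfLE h)).obj ((restrictD V.ι).obj K) ≅ (restrictD W.ι).obj K :=
  (restrictDComp (X.homOfLE h) V.ι).app K ≪≫ (restrictDCongr (X.homOfLE_ι h)).app K

lemma HasCover.mono {K : DCoh.D X} {p : ℤ} {V W : X.Opens} (h : W ≤ V)
    (hV : HasCover ((restrictD V.ι).obj K) p) : HasCover ((restrictD W.ι).obj K) p :=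
  (hV.restrict (X.homOfLE h)).of_iso (restrictDLE K h)

/-- Same as `exists_cover_of_epi` with the epimorphism given only locally on `X`. -/
theorem exists_cover_of_local_epi (K : DCoh.D X) (p : ℤ) [K.IsLE p] (x : X)
    (h : ∃ (V : X.Opens) (n : ℕ) (q : FlatMod.freeMod (V : Scheme.{u}) n ⟶ (DCoh.HD K p).restrict V.ι),
      x ∈ V ∧ Epi q) :
    ∃ (V : X.Opens), x ∈ V ∧ HasCover ((restrictD V.ι).obj K) p := by
  obtain ⟨V, n, q, hxV, hq⟩ := h
  have := ExactD.isLE_map (Scheme.Modules.restrictFunctor V.ι) K p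
  obtain ⟨W, hW, α, hα⟩ := exists_cover_of_epi ((restrictD V.ι).obj K) p
    (q ≫ (HDrestrict V.ι K p).inv) ⟨x, hxV⟩
  have e : (V.ι.isoImage W).inv ≫ W.ι ≫ V.ι = (V.ι ''ᵁ W).ι := by
    rw [Iso.inv_comp_eq]; exact (Scheme.Hom.isoImage_hom_ι V.ι W).symm
  have h1 : HasCover ((restrictD W.ι).obj ((restrictD V.ι).obj K)) p := ⟨n, α, hα⟩
  refine ⟨V.ι ''ᵁ W, ⟨⟨x, hxV⟩, hW, rfl⟩, (h1.restrict (V.ι.isoImage W).inv).of_iso ?_⟩
  exact (restrictD (V.ι.isoImage W).inv).mapIso ((restrictDComp W.ι V.ι).app K) ≪≫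
      (restrictDComp (V.ι.isoImage W).inv (W.ι ≫ V.ι)).app K ≪≫ (restrictDCongr e).app K

/-- The cone of a cover lives in degrees `< p`. -/
theorem HasCover.exists_triangle {K : DCoh.D X} {p : ℤ} [hK : K.IsLE p] (h : HasCover K p) {q : ℤ}
    (hq : q + 1 = p) :
    ∃ (n : ℕ) (C : DCoh.D X) (α : (singleFunctor _ p).obj (FlatMod.freeMod X n) ⟶ K)
      (β : K ⟶ C) (γ : C ⟶ ((singleFunctor _ p).obj (FlatMod.freeMod X n))⟦(1 : ℤ)⟧),
      Pretriangulated.Triangle.mk α β γ ∈ Pretriangulated.distinguishedTriangles ∧ C.IsLE q := by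
  obtain ⟨n, α, hα⟩ := h
  obtain ⟨C, β, γ, hT⟩ := Pretriangulated.distinguished_cocone_triangle α
  exact ⟨n, C, α, β, γ, hT, isLE_obj₃_of_epi _ hT p q hq
    (h₁ := inferInstanceAs (((singleFunctor _ p).obj (FlatMod.freeMod X n)).IsLE p))
    (h₂ := hK) hα⟩

/-- A module with finitely many generating sections is a quotient of a finite free module. -/
theorem exists_epi_of_hasFinGen {M : X.Modules} (h : CohqB.FiniteType.HasFinGen M) :
    ∃ (n : ℕ) (q : FlatMod.freeMod X n ⟶ M), Epi q := by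
  obtain ⟨σ, hσ⟩ := h
  have : Finite σ.I := hσ.finite
  obtain ⟨n, ⟨e⟩⟩ := Finite.exists_equiv_fin σ.I
  let π : (∐ fun _ : σ.I => Coh.structureModule X) ⟶ M := σ.π
  have hπ : Epi π := σ.epi
  refine ⟨n, (Sigma.whiskerEquiv e (fun _ => Iso.refl _)).inv ≫ π, epi_comp _ _⟩

theorem exists_epi_of_isFT {M : X.Modules} (h : CohB1.IsFT M) (x : X) :
    ∃ (V : X.Opens) (n : ℕ) (q : FlatMod.freeMod (V : Scheme.{u}) n ⟶ M.restrict V.ι),
      x ∈ V ∧ Epi q := by
  obtain ⟨V, hx, hV⟩ := (CohqB.FiniteType.isFT_iff_hasFinGen M).1 h x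
  obtain ⟨n, q, hq⟩ := exists_epi_of_hasFinGen hV
  exact ⟨V, n, q, hx, hq⟩

/-- If `K` is `≤ p` and `H^p(K)` is of finite type then `K` has covers locally. -/
theorem exists_cover_of_isFT (K : DCoh.D X) (p : ℤ) [K.IsLE p] (h : CohB1.IsFT (DCoh.HD K p))
    (x : X) : ∃ (V : X.Opens), x ∈ V ∧ HasCover ((restrictD V.ι).obj K) p :=
  exists_cover_of_local_epi K p x (exists_epi_of_isFT h x)

end Groth.Agent.PerfC.PCCover
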