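import Mathlib.CategoryTheory.Limits.Constructions.FiniteProductsOfBinaryProducts
import Mathlib.CategoryTheory.Preadditive.Biproducts

/-!
# Induction on finite direct sums
-/

set_option autoImplicit false

open CategoryTheory CategoryTheory.Limits

universe v u

namespace Groth.Agent.PerfC.SigmaInd

variable {C : Type u} [Category.{v} C] [Preadditive C] [HasBinaryBiproducts C] [HasFiniteCoproducts C]

/-- The direct sum of `n + 1` objects is the sum of the first with the direct sum of the `n` others. -/
noncomputable def sigmaSucc {n : ℕ} (f : Fin (n + 1) → C) :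
    (f 0) ⊞ (∐ fun i : Fin n => f i.succ) ≅ ∐ f :=
  (extendCofanIsColimit f (c₁ := Cofan.mk (∐ fun i : Fin n => f i.succ) (Sigma.ι _))
    (c₂ := (BinaryBiproduct.bicone (f 0) (∐ fun i : Fin n => f i.succ)).toCocone)
    (coproductIsCoproduct _) (BinaryBiproduct.isColimit _ _)).coconePointUniqueUpToIso
    (coproductIsCoproduct f)

/-- A property stable under isomorphisms, containing zero objects and stable under binary sums holds for
finite sums of objects that have it. -/
lemma sigma_fin (P : C → Prop) (hiso : ∀ {A B : C}, (A ≅ B) → P A → P B)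
    (h0 : ∀ A : C, IsZero A → P A) (hadd : ∀ A B : C, P A → P B → P (A ⊞ B)) (n : ℕ)
    (f : Fin n → C) (hf : ∀ i, P (f i)) : P (∐ f) := by
  induction n with
  | zero =>
    refine h0 _ ?_
    rw [IsZero.iff_id_eq_zero]
    exact Sigma.hom_ext _ _ (fun j => j.elim0)
  | succ n ih => exact hiso (sigmaSucc f) (hadd _ _ (hf 0) (ih _ fun i => hf i.succ))

end Groth.Agent.PerfC.SigmaInd
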