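import Groth.Agent.PerfC.PcShift
import Groth.Agent.PerfC.SigmaInd
import Groth.Agent.S0889
import Groth.Agent.S0890

/-!
# Pseudo-coherence of exact functors applied to free modules
-/

set_option autoImplicit false
universe u

open CategoryTheory CategoryTheory.Limits AlgebraicGeometry DerivedCategory Pretriangulated
open Groth.Agent.PerfA Groth.Agent.PerfA.Restrict Groth.Agent.PerfC.PcLocal
open Groth.Agent.PerfC.PcShift ZeroObject

attribute [local instance] HasDerivedCategory.standard

namespace Groth.Agent.PerfC.PcPush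

variable {X Z : Scheme.{u}}

lemma pc_of_isZero {K : DCoh.D X} (h : IsZero K) (m : ℤ) : DCoh.IsPseudoCoherentD m K :=
  pc_of_vanish fun _ _ => Functor.map_isZero _ h

lemma pc_biprod {m : ℤ} {K L : DCoh.D X} (hK : DCoh.IsPseudoCoherentD m K)
    (hL : DCoh.IsPseudoCoherentD m L) : DCoh.IsPseudoCoherentD m (K ⊞ L) :=
  (S0889.result m _ (binaryBiproductTriangle_distinguished K L)).2.1 hK hL

variable (F : Z.Modules ⥤ X.Modules) [F.Additive] [PreservesFiniteLimits F]
  [PreservesFiniteColimits F]

/-- If `F(O_Z)` is pseudo-coherent, so is `F(O_Z^n)[-p]`. -/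
lemma pc_map_single_freeMod (hO : ∀ m : ℤ, DCoh.IsPseudoCoherentD m
      (DCoh.inD X (F.obj (Coh.structureModule Z)))) (n : ℕ) (p m : ℤ) :
    DCoh.IsPseudoCoherentD m
      (F.mapDerivedCategory.obj ((singleFunctor Z.Modules p).obj (FlatMod.freeMod Z n))) := by
  have key : ∀ m : ℤ, DCoh.IsPseudoCoherentD m (DCoh.inD X (F.obj (FlatMod.freeMod Z n))) := by
    refine SigmaInd.sigma_fin (fun A => ∀ m : ℤ, DCoh.IsPseudoCoherentD m
      (DCoh.inD X (F.obj A))) ?_ ?_ ?_ n _ (fun _ => hO)
    · intro A B e h m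
      exact pc_of_iso ((singleFunctor _ 0).mapIso (F.mapIso e)) (h m)
    · intro A hA m
      exact pc_of_isZero (Functor.map_isZero _ (Functor.map_isZero _ hA)) m
    · intro A B hA hB m
      have : PreservesBinaryBiproducts (F ⋙ singleFunctor X.Modules 0) :=
        preservesBinaryBiproducts_of_preservesBiproducts _
      exact pc_of_iso ((F ⋙ singleFunctor X.Modules 0).mapBiprod A B).symm
        (pc_biprod (hA m) (hB m))
  exact pc_of_iso ((F.mapDerivedCategorySingleFunctor p).symm.app _)
    ((pc_single_iff (F.obj (FlatMod.freeMod Z n)) (n := m - p) (by lia)).2 (key _))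

/-- `O_X^n[-p]` is pseudo-coherent. -/
lemma pc_single_freeMod (n : ℕ) (p m : ℤ) :
    DCoh.IsPseudoCoherentD m ((singleFunctor Z.Modules p).obj (FlatMod.freeMod Z n)) := by
  refine (pc_single_iff (FlatMod.freeMod Z n) (n := m - p) (by lia)).2 ?_
  refine pc_of_iso (((singleFunctorIsoCompQ Z.Modules 0).app (FlatMod.freeMod Z n)).symm)
    (pc_of_isStrictlyPerfect (E := (CochainComplex.singleFunctor Z.Modules 0).obj
      (FlatMod.freeMod Z n)) ⟨⟨0, 0, ?_⟩, ?_⟩ (m - p))
  · intro i hi
    exact HomologicalComplex.isZero_single_obj_X _ _ _ _ (by lia)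
  · intro i
    by_cases hi : i = 0
    · subst hi
      exact isFinLocFree_of_iso
        (HomologicalComplex.singleObjXSelf (ComplexShape.up ℤ) 0 _).symm (isFinLocFree_freeMod n)
    · exact isFinLocFree_of_isZero (HomologicalComplex.isZero_single_obj_X _ _ _ _ hi)

/-- If an `m`-pseudo-coherent object has vanishing cohomology above `p ≥ m`, then `H^p` is locally
generated by finitely many sections. -/
lemma isFT_of_pc {K : DCoh.D X} {m p : ℤ} (hmp : m ≤ p) [K.IsLE p]
    (h : DCoh.IsPseudoCoherentD m K) : CohB1.IsFT (DCoh.HD K p) :=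
  (S0890.result p K (pc_mono hmp h)).1 fun i hi => isZero_of_isLE K p i hi

end Groth.Agent.PerfC.PcPush
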