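import Groth.Agent.PerfC.ClosedPush
import Groth.Agent.PerfC.PCCover
import Groth.Agent.PerfC.PcPush

/-!
# Pseudo-coherence and pushforward along a closed immersion (Stacks 09VA)
-/

set_option autoImplicit false
universe u

open CategoryTheory CategoryTheory.Limits AlgebraicGeometry DerivedCategory Pretriangulated
open Groth.Agent.PerfA Groth.Agent.PerfA.Restrict Groth.Agent.PerfC.PcLocal
open Groth.Agent.PerfC.DerAux
open Groth.Agent.PerfC.ClosedPush Groth.Agent.PerfC.PCCover Groth.Agent.PerfC.PcPush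

attribute [local instance] HasDerivedCategory.standard

namespace Groth.Agent.PerfC.ClosedImmPc

section

variable {X Z : Scheme.{u}} (i : Z ⟶ X) [IsClosedImmersion i]

/-- Termwise pushforward along a closed immersion. -/
noncomputable abbrev pushD : DCoh.D Z ⥤ DCoh.D X :=
  (Scheme.Modules.pushforward i).mapDerivedCategory

/-- `(i_* E)|_V = (i|_V)_* (E|_{i⁻¹ V})`. -/
noncomputable def pushDRestrict (V : X.Opens) :
    pushD i ⋙ restrictD V.ι ≅ restrictD (i ⁻¹ᵁ V).ι ⋙ pushD (i ∣_ V) :=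
  ExactD.mapDComp (Iso.refl _) ≪≫
    (ExactD.mapDComp (PushRestrict.pushforwardRestrictIso i V).symm).symm

/-- `(i_* O_Z)|_V = (i|_V)_* O_{i⁻¹ V}`. -/
noncomputable def pushUnitRestrict (V : X.Opens) :
    (restrictD V.ι).obj (DCoh.inD X ((Scheme.Modules.pushforward i).obj (Coh.structureModule Z))) ≅
      DCoh.inD V ((Scheme.Modules.pushforward (i ∣_ V)).obj
        (Coh.structureModule (i ⁻¹ᵁ V : Z.Opens))) :=
  PerfLocal.restrictInD V.ι _ ≪≫ (singleFunctor _ 0).mapIso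
    ((PushRestrict.pushforwardRestrictIso i V).app _ ≪≫
      (Scheme.Modules.pushforward (i ∣_ V)).mapIso (Scheme.Modules.restrictUnitIso _))

/-- The hypothesis of Stacks 09VA. -/
def PO : Prop := ∀ m : ℤ, DCoh.IsPseudoCoherentD m
  (DCoh.inD X ((Scheme.Modules.pushforward i).obj (Coh.structureModule Z)))

omit [IsClosedImmersion i] in
lemma PO.restrict {i : Z ⟶ X} (h : PO i) (V : X.Opens) : PO (i ∣_ V) := fun m =>
  pc_of_iso (pushUnitRestrict i V) (pc_restrict V.ι (h m))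

/-- The homology of `i_* E`. -/
noncomputable def pushHD (E : DCoh.D Z) (p : ℤ) :
    DCoh.HD ((pushD i).obj E) p ≅ (Scheme.Modules.pushforward i).obj (DCoh.HD E p) :=
  ((ExactD.mapHomology (Scheme.Modules.pushforward i) p).app E)

lemma isLE_of_isLE_pushD (E : DCoh.D Z) (p : ℤ) (h : ((pushD i).obj E).IsLE p) : E.IsLE p := by
  rw [isLE_iff] at h ⊢
  intro n hn
  exact isZero_of_isZero_pushforward i ((h n hn).of_iso (pushHD i E n).symm)

lemma isLE_pushD (E : DCoh.D Z) (p : ℤ) (h : E.IsLE p) : ((pushD i).obj E).IsLE p :=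
  ExactD.isLE_map _ E p

/-- Over an empty scheme every object is zero. -/
lemma isZero_of_isEmpty (h : IsEmpty X) (K : DCoh.D X) : IsZero K :=
  isZero_of_forall_isLE K fun _ => (isLE_iff _ _).2 fun _ _ =>
    (isZero_iff_stalk _).2 fun x => h.elim x

/-- Reduction of the statement to small opens around the points of `Z`. -/
lemma iff_of_local {m : ℤ} (E : DCoh.D Z)
    (h : (DCoh.IsPseudoCoherentD m E ∨ DCoh.IsPseudoCoherentD m ((pushD i).obj E)) →
      ∀ z : Z, ∃ V : X.Opens, i z ∈ V ∧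
        (DCoh.IsPseudoCoherentD m ((restrictD (i ⁻¹ᵁ V).ι).obj E) ↔
          DCoh.IsPseudoCoherentD m ((pushD (i ∣_ V)).obj ((restrictD (i ⁻¹ᵁ V).ι).obj E)))) :
    DCoh.IsPseudoCoherentD m E ↔ DCoh.IsPseudoCoherentD m ((pushD i).obj E) := by
  constructor
  · intro hE
    refine pc_of_cover _ fun x => ?_
    by_cases hx : x ∈ Set.range i
    · obtain ⟨z, rfl⟩ := hx
      obtain ⟨V, hV, hV'⟩ := h (Or.inl hE) z
      exact ⟨V, V.ι, inferInstance, ⟨i z, hV⟩, rfl,
        pc_of_iso ((pushDRestrict i V).symm.app E) (hV'.1 (pc_restrict _ hE))⟩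
    · let V : X.Opens := ⟨(Set.range i)ᶜ, i.isClosedEmbedding.isClosed_range.isOpen_compl⟩
      refine ⟨V, V.ι, inferInstance, ⟨x, hx⟩, rfl, pc_of_isZero ?_ m⟩
      have h0 : IsEmpty (i ⁻¹ᵁ V : Z.Opens).toScheme := ⟨fun z => z.2 ⟨z.1, rfl⟩⟩
      exact ((pushD (i ∣_ V)).map_isZero (isZero_of_isEmpty h0 _)).of_iso
        ((pushDRestrict i V).app E)
  · intro hE
    refine pc_of_cover _ fun z => ?_
    obtain ⟨V, hV, hV'⟩ := h (Or.inr hE) z
    exact ⟨(i ⁻¹ᵁ V : Z.Opens), (i ⁻¹ᵁ V).ι, inferInstance, ⟨z, hV⟩, rfl,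
      hV'.2 (pc_of_iso ((pushDRestrict i V).app E) (pc_restrict V.ι hE))⟩

omit [IsClosedImmersion i] in
/-- In a triangle with pseudo-coherent first term, the second is `m`-pseudo-coherent iff the third is. -/
lemma pc_iff_of_triangle {A B C : DCoh.D X} {α : A ⟶ B} {β : B ⟶ C} {γ : C ⟶ A⟦(1 : ℤ)⟧}
    (hT : Triangle.mk α β γ ∈ distinguishedTriangles)
    (h : ∀ m, DCoh.IsPseudoCoherentD m A) (m : ℤ) :
    DCoh.IsPseudoCoherentD m B ↔ DCoh.IsPseudoCoherentD m C :=
  ⟨(S0889.result m _ hT).1 (h (m + 1)), (S0889.result m _ hT).2.1 (h m)⟩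

omit [IsClosedImmersion i] in
/-- The same after applying an exact functor. -/
lemma pc_iff_of_triangle_map (F : Z.Modules ⥤ X.Modules) [F.Additive] [PreservesFiniteLimits F]
    [PreservesFiniteColimits F] {A B C : DCoh.D Z} {α : A ⟶ B} {β : B ⟶ C}
    {γ : C ⟶ A⟦(1 : ℤ)⟧} (hT : Triangle.mk α β γ ∈ distinguishedTriangles)
    (h : ∀ m, DCoh.IsPseudoCoherentD m (F.mapDerivedCategory.obj A)) (m : ℤ) :
    DCoh.IsPseudoCoherentD m (F.mapDerivedCategory.obj B) ↔
      DCoh.IsPseudoCoherentD m (F.mapDerivedCategory.obj C) :=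
  pc_iff_of_triangle (F.mapDerivedCategory.map_distinguished _ hT) h m

lemma exists_local_epi {m p : ℤ} (hmp : m ≤ p) (E : DCoh.D Z) (hE : E.IsLE p)
    (h : DCoh.IsPseudoCoherentD m E ∨ DCoh.IsPseudoCoherentD m ((pushD i).obj E)) (z : Z) :
    ∃ (V : Z.Opens) (n : ℕ) (q : FlatMod.freeMod (V : Scheme.{u}) n ⟶ (DCoh.HD E p).restrict V.ι),
      z ∈ V ∧ Epi q := by
  obtain h | h := h
  · exact exists_epi_of_isFT (isFT_of_pc hmp h) z
  · have := isLE_pushD i E p hE
    obtain ⟨V, n, q, hV, hq⟩ := exists_epi_of_isFT (isFT_of_pc hmp h) (i z)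
    let e : (DCoh.HD ((pushD i).obj E) p).restrict V.ι ≅
        (Scheme.Modules.pushforward (i ∣_ V)).obj ((DCoh.HD E p).restrict (i ⁻¹ᵁ V).ι) :=
      (Scheme.Modules.restrictFunctor V.ι).mapIso (pushHD i E p) ≪≫
        (PushRestrict.pushforwardRestrictIso i V).app _
    obtain ⟨ψ, hψ⟩ := exists_adjoint (i ∣_ V) (q ≫ e.hom) (epi_comp _ _)
    exact ⟨i ⁻¹ᵁ V, n, ψ, hV, hψ⟩

end

/-- Stacks 09VA for objects bounded above. -/
theorem iff_of_isLE (k : ℕ) : ∀ {X Z : Scheme.{u}} (i : Z ⟶ X) [IsClosedImmersion i] (_ : PO i)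
    (E : DCoh.D Z) (m : ℤ) (_ : E.IsLE (m - 1 + k)),
    DCoh.IsPseudoCoherentD m E ↔ DCoh.IsPseudoCoherentD m ((pushD i).obj E) := by
  induction k with
  | zero =>
    intro X Z i _ _ E m hE
    have h1 : DCoh.IsPseudoCoherentD m E := pc_of_vanish fun j hj =>
      isZero_of_isLE E (m - 1 + (0 : ℕ)) j (by push_cast; lia)
    have := isLE_pushD i E _ hE
    have h2 : DCoh.IsPseudoCoherentD m ((pushD i).obj E) := pc_of_vanish fun j hj =>
      isZero_of_isLE _ (m - 1 + (0 : ℕ)) j (by push_cast; lia)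
    exact ⟨fun _ => h2, fun _ => h1⟩
  | succ k ih =>
    intro X Z i _ hO E m hE
    have hE' : E.IsLE (m + k) := by
      have : m - 1 + ((k + 1 : ℕ) : ℤ) = m + k := by push_cast; ring
      rwa [this] at hE
    refine iff_of_local i E fun h z => ?_
    obtain ⟨W, hzW, hW⟩ := exists_cover_of_local_epi E (m + k) z
      (exists_local_epi i (by lia) E hE' h z)
    obtain ⟨V, hzV, -, hVW⟩ := exists_preimage_open i W z hzW ⊤ trivial
    refine ⟨V, hzV, ?_⟩
    have hC := hW.mono hVW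
    have : ((restrictD (i ⁻¹ᵁ V).ι).obj E).IsLE (m + k) := ExactD.isLE_map _ E _
    obtain ⟨n, C, α, β, γ, hT, hCle⟩ := hC.exists_triangle (q := m - 1 + k) (by ring)
    have h1 := pc_iff_of_triangle hT (pc_single_freeMod n (m + k)) m
    have h2 := pc_iff_of_triangle_map (Scheme.Modules.pushforward (i ∣_ V)) hT
      (pc_map_single_freeMod (Scheme.Modules.pushforward (i ∣_ V)) (hO.restrict V) n (m + k)) m
    exact h1.trans ((ih (i ∣_ V) (hO.restrict V) C m hCle).trans h2.symm)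


/-- An approximated object is bounded above. -/
lemma exists_isLE_of_hasApprox {X : Scheme.{u}} {m : ℤ} {K : DCoh.D X} (h : HasApprox m K) :
    ∃ k : ℕ, K.IsLE (m - 1 + k) := by
  obtain ⟨E, α, ⟨⟨a, b, hab⟩, -⟩, h1, -⟩ := h
  refine ⟨(max m b - m + 1).toNat, (isLE_iff _ _).2 fun j hj => ?_⟩
  have hj' : max m b < j := by
    have : ((max m b - m + 1).toNat : ℤ) = max m b - m + 1 :=
      Int.toNat_of_nonneg (by have := le_max_left m b; lia)
    lia
  have := h1 j ((le_max_left m b).trans_lt hj')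
  have hz : IsZero ((homologyFunctor X.Modules j).obj (Q.obj E)) := by
    refine IsZero.of_iso ?_ ((homologyFunctorFactors X.Modules j).app E)
    exact ShortComplex.isZero_homology_of_isZero_X₂ _
      (hab j (Or.inr ((le_max_right m b).trans_lt hj')))
  exact hz.of_iso (asIso ((homologyFunctor X.Modules j).map α)).symm

/-- Stacks 09VA. -/
theorem iff_pushD {X Z : Scheme.{u}} (i : Z ⟶ X) [IsClosedImmersion i] (hO : PO i)
    (E : DCoh.D Z) (m : ℤ) :
    DCoh.IsPseudoCoherentD m E ↔ DCoh.IsPseudoCoherentD m ((pushD i).obj E) := by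
  refine iff_of_local i E fun h z => ?_
  obtain h | h := h
  · obtain ⟨W, hz, hW⟩ := (pc_iff m E).1 h z
    obtain ⟨V, hzV, -, hVW⟩ := exists_preimage_open i W z hz ⊤ trivial
    have hV := (hW.restrict (Z.homOfLE hVW)).of_iso (restrictDLE E hVW)
    obtain ⟨k, hk⟩ := exists_isLE_of_hasApprox hV
    exact ⟨V, hzV, iff_of_isLE k (i ∣_ V) (hO.restrict V) _ m hk⟩
  · obtain ⟨V, hz, hV⟩ := (pc_iff m _).1 h (i z)
    obtain ⟨k, hk⟩ := exists_isLE_of_hasApprox (hV.of_iso ((pushDRestrict i V).app E))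
    exact ⟨V, hz, iff_of_isLE k (i ∣_ V) (hO.restrict V) _ m (isLE_of_isLE_pushD (i ∣_ V) _ _ hk)⟩

end Groth.Agent.PerfC.ClosedImmPc
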