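import Groth.Agent.PerfC.PcLocal

/-!
# Local nature of perfectness, through arbitrary open immersions; shifts
-/

set_option autoImplicit false
universe u
open CategoryTheory CategoryTheory.Limits AlgebraicGeometry Pretriangulated
attribute [local instance] HasDerivedCategory.standard

namespace Groth.Agent.PerfC.PerfLocal
open AlgebraicGeometry.Scheme.Modules Groth.Agent.PerfA.Restrict Groth.Agent.PerfA
open Groth.Agent.PerfC.PcLocal ZeroObject

variable {X Y Z : Scheme.{u}}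

/-- `K` is represented by a strictly perfect complex. -/
def IsSP (K : DCoh.D X) : Prop :=
  ∃ E : CochainComplex X.Modules ℤ, DCoh.IsStrictlyPerfect E ∧
    Nonempty (K ≅ DerivedCategory.Q.obj E)

lemma IsSP.of_iso {K L : DCoh.D X} (h : IsSP K) (e : K ≅ L) : IsSP L := by
  obtain ⟨E, hE, ⟨e'⟩⟩ := h
  exact ⟨E, hE, ⟨e.symm ≪≫ e'⟩⟩

lemma IsSP.restrict {K : DCoh.D Y} (h : IsSP K) (j : X ⟶ Y) [IsOpenImmersion j] :
    IsSP ((restrictD j).obj K) := by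
  obtain ⟨E, hE, ⟨e⟩⟩ := h
  exact ⟨_, isStrictlyPerfect_restrict j hE, ⟨(restrictD j).mapIso e ≪≫ restrictDQ j E⟩⟩

lemma IsSP.of_restrict_isIso {K : DCoh.D Y} (j : X ⟶ Y) [IsIso j]
    (h : IsSP ((restrictD j).obj K)) : IsSP K := by
  refine (h.restrict (inv j)).of_iso ?_
  exact (restrictDComp (inv j) j).app K ≪≫ (restrictDCongr (IsIso.inv_hom_id j)).app K ≪≫
    (ExactD.mapDIso restrictFunctorId).app K ≪≫ (ExactD.mapDId _).app K

lemma perf_iff (K : DCoh.D X) :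
    DCoh.IsPerfect K ↔ ∀ x : X, ∃ (V : X.Opens), x ∈ V ∧ IsSP ((restrictD V.ι).obj K) :=
  isPerfect_iff K

/-- Perfectness through a covering family of arbitrary open immersions. -/
lemma perf_iff' (K : DCoh.D X) :
    DCoh.IsPerfect K ↔
      ∀ x : X, ∃ (U : Scheme.{u}) (j : U ⟶ X) (_ : IsOpenImmersion j) (y : U), j y = x ∧
        IsSP ((restrictD j).obj K) := by
  rw [perf_iff]
  constructor
  · intro h x
    obtain ⟨V, hx, hV⟩ := h x
    exact ⟨V, V.ι, inferInstance, ⟨x, hx⟩, rfl, hV⟩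
  · intro h x
    obtain ⟨U, j, hj, y, rfl, hU⟩ := h x
    refine ⟨j.opensRange, ⟨y, rfl⟩, ?_⟩
    refine IsSP.of_restrict_isIso j.isoOpensRange.hom (hU.of_iso ?_)
    exact (restrictDCongr (by simp)).app K ≪≫ (restrictDComp _ _).symm.app K

lemma IsSP.isPerfect {K : DCoh.D X} (h : IsSP K) : DCoh.IsPerfect K :=
  (perf_iff K).2 fun _ => ⟨⊤, trivial, h.restrict _⟩

lemma isPerfect_Q {E : CochainComplex X.Modules ℤ} (hE : DCoh.IsStrictlyPerfect E) :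
    DCoh.IsPerfect (DerivedCategory.Q.obj E) :=
  IsSP.isPerfect ⟨E, hE, ⟨Iso.refl _⟩⟩

lemma perf_of_iso {K L : DCoh.D X} (e : K ≅ L) (h : DCoh.IsPerfect K) : DCoh.IsPerfect L := by
  rw [perf_iff] at h ⊢
  intro x
  obtain ⟨V, hx, hV⟩ := h x
  exact ⟨V, hx, hV.of_iso ((restrictD V.ι).mapIso e)⟩

lemma perf_restrict (j : X ⟶ Y) [IsOpenImmersion j] {K : DCoh.D Y}
    (h : DCoh.IsPerfect K) : DCoh.IsPerfect ((restrictD j).obj K) := by
  rw [perf_iff] at h ⊢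
  intro x
  obtain ⟨V, hx, hV⟩ := h (j x)
  refine ⟨j ⁻¹ᵁ V, hx, ?_⟩
  exact (hV.restrict (j ∣_ V)).of_iso ((restrictDSquare (morphismRestrict_ι j V)).app K)

/-- Perfectness is local. -/
lemma perf_of_cover (K : DCoh.D X)
    (h : ∀ x : X, ∃ (U : Scheme.{u}) (j : U ⟶ X) (_ : IsOpenImmersion j) (y : U), j y = x ∧
        DCoh.IsPerfect ((restrictD j).obj K)) : DCoh.IsPerfect K := by
  rw [perf_iff']
  intro x
  obtain ⟨U, j, hj, y, rfl, hU⟩ := h x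
  obtain ⟨V, hy, hV⟩ := (perf_iff _).1 hU y
  exact ⟨V, V.ι ≫ j, inferInstance, ⟨y, hy⟩, rfl, hV.of_iso ((restrictDComp V.ι j).app K)⟩

lemma perf_of_restrict_isIso {K : DCoh.D Y} (j : X ⟶ Y) [IsIso j]
    (h : DCoh.IsPerfect ((restrictD j).obj K)) : DCoh.IsPerfect K :=
  perf_of_cover K fun y => ⟨X, j, inferInstance, (inv j) y, by
    change ((inv j) ≫ j) y = y
    rw [IsIso.inv_hom_id]; rfl, h⟩

lemma perf_of_isZero {K : DCoh.D X} (h : IsZero K) : DCoh.IsPerfect K :=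
  IsSP.isPerfect ⟨0, isStrictlyPerfect_zero,
    ⟨h.iso (Functor.map_isZero _ (isZero_zero _))⟩⟩

lemma isStrictlyPerfect_shift {E : CochainComplex X.Modules ℤ} (hE : DCoh.IsStrictlyPerfect E)
    (n : ℤ) : DCoh.IsStrictlyPerfect (E⟦n⟧) := by
  obtain ⟨⟨a, b, hab⟩, h⟩ := hE
  refine ⟨⟨a - n, b - n, fun i hi => hab (i + n) ?_⟩, fun i => h (i + n)⟩
  rcases hi with hi | hi
  · left; lia
  · right; lia

lemma IsSP.shift {K : DCoh.D X} (h : IsSP K) (n : ℤ) : IsSP (K⟦n⟧) := by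
  obtain ⟨E, hE, ⟨e⟩⟩ := h
  exact ⟨_, isStrictlyPerfect_shift hE n,
    ⟨(shiftFunctor _ n).mapIso e ≪≫ ((DerivedCategory.Q.commShiftIso n).app E).symm⟩⟩

lemma perf_shift {K : DCoh.D X} (h : DCoh.IsPerfect K) (n : ℤ) : DCoh.IsPerfect (K⟦n⟧) := by
  rw [perf_iff] at h ⊢
  intro x
  obtain ⟨V, hx, hV⟩ := h x
  exact ⟨V, hx, (hV.shift n).of_iso (((restrictD V.ι).commShiftIso n).symm.app K)⟩

lemma IsSP.hasApprox {K : DCoh.D X} (h : IsSP K) (m : ℤ) : HasApprox m K := by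
  obtain ⟨E, hE, ⟨e⟩⟩ := h
  refine ⟨E, e.inv, hE, fun i hi => ?_, ?_⟩ <;> infer_instance

lemma pc_of_perf {K : DCoh.D X} (h : DCoh.IsPerfect K) (m : ℤ) :
    DCoh.IsPseudoCoherentD m K := by
  rw [pc_iff]
  rw [perf_iff] at h
  intro x
  obtain ⟨V, hx, hV⟩ := h x
  exact ⟨V, hx, hV.hasApprox m⟩

end Groth.Agent.PerfC.PerfLocal
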