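import Groth.Prelude.Def_DCoh4
import Mathlib.Algebra.Homology.BifunctorFlip
import Mathlib.Algebra.Homology.BifunctorShift

/-!
# Symmetry of the tensor product of complexes of O_X-modules
-/

set_option autoImplicit false
set_option backward.defeqAttrib.useBackward true
set_option backward.isDefEq.respectTransparency false

universe u v₁ v₂ v₃ u₁ u₂ u₃

open CategoryTheory CategoryTheory.Limits AlgebraicGeometry MonoidalCategory

namespace Groth.Agent.PerfC.TensorSymm

section Bifunctor

open HomologicalComplex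

variable {C₁ : Type u₁} {C₂ : Type u₂} {D : Type u₃} [Category.{v₁} C₁] [Category.{v₂} C₂]
  [Category.{v₃} D] [Preadditive C₁] [Preadditive C₂] [Preadditive D]
  {F G H : C₁ ⥤ C₂ ⥤ D} [F.Additive] [∀ (X₁ : C₁), (F.obj X₁).Additive]
  [G.Additive] [∀ (X₁ : C₁), (G.obj X₁).Additive]
  [H.Additive] [∀ (X₁ : C₁), (H.obj X₁).Additive]
  (τ : F ⟶ G) (τ' : G ⟶ H)
  (K K' : CochainComplex C₁ ℤ) (L L' : CochainComplex C₂ ℤ)
  [CochainComplex.HasMapBifunctor K L F] [CochainComplex.HasMapBifunctor K L G]

/-- The map of total complexes induced by a natural transformation of bifunctors. -/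
noncomputable def bimapNat :
    CochainComplex.mapBifunctor K L F ⟶ CochainComplex.mapBifunctor K L G :=
  HomologicalComplex₂.total.map (HomologicalComplex₂.homMk
    (K := ((F.mapBifunctorHomologicalComplex _ _).obj K).obj L)
    (L := ((G.mapBifunctorHomologicalComplex _ _).obj K).obj L)
    (fun ⟨p, q⟩ => (τ.app (K.X p)).app (L.X q))
    (fun p p' q _ => by
      dsimp
      rw [← NatTrans.comp_app, ← NatTrans.comp_app, τ.naturality])
    (fun p q q' _ => by
      dsimp
      rw [NatTrans.naturality])) _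

@[reassoc (attr := simp)]
lemma ι_bimapNat_f (p q n : ℤ) (h : p + q = n) :
    CochainComplex.ιMapBifunctor K L F p q n h ≫ (bimapNat τ K L).f n =
      (τ.app (K.X p)).app (L.X q) ≫ CochainComplex.ιMapBifunctor K L G p q n h := by
  dsimp [bimapNat]
  erw [HomologicalComplex₂.ιTotal_map]
  rfl

lemma bimapNat_comp [CochainComplex.HasMapBifunctor K L H] :
    bimapNat (τ ≫ τ') K L = bimapNat τ K L ≫ bimapNat τ' K L := by
  ext n p q h
  simp

lemma bimapNat_id : bimapNat (𝟙 F) K L = 𝟙 _ := by
  ext n p q h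
  simp

/-- The isomorphism of total complexes induced by an isomorphism of bifunctors. -/
@[simps]
noncomputable def bimapNatIso (e : F ≅ G) :
    CochainComplex.mapBifunctor K L F ≅ CochainComplex.mapBifunctor K L G where
  hom := bimapNat e.hom K L
  inv := bimapNat e.inv K L
  hom_inv_id := by rw [← bimapNat_comp, e.hom_inv_id, bimapNat_id]
  inv_hom_id := by rw [← bimapNat_comp, e.inv_hom_id, bimapNat_id]

variable {K K' L L'} in
@[reassoc]
lemma bimapNat_naturality (f : K ⟶ K') (g : L ⟶ L')
    [CochainComplex.HasMapBifunctor K' L' F] [CochainComplex.HasMapBifunctor K' L' G] :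
    mapBifunctorMap f g F (ComplexShape.up ℤ) ≫ bimapNat τ K' L' =
      bimapNat τ K L ≫ mapBifunctorMap f g G (ComplexShape.up ℤ) := by
  ext n p q h
  dsimp at h ⊢
  simp

end Bifunctor

section Symm

variable {C : Type u₁} {D : Type u₂} [Category.{v₁} C] [Category.{v₂} D]
  [Preadditive C] [Preadditive D]
  (F : C ⥤ C ⥤ D) [F.Additive] [∀ (X₁ : C), (F.obj X₁).Additive]
  [∀ (K : CochainComplex C ℤ) (L : CochainComplex C ℤ), CochainComplex.HasMapBifunctor K L F]
  (σ : ∀ M N : C, (F.obj N).obj M ≅ (F.obj M).obj N)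
  (hσ₁ : ∀ {M M' : C} (f : M ⟶ M') (N : C), (F.obj N).map f ≫ (σ M' N).hom =
    (σ M N).hom ≫ (F.map f).app N)
  (hσ₂ : ∀ (M : C) {N N' : C} (f : N ⟶ N'), (F.map f).app M ≫ (σ M N').hom =
    (σ M N).hom ≫ (F.obj M).map f)

/-- Symmetry as an isomorphism of bifunctors. -/
noncomputable def symmBi : F.flip ≅ F :=
  NatIso.ofComponents (fun M => NatIso.ofComponents (fun N => σ M N)
    (fun f => hσ₂ M f)) (by
    intro M M' f
    ext N
    exact hσ₁ f N)

instance additive_flip : F.flip.Additive where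
  map_add {M N f g} := by
    ext P
    exact (F.obj P).map_add

instance additive_flip_obj (M : C) : (F.flip.obj M).Additive where
  map_add {N P f g} := by
    change (F.map (f + g)).app M = (F.map f).app M + (F.map g).app M
    rw [Functor.map_add]
    rfl

/-- Symmetry of the total complex. -/
noncomputable def symmCx (K L : CochainComplex C ℤ) :
    (F.map₂CochainComplex.obj K).obj L ≅ (F.map₂CochainComplex.obj L).obj K :=
  (HomologicalComplex.mapBifunctorFlipIso K L F (ComplexShape.up ℤ)).symm ≪≫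
    bimapNatIso L K (symmBi F σ hσ₁ hσ₂)

lemma symmCx_naturality_left {K K' : CochainComplex C ℤ} (f : K ⟶ K')
    (L : CochainComplex C ℤ) :
    (F.map₂CochainComplex.map f).app L ≫ (symmCx F σ hσ₁ hσ₂ K' L).hom =
      (symmCx F σ hσ₁ hσ₂ K L).hom ≫ (F.map₂CochainComplex.obj L).map f := by
  have h1 := HomologicalComplex.mapBifunctorFlipIso_hom_naturality (φ₁ := f) (φ₂ := 𝟙 L)
    (F := F) (c := ComplexShape.up ℤ)
  have h2 : (F.map₂CochainComplex.map f).app L ≫
    (HomologicalComplex.mapBifunctorFlipIso K' L F (ComplexShape.up ℤ)).inv =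
    (HomologicalComplex.mapBifunctorFlipIso K L F (ComplexShape.up ℤ)).inv ≫
      HomologicalComplex.mapBifunctorMap (𝟙 L) f F.flip (ComplexShape.up ℤ) := by
    rw [Iso.comp_inv_eq, Category.assoc, h1, Iso.inv_hom_id_assoc]
    rfl
  dsimp only [symmCx, Iso.trans_hom, Iso.symm_hom, bimapNatIso_hom]
  rw [← Category.assoc, h2, Category.assoc, Category.assoc, bimapNat_naturality]
  rfl

lemma symmCx_naturality_right (K : CochainComplex C ℤ) {L L' : CochainComplex C ℤ}
    (f : L ⟶ L') :
    (F.map₂CochainComplex.obj K).map f ≫ (symmCx F σ hσ₁ hσ₂ K L').hom =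
      (symmCx F σ hσ₁ hσ₂ K L).hom ≫ (F.map₂CochainComplex.map f).app K := by
  have h1 := HomologicalComplex.mapBifunctorFlipIso_hom_naturality (φ₁ := 𝟙 K) (φ₂ := f)
    (F := F) (c := ComplexShape.up ℤ)
  have h2 : (F.map₂CochainComplex.obj K).map f ≫
    (HomologicalComplex.mapBifunctorFlipIso K L' F (ComplexShape.up ℤ)).inv =
    (HomologicalComplex.mapBifunctorFlipIso K L F (ComplexShape.up ℤ)).inv ≫
      HomologicalComplex.mapBifunctorMap f (𝟙 K) F.flip (ComplexShape.up ℤ) := by
    rw [Iso.comp_inv_eq, Category.assoc, h1, Iso.inv_hom_id_assoc]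
    rfl
  dsimp only [symmCx, Iso.trans_hom, Iso.symm_hom, bimapNatIso_hom]
  rw [← Category.assoc, h2, Category.assoc, Category.assoc, bimapNat_naturality]
  rfl

end Symm

section Modules

variable {X : Scheme.{u}}

/-- Symmetry of the tensor product of two `O_X`-modules. -/
noncomputable def biSymmApp (M N : X.Modules) :
    (DCoh.tensorBi.obj N).obj M ≅ (DCoh.tensorBi.obj M).obj N :=
  DCoh.shP.mapIso (β_ (DCoh.toP.obj N) (DCoh.toP.obj M))

lemma biSymmApp_naturality_right (M : X.Modules) {N N' : X.Modules} (f : N ⟶ N') :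
    (DCoh.tensorBi.map f).app M ≫ (biSymmApp M N').hom =
      (biSymmApp M N).hom ≫ (DCoh.tensorBi.obj M).map f := by
  change DCoh.shP.map _ ≫ DCoh.shP.map _ = DCoh.shP.map _ ≫ DCoh.shP.map _
  rw [← Functor.map_comp, ← Functor.map_comp]
  congr 1
  exact BraidedCategory.braiding_naturality_left (DCoh.toP.map f) (DCoh.toP.obj M)

lemma biSymmApp_naturality_left {M M' : X.Modules} (f : M ⟶ M') (N : X.Modules) :
    (DCoh.tensorBi.obj N).map f ≫ (biSymmApp M' N).hom =
      (biSymmApp M N).hom ≫ (DCoh.tensorBi.map f).app N := by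
  change DCoh.shP.map _ ≫ DCoh.shP.map _ = DCoh.shP.map _ ≫ DCoh.shP.map _
  rw [← Functor.map_comp, ← Functor.map_comp]
  congr 1
  exact BraidedCategory.braiding_naturality_right (DCoh.toP.obj N) (DCoh.toP.map f)

/-- Symmetry of the tensor product of complexes of `O_X`-modules. -/
noncomputable def symmIso (K L : CochainComplex X.Modules ℤ) :
    (DCoh.tensorCx.obj K).obj L ≅ (DCoh.tensorCx.obj L).obj K :=
  symmCx DCoh.tensorBi biSymmApp (fun f N => biSymmApp_naturality_left f N)
    (fun M _ _ f => biSymmApp_naturality_right M f) K L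

lemma symmIso_naturality_left {K K' : CochainComplex X.Modules ℤ} (f : K ⟶ K')
    (L : CochainComplex X.Modules ℤ) :
    (DCoh.tensorCx.map f).app L ≫ (symmIso K' L).hom =
      (symmIso K L).hom ≫ (DCoh.tensorCx.obj L).map f :=
  symmCx_naturality_left _ _ _ _ f L

lemma symmIso_naturality_right (K : CochainComplex X.Modules ℤ) {L L' : CochainComplex X.Modules ℤ}
    (f : L ⟶ L') :
    (DCoh.tensorCx.obj K).map f ≫ (symmIso K L').hom =
      (symmIso K L).hom ≫ (DCoh.tensorCx.map f).app K :=
  symmCx_naturality_right _ _ _ _ K f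

end Modules

end Groth.Agent.PerfC.TensorSymm
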