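import Groth.Agent.PerfC.CxNat

/-!
# Projection formula on complexes, from the projection formula for objects

`F₀ : A ⥤ B₀ ⥤ C`, `F' : A' ⥤ B ⥤ C'`, `Ψ : B ⥤ B₀`, `Φ : A ⥤ A'`, `Φ' : C ⥤ C'` and isomorphisms
`F' (Φ a) b ≅ Φ' (F₀ a (Ψ b))` natural in `a`, `b`.  For a complex `K` in `B` we get an isomorphism
of functors `Φ' (F₀ (-, Ψ K)) ≅ F' (Φ (-), K)` on complexes.
-/

set_option autoImplicit false
set_option backward.defeqAttrib.useBackward true
set_option backward.isDefEq.respectTransparency false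

universe v₁ v₂ v₃ v₁' v₂' v₃' u₁ u₂ u₃ u₁' u₂' u₃'

namespace Groth.Agent.PerfC.ProjCx

open CategoryTheory Category Limits HomologicalComplex Groth.Agent.PerfC.CxNat

variable {A : Type u₁} [Category.{v₁} A] [Preadditive A]
  {B : Type u₂} [Category.{v₂} B] [Preadditive B]
  {C : Type u₃} [Category.{v₃} C] [Preadditive C]
  {A' : Type u₁'} [Category.{v₁'} A'] [Preadditive A']
  {B₀ : Type u₂'} [Category.{v₂'} B₀] [Preadditive B₀]
  {C' : Type u₃'} [Category.{v₃'} C'] [Preadditive C']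
  (F₀ : A ⥤ B₀ ⥤ C) [F₀.Additive] [∀ X, (F₀.obj X).Additive]
  (F' : A' ⥤ B ⥤ C') [F'.Additive] [∀ X, (F'.obj X).Additive]
  (Φ : A ⥤ A') [Φ.Additive] (Ψ : B ⥤ B₀) [Ψ.Additive] (Φ' : C ⥤ C') [Φ'.Additive]
  [∀ J : Type, PreservesColimitsOfShape (Discrete J) Φ']
  [∀ (K₁ : CochainComplex A ℤ) (K₂ : CochainComplex B₀ ℤ), CochainComplex.HasMapBifunctor K₁ K₂ F₀]
  [∀ (K₁ : CochainComplex A' ℤ) (K₂ : CochainComplex B ℤ), CochainComplex.HasMapBifunctor K₁ K₂ F']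
  (e : ∀ (a : A) (b : B), (F'.obj (Φ.obj a)).obj b ≅ Φ'.obj ((F₀.obj a).obj (Ψ.obj b)))
  (he₁ : ∀ {a a' : A} (f : a ⟶ a') (b : B), (F'.map (Φ.map f)).app b ≫ (e a' b).hom =
    (e a b).hom ≫ Φ'.map ((F₀.map f).app (Ψ.obj b)))
  (he₂ : ∀ (a : A) {b b' : B} (g : b ⟶ b'), (F'.obj (Φ.obj a)).map g ≫ (e a b').hom =
    (e a b).hom ≫ Φ'.map ((F₀.obj a).map (Ψ.map g)))

/-- `F₀ (-, Ψ (-))`. -/
abbrev cbi : A ⥤ B ⥤ C := F₀ ⋙ (Functor.whiskeringLeft _ _ _).obj Ψ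

instance : (cbi F₀ Ψ).Additive where
  map_add {X Y f g} := by
    ext b
    change (F₀.map (f + g)).app (Ψ.obj b) = _
    rw [F₀.map_add]
    rfl

instance (X : A) : ((cbi F₀ Ψ).obj X).Additive := inferInstanceAs (Ψ ⋙ F₀.obj X).Additive

instance (K₁ : CochainComplex A ℤ) (K₂ : CochainComplex B ℤ) :
    CochainComplex.HasMapBifunctor K₁ K₂ (cbi F₀ Ψ) :=
  inferInstanceAs (CochainComplex.HasMapBifunctor K₁
    ((Ψ.mapHomologicalComplex (ComplexShape.up ℤ)).obj K₂) F₀)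

/-- The isomorphisms `e` as an isomorphism of bifunctors. -/
noncomputable def eIso :
    Φ ⋙ F' ⋙ (Functor.whiskeringLeft _ _ _).obj (𝟭 B) ≅
      cbi F₀ Ψ ⋙ (Functor.whiskeringRight _ _ _).obj Φ' :=
  NatIso.ofComponents (fun a => NatIso.ofComponents (fun b => e a b) (fun g => he₂ a g))
    (fun f => by
      ext b
      exact he₁ f b)

lemma mapBifunctorMap_cbi {L L' : CochainComplex A ℤ} (f : L ⟶ L') {K K' : CochainComplex B ℤ}
    (g : K ⟶ K') :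
    (mapBifunctorMap f g (cbi F₀ Ψ) (ComplexShape.up ℤ) : _) =
      (mapBifunctorMap f ((Ψ.mapHomologicalComplex (ComplexShape.up ℤ)).map g) F₀
        (ComplexShape.up ℤ) : _) := rfl

lemma mapBifunctorMap_cbi_id {L L' : CochainComplex A ℤ} (f : L ⟶ L') (K : CochainComplex B ℤ) :
    (mapBifunctorMap f (𝟙 K) (cbi F₀ Ψ) (ComplexShape.up ℤ) : _) =
      (F₀.map₂CochainComplex.flip.obj ((Ψ.mapHomologicalComplex (ComplexShape.up ℤ)).obj K)).map f := by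
  rw [mapBifunctorMap_cbi, CategoryTheory.Functor.map_id]
  rfl

/-- The projection formula on complexes. -/
noncomputable def projCx (K : CochainComplex B ℤ) :
    Φ.mapHomologicalComplex (ComplexShape.up ℤ) ⋙ F'.map₂CochainComplex.flip.obj K ≅
      F₀.map₂CochainComplex.flip.obj ((Ψ.mapHomologicalComplex (ComplexShape.up ℤ)).obj K) ⋙
        Φ'.mapHomologicalComplex (ComplexShape.up ℤ) := by
  refine NatIso.ofComponents (fun L => ?_) ?_
  · exact @asIso _ _ _ _ (natHom (eIso F₀ F' Φ Ψ Φ' e he₁ he₂).hom L K) inferInstance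
  · intro L L' f
    refine (natHom_naturality (eIso F₀ F' Φ Ψ Φ' e he₁ he₂).hom f (𝟙 K)).trans ?_
    exact congrArg (fun z => natHom (eIso F₀ F' Φ Ψ Φ' e he₁ he₂).hom L K ≫
      (Φ'.mapHomologicalComplex (ComplexShape.up ℤ)).map z) (mapBifunctorMap_cbi_id F₀ Ψ f K)

end Groth.Agent.PerfC.ProjCx
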