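import Groth.Agent.Ega3B.TensRestrict
import Groth.Agent.PerfC.ExtZero2
import Groth.Prelude.Def_DCoh4

/-!
# Tensor product of `O_X`-modules: restriction to opens and extension by zero

* `resIso j M N : M|_U ⊗ N|_U ≅ (M ⊗ N)|_U`, natural in both variables.
* `projIso j M N : j_!(M ⊗ N|_U) ≅ j_!M ⊗ N`, natural in both variables.
-/

set_option autoImplicit false
universe u
open CategoryTheory CategoryTheory.Limits AlgebraicGeometry Opposite TopologicalSpace

namespace Groth.Agent.PerfC.TensRestr

open Groth.Agent.Ega2.Tens Groth.Agent.Ega3B.TensRestrict Groth.Agent.PerfC.ExtZero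

section Tmul

variable {X : Scheme.{u}} {U : X.Opens}

/-- The pure tensor of two sections, as a section of `(DCoh.tensorBi.obj M).obj N`. -/
noncomputable def tm {M N : X.Modules} (m : Γ(M, U)) (n : Γ(N, U)) :
    Γ((DCoh.tensorBi.obj M).obj N, U) := tmul (M := M) (N := N) m n

theorem comp_app_apply {M N P : X.Modules} (f : M ⟶ N) (g : N ⟶ P) (m : Γ(M, U)) :
    (f ≫ g).app U m = g.app U (f.app U m) := by
  rw [Scheme.Modules.Hom.comp_app, ConcreteCategory.comp_apply]

theorem tensorBi_obj_map_app_tm (M : X.Modules) {N N' : X.Modules} (f : N ⟶ N')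
    (m : Γ(M, U)) (n : Γ(N, U)) :
    ((DCoh.tensorBi.obj M).map f).app U (tm m n) = tm m (f.app U n) := by
  have h := (PresheafOfModules.sheafificationAdjunction (𝟙 X.ringCatSheaf.obj)).unit.naturality
    (X := CohB1.tensorPre M N) (Y := CohB1.tensorPre M N')
    ((MonoidalCategory.tensorLeft (CohB1.toPMod M)).map (DCoh.toP.map f))
  exact (congr(($h).app (op U) (pt m n))).symm

theorem tensorBi_map_app_app_tm {M M' : X.Modules} (f : M ⟶ M') (N : X.Modules)
    (m : Γ(M, U)) (n : Γ(N, U)) :
    ((DCoh.tensorBi.map f).app N).app U (tm m n) = tm (f.app U m) n := by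
  have h := (PresheafOfModules.sheafificationAdjunction (𝟙 X.ringCatSheaf.obj)).unit.naturality
    (X := CohB1.tensorPre M N) (Y := CohB1.tensorPre M' N)
    ((MonoidalCategory.tensorRight (CohB1.toPMod N)).map (DCoh.toP.map f))
  exact (congr(($h).app (op U) (pt m n))).symm

/-- Morphisms out of a tensor product agreeing on pure tensors are equal. -/
theorem tensorBi_hom_ext {M N P : X.Modules} (φ ψ : (DCoh.tensorBi.obj M).obj N ⟶ P)
    (h : ∀ (U : X.Opens) (m : Γ(M, U)) (n : Γ(N, U)), φ.app U (tm m n) = ψ.app U (tm m n)) :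
    φ = ψ :=
  hom_ext (M := M) (N := N) (P := P) φ ψ h

theorem tm_res {M N : X.Modules} {V : X.Opens} (i : V ⟶ U) (m : Γ(M, U)) (n : Γ(N, U)) :
    ((DCoh.tensorBi.obj M).obj N).presheaf.map i.op (tm m n) =
      tm (M.presheaf.map i.op m) (N.presheaf.map i.op n) :=
  tmul_res i m n

theorem zero_tm {M N : X.Modules} (n : Γ(N, U)) : tm (M := M) (0 : Γ(M, U)) n = 0 :=
  LinearMap.map_zero₂ (tmulHom M N U) n

end Tmul

section Restrict

variable {X U : Scheme.{u}} (j : U ⟶ X) [IsOpenImmersion j]

/-- `M|_U ⊗ N|_U ≅ (M ⊗ N)|_U`. -/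
noncomputable def resIso (M N : X.Modules) :
    (DCoh.tensorBi.obj (M.restrict j)).obj (N.restrict j) ≅
      ((DCoh.tensorBi.obj M).obj N).restrict j :=
  (restrictIso j M N).symm

theorem resIso_hom_app_tm (M N : X.Modules) (V : U.Opens) (m : Γ(M, j ''ᵁ V))
    (n : Γ(N, j ''ᵁ V)) :
    (resIso j M N).hom.app V (tm (M := M.restrict j) (N := N.restrict j) (U := V) m n) =
      (show Γ(((DCoh.tensorBi.obj M).obj N).restrict j, V) from
        tm (M := M) (N := N) (U := j ''ᵁ V) m n) :=
  fwd_tmul j M N V m n

@[reassoc]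
theorem resIso_naturality_right (M : X.Modules) {N N' : X.Modules} (f : N ⟶ N') :
    (DCoh.tensorBi.obj (M.restrict j)).map ((Scheme.Modules.restrictFunctor j).map f) ≫
        (resIso j M N').hom =
      (resIso j M N).hom ≫
        (Scheme.Modules.restrictFunctor j).map ((DCoh.tensorBi.obj M).map f) := by
  refine tensorBi_hom_ext _ _ fun V m n => ?_
  rw [comp_app_apply, comp_app_apply, tensorBi_obj_map_app_tm]
  refine (resIso_hom_app_tm j M N' V m _).trans ?_
  refine Eq.trans ?_ (congrArg (fun z => ((Scheme.Modules.restrictFunctor j).map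
    ((DCoh.tensorBi.obj M).map f)).app V z) (resIso_hom_app_tm j M N V m n).symm)
  exact (tensorBi_obj_map_app_tm (U := j ''ᵁ V) M f m n).symm

@[reassoc]
theorem resIso_naturality_left {M M' : X.Modules} (f : M ⟶ M') (N : X.Modules) :
    (DCoh.tensorBi.map ((Scheme.Modules.restrictFunctor j).map f)).app (N.restrict j) ≫
        (resIso j M' N).hom =
      (resIso j M N).hom ≫
        (Scheme.Modules.restrictFunctor j).map ((DCoh.tensorBi.map f).app N) := by
  refine tensorBi_hom_ext _ _ fun V m n => ?_
  rw [comp_app_apply, comp_app_apply, tensorBi_map_app_app_tm]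
  refine (resIso_hom_app_tm j M' N V _ n).trans ?_
  refine Eq.trans ?_ (congrArg (fun z => ((Scheme.Modules.restrictFunctor j).map
    ((DCoh.tensorBi.map f).app N)).app V z) (resIso_hom_app_tm j M N V m n).symm)
  exact (tensorBi_map_app_app_tm (U := j ''ᵁ V) f N m n).symm

end Restrict

section Supp

variable {X : Scheme.{u}}

/-- `M ⊗ N` vanishes outside `U` if `M` does. -/
theorem suppIn_tensor (U : X.Opens) {M : X.Modules} (hM : SuppIn U M) (N : X.Modules) :
    SuppIn U ((DCoh.tensorBi.obj M).obj N) := by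
  intro V s x hx hxU
  obtain ⟨V', i, hxV', n, m, m', h⟩ := exists_sum_tmul (M := M) (N := N) s hx
  have hm : ∀ k, LocZero U M V' (m k) := fun k => hM V' (m k)
  have key : LocZero U ((DCoh.tensorBi.obj M).obj N) V'
      (((DCoh.tensorBi.obj M).obj N).presheaf.map i.op s) := by
    have h' : (((DCoh.tensorBi.obj M).obj N).presheaf.map i.op s) = ∑ k, tm (m k) (m' k) := h
    rw [h']
    refine Finset.sum_induction _ (LocZero U ((DCoh.tensorBi.obj M).obj N) V')
      (fun a b ha hb => LocZero.add ha hb) (LocZero.zero _ _) fun k _ => ?_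
    intro y hy hyU
    obtain ⟨W, hW, hyW, e⟩ := hm k y hy hyU
    refine ⟨W, hW, hyW, ?_⟩
    rw [tm_res, e, zero_tm]
  obtain ⟨W, hW, hxW, e⟩ := key x hxV' hxU
  refine ⟨W, hW.trans i.le, hxW, ?_⟩
  rw [← e, ← ConcreteCategory.comp_apply, ← Functor.map_comp]
  rfl

variable {U : Scheme.{u}} (j : U ⟶ X) [IsOpenImmersion j]

theorem isIso_counitApp_of_suppIn {N : X.Modules} (hN : SuppIn j.opensRange N) :
    IsIso (counitApp j N) := by
  have h : IsIso (inclT j N) := by
    rw [Scheme.Modules.Hom.isIso_iff_isIso_app]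
    intro V
    rw [ConcreteCategory.isIso_iff_bijective]
    exact ⟨incl_app_injective _ _ _, fun s => exists_incl_app _ (hN V s)⟩
  unfold counitApp
  infer_instance

/-- A morphism between modules supported in `U` which is an isomorphism on `U` is an isomorphism. -/
theorem isIso_of_suppIn {M N : X.Modules} (hM : SuppIn j.opensRange M)
    (hN : SuppIn j.opensRange N) (f : M ⟶ N)
    [IsIso ((Scheme.Modules.restrictFunctor j).map f)] : IsIso f := by
  have := isIso_counitApp_of_suppIn j hM
  have := isIso_counitApp_of_suppIn j hN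
  have h := counitApp_naturality j f
  have : IsIso (counitApp j M ≫ f) := by
    rw [← h]
    infer_instance
  exact IsIso.of_isIso_comp_left (counitApp j M) f

end Supp

section Proj

variable {X U : Scheme.{u}} (j : U ⟶ X) [IsOpenImmersion j]

/-- The map `M ⊗ N|_U ⟶ (j_!M ⊗ N)|_U`. -/
noncomputable def projUnit (M : U.Modules) (N : X.Modules) :
    (DCoh.tensorBi.obj M).obj (N.restrict j) ⟶
      ((DCoh.tensorBi.obj ((jShriek j).obj M)).obj N).restrict j :=
  (DCoh.tensorBi.map ((adj j).unit.app M)).app (N.restrict j) ≫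
    (resIso j ((jShriek j).obj M) N).hom

instance isIso_projUnit (M : U.Modules) (N : X.Modules) : IsIso (projUnit j M N) := by
  unfold projUnit
  infer_instance

/-- The map `j_!(M ⊗ N|_U) ⟶ j_!M ⊗ N`. -/
noncomputable def projHom (M : U.Modules) (N : X.Modules) :
    (jShriek j).obj ((DCoh.tensorBi.obj M).obj (N.restrict j)) ⟶
      (DCoh.tensorBi.obj ((jShriek j).obj M)).obj N :=
  ((adj j).homEquiv _ _).symm (projUnit j M N)

instance isIso_projHom (M : U.Modules) (N : X.Modules) : IsIso (projHom j M N) := by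
  have h1 : (adj j).unit.app _ ≫ (Scheme.Modules.restrictFunctor j).map (projHom j M N) =
      projUnit j M N :=
    ((adj j).homEquiv_unit _ _ _).symm.trans (((adj j).homEquiv _ _).apply_symm_apply _)
  have h2 : IsIso ((adj j).unit.app ((DCoh.tensorBi.obj M).obj (N.restrict j)) ≫
      (Scheme.Modules.restrictFunctor j).map (projHom j M N)) := by
    rw [h1]
    exact isIso_projUnit j M N
  have h3 : IsIso ((Scheme.Modules.restrictFunctor j).map (projHom j M N)) :=
    IsIso.of_isIso_comp_left ((adj j).unit.app _) _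
  exact isIso_of_suppIn j (suppIn_jShriek j _) (suppIn_tensor _ (suppIn_jShriek j _) _) _

/-- The projection formula `j_!(M ⊗ N|_U) ≅ j_!M ⊗ N`. -/
noncomputable def projIso (M : U.Modules) (N : X.Modules) :
    (jShriek j).obj ((DCoh.tensorBi.obj M).obj (N.restrict j)) ≅
      (DCoh.tensorBi.obj ((jShriek j).obj M)).obj N :=
  asIso (projHom j M N)

@[reassoc]
theorem projHom_naturality_left {M M' : U.Modules} (f : M ⟶ M') (N : X.Modules) :
    (jShriek j).map ((DCoh.tensorBi.map f).app (N.restrict j)) ≫ projHom j M' N =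
      projHom j M N ≫ (DCoh.tensorBi.map ((jShriek j).map f)).app N := by
  apply ((adj j).homEquiv _ _).injective
  rw [Adjunction.homEquiv_naturality_left, Adjunction.homEquiv_naturality_right, projHom, projHom,
    Equiv.apply_symm_apply, Equiv.apply_symm_apply]
  unfold projUnit
  rw [Category.assoc]
  refine Eq.trans ?_ (congrArg (fun z => (DCoh.tensorBi.map ((adj j).unit.app M)).app
    (N.restrict j) ≫ z) (resIso_naturality_left j ((jShriek j).map f) N))
  rw [← Category.assoc, ← Category.assoc, ← NatTrans.comp_app, ← NatTrans.comp_app,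
    ← Functor.map_comp, ← Functor.map_comp]
  congr 3
  exact (adj j).unit.naturality f

@[reassoc]
theorem projHom_naturality_right (M : U.Modules) {N N' : X.Modules} (f : N ⟶ N') :
    (jShriek j).map ((DCoh.tensorBi.obj M).map ((Scheme.Modules.restrictFunctor j).map f)) ≫
        projHom j M N' =
      projHom j M N ≫ (DCoh.tensorBi.obj ((jShriek j).obj M)).map f := by
  apply ((adj j).homEquiv _ _).injective
  rw [Adjunction.homEquiv_naturality_left, Adjunction.homEquiv_naturality_right, projHom, projHom,
    Equiv.apply_symm_apply, Equiv.apply_symm_apply]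
  unfold projUnit
  rw [Category.assoc]
  refine Eq.trans ?_ (congrArg (fun z => (DCoh.tensorBi.map ((adj j).unit.app M)).app
    (N.restrict j) ≫ z) (resIso_naturality_right j ((jShriek j).obj M) f))
  rw [← Category.assoc, ← Category.assoc]
  congr 1
  exact ((DCoh.tensorBi.map ((adj j).unit.app M)).naturality
    ((Scheme.Modules.restrictFunctor j).map f))

end Proj

end Groth.Agent.PerfC.TensRestr
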