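import Groth.Agent.PerfC.RHomEx
import Groth.Agent.PerfC.ProjCx
import Groth.Agent.PerfC.TensRestr
import Groth.Agent.Dcoh.DerSch

/-!
# The internal Hom complex `hC K` (right adjoint of `- ⊗ K` on complexes of `O_X`-modules) commutes
with restriction to opens
-/

set_option autoImplicit false

universe u

open CategoryTheory CategoryTheory.Limits AlgebraicGeometry

namespace Groth.Agent.PerfC.HomCx

open Groth.Agent.Dcoh.CxFun Groth.Agent.Dcoh.KFlat Groth.Agent.PerfC.ExtZero
  Groth.Agent.PerfC.TensRestr Groth.Agent.PerfC.RHomEx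

variable {X : Scheme.{u}}

/-- The right adjoint of `- ⊗ K` on complexes. -/
noncomputable def hC (K : CochainComplex X.Modules ℤ) :
    CochainComplex X.Modules ℤ ⥤ CochainComplex X.Modules ℤ :=
  @Functor.rightAdjoint _ _ _ _ (tR K) (isLeftAdjoint_tR K)

/-- The adjunction `- ⊗ K ⊣ hC K`. -/
noncomputable def hCAdj (K : CochainComplex X.Modules ℤ) : tR K ⊣ hC K :=
  @Adjunction.ofIsLeftAdjoint _ _ _ _ (tR K) (isLeftAdjoint_tR K)

variable {U : Scheme.{u}} (j : U ⟶ X) [IsOpenImmersion j]

/-- Restriction of complexes to an open. -/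
noncomputable abbrev resCx : CochainComplex X.Modules ℤ ⥤ CochainComplex U.Modules ℤ :=
  (Scheme.Modules.restrictFunctor j).mapHomologicalComplex (ComplexShape.up ℤ)

/-- Extension by zero of complexes. -/
noncomputable abbrev extCx : CochainComplex U.Modules ℤ ⥤ CochainComplex X.Modules ℤ :=
  (jShriek j).mapHomologicalComplex (ComplexShape.up ℤ)

/-- `j_! ⊣ j^*` on complexes. -/
noncomputable def extResAdj : extCx j ⊣ resCx j :=
  Groth.Agent.Dcoh.DerAdj.adjCx (ExtZero.adj j) (ComplexShape.up ℤ)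

/-- `j_!(-) ⊗ K ≅ j_!(- ⊗ K|_U)` on complexes. -/
noncomputable def projCxMod (K : CochainComplex X.Modules ℤ) :
    extCx j ⋙ tR K ≅ tR ((resCx j).obj K) ⋙ extCx j :=
  Groth.Agent.PerfC.ProjCx.projCx DCoh.tensorBi DCoh.tensorBi (jShriek j)
    (Scheme.Modules.restrictFunctor j) (jShriek j)
    (fun M N => (projIso j M N).symm)
    (fun {M M'} f N => by
      rw [Iso.symm_hom, Iso.symm_hom, Iso.comp_inv_eq, Category.assoc, Iso.eq_inv_comp]
      exact (projHom_naturality_left j f N).symm)
    (fun M {N N'} g => by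
      rw [Iso.symm_hom, Iso.symm_hom, Iso.comp_inv_eq, Category.assoc, Iso.eq_inv_comp]
      exact (projHom_naturality_right j M g).symm)
    K

/-- `hC` commutes with restriction to opens. -/
noncomputable def hCRes (K : CochainComplex X.Modules ℤ) :
    hC K ⋙ resCx j ≅ resCx j ⋙ hC ((resCx j).obj K) :=
  ((((extResAdj j).comp (hCAdj K)).ofNatIsoLeft (projCxMod j K))).rightAdjointUniq
    ((hCAdj ((resCx j).obj K)).comp (extResAdj j))

end Groth.Agent.PerfC.HomCx
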