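import Groth.Agent.PerfC.IsoLocus
import Groth.Agent.PerfA.CohomIn
import Mathlib.CategoryTheory.Adjunction.Additive

/-!
# Right adjoints of the partial functors of a triangulated bifunctor

`T : 𝒦 ⥤ D(A) ⥤ E` is triangulated in the first variable and each `T K` has a right adjoint `R K`.
Then `K ↦ R K L` turns distinguished triangles into exact sequences of cohomology objects, and the
objects `K` such that `R (K[n]) L` has cohomology in a weak Serre class form a triangulated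
subcategory.
-/

set_option autoImplicit false
set_option backward.defeqAttrib.useBackward true
set_option backward.isDefEq.respectTransparency false
set_option linter.unusedSectionVars false

universe w v₁ v₂ v₃ u₁ u₂ u₃

open CategoryTheory CategoryTheory.Limits Pretriangulated DerivedCategory
open scoped ZeroObject

namespace Groth.Agent.PerfC.RHomTri

open Groth.Agent.PerfC.IsoLocus Groth.Agent.PerfA.CohomIn

section Exact

variable {A : Type u₂} [Category.{v₂} A] [Abelian A] [HasDerivedCategory.{w} A]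

/-- If `Hom(M, -)` is exact on `A₁ ⟶ A₂ ⟶ A₃` for all `M` then so are the cohomology functors. -/
lemma homology_exact_of_hom_exact {A₁ A₂ A₃ : DerivedCategory A} (f : A₁ ⟶ A₂) (g : A₂ ⟶ A₃)
    (w : f ≫ g = 0) (h : ∀ {M : DerivedCategory A} (x : M ⟶ A₂), x ≫ g = 0 → ∃ y, y ≫ f = x)
    (i : ℤ) :
    (ShortComplex.mk ((homologyFunctor A i).map f) ((homologyFunctor A i).map g)
      (by rw [← Functor.map_comp, w, Functor.map_zero])).Exact := by
  obtain ⟨F, u, δ, hu⟩ := distinguished_cocone_triangle₁ g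
  obtain ⟨u', hu'⟩ := h u (comp_distTriang_mor_zero₁₂ _ hu)
  have ex := (homologyFunctor A i).map_distinguished_exact _ hu
  rw [ShortComplex.exact_iff_exact_up_to_refinements] at ex ⊢
  intro Z x hx
  obtain ⟨Z', π, hπ, y, hy⟩ := ex x hx
  refine ⟨Z', π, hπ, y ≫ (homologyFunctor A i).map u', ?_⟩
  have hy' : π ≫ x = y ≫ (homologyFunctor A i).map u := hy
  have h3 : (homologyFunctor A i).map u = (homologyFunctor A i).map u' ≫
      (homologyFunctor A i).map f := by rw [← Functor.map_comp, hu']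
  exact hy'.trans ((congrArg (fun z => y ≫ z) h3).trans (Category.assoc _ _ _).symm)

end Exact

variable {𝒦 : Type u₁} [Category.{v₁} 𝒦] [HasZeroObject 𝒦] [HasShift 𝒦 ℤ] [Preadditive 𝒦]
  [∀ n : ℤ, (shiftFunctor 𝒦 n).Additive] [Pretriangulated 𝒦]
  {A : Type u₂} [Category.{v₂} A] [Abelian A] [HasDerivedCategory.{w} A]
  {E : Type u₃} [Category.{v₃} E] [HasZeroObject E] [HasShift E ℤ] [Preadditive E]
  [∀ n : ℤ, (shiftFunctor E n).Additive] [Pretriangulated E]
  (T : 𝒦 ⥤ DerivedCategory A ⥤ E) (R : 𝒦 → E ⥤ DerivedCategory A) (adj : ∀ K, T.obj K ⊣ R K)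

/-- Contravariant functoriality of `K ↦ R K L`. -/
noncomputable def ρ {K K' : 𝒦} (φ : K ⟶ K') (L : E) : (R K').obj L ⟶ (R K).obj L :=
  (adj K).homEquiv _ _ ((T.map φ).app _ ≫ (adj K').counit.app L)

lemma comp_ρ {K K' : 𝒦} (φ : K ⟶ K') {M : DerivedCategory A} {L : E} (f : M ⟶ (R K').obj L) :
    f ≫ ρ T R adj φ L =
      (adj K).homEquiv M L ((T.map φ).app M ≫ ((adj K').homEquiv M L).symm f) := by
  rw [ρ, ← (adj K).homEquiv_naturality_left, (adj K').homEquiv_counit]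
  congr 1
  rw [← Category.assoc, ← Category.assoc, (T.map φ).naturality]

lemma ρ_comp {K K' K'' : 𝒦} (φ : K ⟶ K') (ψ : K' ⟶ K'') (L : E) :
    ρ T R adj (φ ≫ ψ) L = ρ T R adj ψ L ≫ ρ T R adj φ L := by
  rw [← Category.id_comp (ρ T R adj (φ ≫ ψ) L), comp_ρ, comp_ρ]
  congr 1
  rw [← Category.id_comp (ρ T R adj ψ L), comp_ρ, Equiv.symm_apply_apply, Functor.map_comp,
    NatTrans.comp_app, Category.assoc]

lemma ρ_id (K : 𝒦) (L : E) : ρ T R adj (𝟙 K) L = 𝟙 _ := by
  rw [← Category.id_comp (ρ T R adj (𝟙 K) L), comp_ρ]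
  simp

/-- `K ↦ R K L` sends isomorphisms to isomorphisms. -/
noncomputable def ρIso {K K' : 𝒦} (e : K ≅ K') (L : E) : (R K').obj L ≅ (R K).obj L where
  hom := ρ T R adj e.hom L
  inv := ρ T R adj e.inv L
  hom_inv_id := by rw [← ρ_comp, e.inv_hom_id, ρ_id]
  inv_hom_id := by rw [← ρ_comp, e.hom_inv_id, ρ_id]

instance isIso_ρ {K K' : 𝒦} (φ : K ⟶ K') [IsIso φ] (L : E) : IsIso (ρ T R adj φ L) :=
  (ρIso T R adj (asIso φ) L).isIso_hom

variable (hT : ∀ M, IsTriang (T.flip.obj M))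

include hT in
lemma ρ_zero (hR : ∀ K, (T.obj K).Additive) {K K' : 𝒦} (L : E) : ρ T R adj (0 : K ⟶ K') L = 0 := by
  rw [← Category.id_comp (ρ T R adj (0 : K ⟶ K') L), comp_ρ]
  have h : (T.map (0 : K ⟶ K')).app ((R K').obj L) = 0 := by
    have := (hT ((R K').obj L)).additive
    exact (T.flip.obj ((R K').obj L)).map_zero K K'
  rw [h, zero_comp]
  have := hR K
  exact (adj K).homAddEquiv_zero _ _

include hT in
lemma hom_exact (Δ : Triangle 𝒦) (hΔ : Δ ∈ distTriang 𝒦) (hR : ∀ K, (T.obj K).Additive) (L : E)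
    {M : DerivedCategory A} (f : M ⟶ (R Δ.obj₂).obj L) (hf : f ≫ ρ T R adj Δ.mor₁ L = 0) :
    ∃ g : M ⟶ (R Δ.obj₃).obj L, g ≫ ρ T R adj Δ.mor₂ L = f := by
  rw [comp_ρ] at hf
  have := hR Δ.obj₁
  have h0 : (T.map Δ.mor₁).app M ≫ ((adj Δ.obj₂).homEquiv M L).symm f = 0 := by
    apply ((adj Δ.obj₁).homEquiv M L).injective
    rw [hf]
    exact ((adj Δ.obj₁).homAddEquiv_zero _ _).symm
  obtain ⟨_, _⟩ := hT M
  obtain ⟨g, hg⟩ : ∃ g : (T.obj Δ.obj₃).obj M ⟶ L,
      ((adj Δ.obj₂).homEquiv M L).symm f = (T.map Δ.mor₂).app M ≫ g :=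
    Triangle.yoneda_exact₂ _ ((T.flip.obj M).map_distinguished Δ hΔ)
      (((adj Δ.obj₂).homEquiv M L).symm f) h0
  refine ⟨(adj Δ.obj₃).homEquiv M L g, ?_⟩
  rw [comp_ρ, Equiv.symm_apply_apply]
  apply ((adj Δ.obj₂).homEquiv M L).symm.injective
  rw [Equiv.symm_apply_apply]
  exact hg.symm

include hT in
lemma ρ_comp_zero (Δ : Triangle 𝒦) (hΔ : Δ ∈ distTriang 𝒦) (hR : ∀ K, (T.obj K).Additive) (L : E) :
    ρ T R adj Δ.mor₂ L ≫ ρ T R adj Δ.mor₁ L = 0 := by
  rw [← ρ_comp, comp_distTriang_mor_zero₁₂ _ hΔ, ρ_zero T R adj hT hR]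

include hT in
/-- The exact sequences of cohomology objects. -/
theorem exact (Δ : Triangle 𝒦) (hΔ : Δ ∈ distTriang 𝒦) (hR : ∀ K, (T.obj K).Additive) (L : E)
    (i : ℤ) :
    (ShortComplex.mk ((homologyFunctor A i).map (ρ T R adj Δ.mor₂ L))
      ((homologyFunctor A i).map (ρ T R adj Δ.mor₁ L))
      (by rw [← Functor.map_comp, ρ_comp_zero T R adj hT Δ hΔ hR, Functor.map_zero])).Exact :=
  homology_exact_of_hom_exact _ _ (ρ_comp_zero T R adj hT Δ hΔ hR L)
    (fun x hx => hom_exact T R adj hT Δ hΔ hR L x hx) i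

/-- The objects `K` all of whose shifts satisfy: `R K L` has cohomology in `P`. -/
def good (P : ObjectProperty A) (L : E) : ObjectProperty 𝒦 :=
  fun K => ∀ n : ℤ, coh P ((R (K⟦n⟧)).obj L)

variable (P : ObjectProperty A) [P.IsClosedUnderIsomorphisms]

include adj in
lemma good_of_iso (L : E) {K K' : 𝒦} (e : K ≅ K') (h : good R P L K) : good R P L K' := fun n =>
  (coh P).prop_of_iso (ρIso T R adj ((shiftFunctor 𝒦 n).mapIso e.symm) L) (h n)

include adj in
lemma good_shift (L : E) {K : 𝒦} (h : good R P L K) (a : ℤ) : good R P L (K⟦a⟧) := fun n =>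
  (coh P).prop_of_iso (ρIso T R adj ((shiftFunctorAdd 𝒦 a n).symm.app K) L) (h (a + n))

include adj in
lemma coh_of_good (L : E) {K : 𝒦} (h : good R P L K) : coh P ((R K).obj L) :=
  (coh P).prop_of_iso (ρIso T R adj ((shiftFunctorZero 𝒦 ℤ).symm.app K) L) (h 0)

include hT adj in
lemma coh_of_distinguished [P.IsClosedUnderKernels] [P.IsClosedUnderCokernels]
    [P.IsClosedUnderExtensions] (hR : ∀ K, (T.obj K).Additive) (L : E)
    (Δ : Triangle 𝒦) (hΔ : Δ ∈ distTriang 𝒦)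
    (h₁ : coh P ((R Δ.obj₁).obj L)) (h₂ : coh P ((R Δ.obj₂).obj L))
    (h₁' : coh P ((R (Δ.obj₁⟦(1 : ℤ)⟧)).obj L)) (h₂' : coh P ((R (Δ.obj₂⟦(1 : ℤ)⟧)).obj L)) :
    coh P ((R Δ.obj₃).obj L) := fun i =>
  prop_middle P _ _ _ _ _ _ _
    (exact T R adj hT _ (rot_of_distTriang _ (rot_of_distTriang _ hΔ)) hR L i)
    (exact T R adj hT _ (rot_of_distTriang _ hΔ) hR L i)
    (exact T R adj hT _ hΔ hR L i) (h₂' i) (h₁' i) (h₂ i) (h₁ i)

include hT adj in
lemma good_of_distinguished [P.IsClosedUnderKernels] [P.IsClosedUnderCokernels]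
    [P.IsClosedUnderExtensions] (hR : ∀ K, (T.obj K).Additive) (L : E)
    (Δ : Triangle 𝒦) (hΔ : Δ ∈ distTriang 𝒦)
    (h₁ : good R P L Δ.obj₁) (h₂ : good R P L Δ.obj₂) : good R P L Δ.obj₃ := fun n =>
  coh_of_distinguished T R adj hT P hR L _ (Triangle.shift_distinguished _ hΔ n) (h₁ n) (h₂ n)
    (good_shift T R adj P L h₁ n 1) (good_shift T R adj P L h₂ n 1)

include hT adj in
/-- The good objects form a triangulated subcategory. -/
lemma good_isTriangulated [P.ContainsZero] [P.IsClosedUnderKernels] [P.IsClosedUnderCokernels]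
    [P.IsClosedUnderExtensions] (hR : ∀ K, (T.obj K).Additive) (L : E) :
    (good R P L : ObjectProperty 𝒦).IsTriangulated := by
  have h1 : (good R P L : ObjectProperty 𝒦).IsClosedUnderIsomorphisms :=
    ⟨fun e h => good_of_iso T R adj P L e h⟩
  have h2 : (good R P L : ObjectProperty 𝒦).IsStableUnderShift ℤ :=
    ⟨fun a => ⟨fun K h => good_shift T R adj P L h a⟩⟩
  have h3 : (good R P L : ObjectProperty 𝒦).IsTriangulatedClosed₃ := .mk' (fun Δ hΔ h₁ h₂ =>
    good_of_distinguished T R adj hT P hR L Δ hΔ h₁ h₂)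
  have h4 : (good R P L : ObjectProperty 𝒦).IsTriangulatedClosed₂ :=
    ObjectProperty.IsTriangulatedClosed₂.of_isTriangulatedClosed₃
  have h5 : (good R P L : ObjectProperty 𝒦).ContainsZero := by
    refine ⟨0, isZero_zero _, fun n i => ?_⟩
    have hz : IsZero ((R ((0 : 𝒦)⟦n⟧)).obj L) := by
      rw [IsZero.iff_id_eq_zero, ← ρ_id T R adj]
      have : (𝟙 ((0 : 𝒦)⟦n⟧)) = 0 := by
        rw [← IsZero.iff_id_eq_zero]
        exact Functor.map_isZero _ (isZero_zero _)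
      rw [this, ρ_zero T R adj hT hR]
    exact P.prop_of_isZero (Functor.map_isZero _ hz)
  exact { }

include hT adj in
/-- Comparison: if `R Δ₃ L` and `R (Δ₃[-1]) L` have vanishing `H^i` then `H^i (R Δ₂ L) ≅ H^i (R Δ₁ L)`. -/
lemma isIso_homology_ρ (hR : ∀ K, (T.obj K).Additive) (L : E)
    (Δ : Triangle 𝒦) (hΔ : Δ ∈ distTriang 𝒦) (i : ℤ)
    (h₃ : IsZero ((homologyFunctor A i).obj ((R Δ.obj₃).obj L)))
    (h₃' : IsZero ((homologyFunctor A i).obj ((R (Δ.obj₃⟦(-1 : ℤ)⟧)).obj L))) :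
    IsIso ((homologyFunctor A i).map (ρ T R adj Δ.mor₁ L)) := by
  have e₁ := exact T R adj hT _ hΔ hR L i
  have e₂ := exact T R adj hT _ (inv_rot_of_distTriang _ hΔ) hR L i
  have m : Mono ((homologyFunctor A i).map (ρ T R adj Δ.mor₁ L)) :=
    e₁.mono_g (h₃.eq_of_src _ _)
  have e : Epi ((homologyFunctor A i).map (ρ T R adj Δ.mor₁ L)) :=
    e₂.epi_f (h₃'.eq_of_tgt _ _)
  exact isIso_of_mono_of_epi _

end Groth.Agent.PerfC.RHomTri
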