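import Groth.Agent.PerfC.DTens
import Groth.Agent.PerfC.HomCx
import Groth.Agent.PerfC.RHomTri
import Groth.Agent.PerfC.RHomAdjP

/-!
# The internal `RHom` on `D(O_X)`: existence for all arguments, value on K-injective complexes

* `RH K : D X ⥤ D X` for `K : D X`, right adjoint of `- ⊗ᴸ K` (`(LTX X).flip.obj K`).
* `hasRSheafHom E`: `DCoh.HasRSheafHom E` for every complex `E`; `rsIso E : RSheafHom E ≅ RH (Q E)`.
* `isIso_toRH E I`: `Q (hC E I) ≅ RH (Q E) (Q I)` for `I` K-injective.
-/

set_option autoImplicit false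

universe u

open CategoryTheory CategoryTheory.Limits AlgebraicGeometry

attribute [local instance] HasDerivedCategory.standard

namespace Groth.Agent.PerfC.RHomD

open Groth.Agent.Dcoh.CxFun Groth.Agent.Dcoh.KFlat Groth.Agent.PerfC.DBif Groth.Agent.PerfC.DTens
  Groth.Agent.PerfC.RHomEx Groth.Agent.PerfC.HomCx Groth.Agent.PerfC.IsoLocus

variable {X : Scheme.{u}}

/-- `- ⊗ᴸ E` has a right adjoint, for every complex `E`. -/
theorem isLeftAdjoint_LTobj (E : CochainComplex X.Modules ℤ) :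
    (LTobj (DCoh.tensorCx (X := X)) E).IsLeftAdjoint :=
  Groth.Agent.PerfC.RHomAdjP.isLeftAdjoint (tR E) (hC E) (hCAdj E)
    (LTobj DCoh.tensorCx E) (β DCoh.tensorCx E) DCoh.IsKFlat (bifData X).exists_res
    (fun K hK => (bifData X).isIso_β E K hK) (Groth.Agent.PerfC.RHomEx.hasKInj X)

/-- `RHom(E, -)` exists for every complex `E`. -/
theorem hasRSheafHom (E : CochainComplex X.Modules ℤ) [DCoh.HasLTensorCx E] :
    DCoh.HasRSheafHom E :=
  isLeftAdjoint_LTobj E

theorem isLeftAdjoint_LTX_flip_obj (K : DCoh.D X) : ((LTX X).flip.obj K).IsLeftAdjoint := by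
  have := isLeftAdjoint_LTobj (DerivedCategory.Q.objPreimage K)
  let e : LTobj (DCoh.tensorCx (X := X)) (DerivedCategory.Q.objPreimage K) ≅ (LTX X).flip.obj K :=
    (LTXcx (DerivedCategory.Q.objPreimage K)).symm ≪≫
      (LTX X).flip.mapIso (DerivedCategory.Q.objObjPreimageIso K)
  exact ⟨_, ⟨(Adjunction.ofIsLeftAdjoint _).ofNatIsoLeft e⟩⟩

/-- `RHom(K, -)` for `K` in `D(O_X)`. -/
noncomputable def RH (K : DCoh.D X) : DCoh.D X ⥤ DCoh.D X :=
  @Functor.rightAdjoint _ _ _ _ ((LTX X).flip.obj K) (isLeftAdjoint_LTX_flip_obj K)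

/-- The adjunction `- ⊗ᴸ K ⊣ RHom(K, -)`. -/
noncomputable def rhAdj (K : DCoh.D X) : (LTX X).flip.obj K ⊣ RH K :=
  @Adjunction.ofIsLeftAdjoint _ _ _ _ ((LTX X).flip.obj K) (isLeftAdjoint_LTX_flip_obj K)

/-- `RHom` depends only on the image in the derived category. -/
noncomputable def rsIso (E : CochainComplex X.Modules ℤ) [DCoh.HasLTensorCx E]
    [DCoh.HasRSheafHom E] : DCoh.RSheafHom E ≅ RH (DerivedCategory.Q.obj E) :=
  ((DCoh.RSheafHomAdj E).ofNatIsoLeft (LTXcx E).symm).rightAdjointUniq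
    (rhAdj (DerivedCategory.Q.obj E))

section KInj

variable (E I : CochainComplex X.Modules ℤ)

/-- The comparison map `Q (hC E I) ⟶ RH (Q E) (Q I)`. -/
noncomputable def toRH : DerivedCategory.Q.obj ((hC E).obj I) ⟶
    (RH (DerivedCategory.Q.obj E)).obj (DerivedCategory.Q.obj I) :=
  Groth.Agent.PerfC.RHomAdjP.toRightAdjoint (tR E) (hC E) (hCAdj E)
    (LTobj DCoh.tensorCx E) (β DCoh.tensorCx E) (RH (DerivedCategory.Q.obj E))
    ((rhAdj (DerivedCategory.Q.obj E)).ofNatIsoLeft (LTXcx E)) I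

/-- `RHom(Q E, Q I) = Q (Hom(E, I))` for `I` K-injective. -/
theorem isIso_toRH (hI : I.IsKInjective) : IsIso (toRH E I) :=
  Groth.Agent.PerfC.RHomAdjP.isIso_toRightAdjoint (tR E) (hC E) (hCAdj E)
    (LTobj DCoh.tensorCx E) (β DCoh.tensorCx E) DCoh.IsKFlat (bifData X).exists_res
    (fun K hK => (bifData X).isIso_β E K hK) (RH (DerivedCategory.Q.obj E))
    ((rhAdj (DerivedCategory.Q.obj E)).ofNatIsoLeft (LTXcx E)) I

/-- `RHom(Q E, Q I) = Q (Hom(E, I))` for `I` K-injective. -/
noncomputable def toRHIso (hI : I.IsKInjective) : DerivedCategory.Q.obj ((hC E).obj I) ≅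
    (RH (DerivedCategory.Q.obj E)).obj (DerivedCategory.Q.obj I) :=
  @asIso _ _ _ _ (toRH E I) (isIso_toRH E I hI)

end KInj

section Functoriality

open Groth.Agent.PerfC.RHomTri

/-- Contravariant functoriality of `RHom(K, L)` in `K`. -/
noncomputable def rhMap {K K' : DCoh.D X} (φ : K ⟶ K') (L : DCoh.D X) :
    (RH K').obj L ⟶ (RH K).obj L :=
  ρ (LTX X).flip RH rhAdj φ L

/-- `RHom(K, L)` only depends on the isomorphism class of `K`. -/
noncomputable def rhIso {K K' : DCoh.D X} (e : K ≅ K') (L : DCoh.D X) :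
    (RH K').obj L ≅ (RH K).obj L :=
  ρIso (LTX X).flip RH rhAdj e L

lemma additive_LTX_flip (K : DCoh.D X) : ((LTX X).flip.obj K).Additive :=
  (isTriang_LTX_flip_obj K).additive

/-- The objects `K` such that all `RHom(K[n], L)` have cohomology sheaves in a weak Serre class. -/
def good (P : ObjectProperty X.Modules) (L : DCoh.D X) : ObjectProperty (DCoh.D X) :=
  Groth.Agent.PerfC.RHomTri.good (RH (X := X)) P L

variable (P : ObjectProperty X.Modules) [P.IsClosedUnderIsomorphisms]

lemma coh_of_good {L K : DCoh.D X} (h : good P L K) :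
    Groth.Agent.PerfA.CohomIn.coh P ((RH K).obj L) :=
  Groth.Agent.PerfC.RHomTri.coh_of_good (LTX X).flip RH rhAdj P L h

instance good_isClosedUnderIsomorphisms (L : DCoh.D X) : (good P L).IsClosedUnderIsomorphisms :=
  ⟨fun e h => good_of_iso (LTX X).flip RH rhAdj P L e h⟩

instance good_isTriangulated [P.ContainsZero] [P.IsClosedUnderKernels] [P.IsClosedUnderCokernels]
    [P.IsClosedUnderExtensions] (L : DCoh.D X) : (good P L).IsTriangulated :=
  Groth.Agent.PerfC.RHomTri.good_isTriangulated (LTX X).flip RH rhAdj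
    (fun M => isTriang_LTX_obj M) P additive_LTX_flip L

end Functoriality

section Restrict

variable {U : Scheme.{u}} (j : U ⟶ X) [IsOpenImmersion j]

/-- `RHom` commutes with restriction to opens (K-injective second argument, first argument a complex). -/
noncomputable def rhResCx (E I : CochainComplex X.Modules ℤ) (hI : I.IsKInjective) :
    (DCoh.restrictD j).obj ((RH (DerivedCategory.Q.obj E)).obj (DerivedCategory.Q.obj I)) ≅
      (RH (DerivedCategory.Q.obj ((resCx j).obj E))).obj (DerivedCategory.Q.obj ((resCx j).obj I)) :=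
  (DCoh.restrictD j).mapIso (toRHIso E I hI).symm ≪≫
    (Scheme.Modules.restrictFunctor j).mapDerivedCategoryFactors.app ((hC E).obj I) ≪≫
    DerivedCategory.Q.mapIso ((hCRes j E).app I) ≪≫
    toRHIso ((resCx j).obj E) ((resCx j).obj I)
      (Groth.Agent.Dcoh.DerSch.isKInjective_restrict j I hI)

/-- `RHom` commutes with restriction to opens. -/
theorem nonempty_rhRes (K L : DCoh.D X) :
    Nonempty ((DCoh.restrictD j).obj ((RH K).obj L) ≅
      (RH ((DCoh.restrictD j).obj K)).obj ((DCoh.restrictD j).obj L)) := by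
  obtain ⟨I, f, hI, hf⟩ := Groth.Agent.PerfC.RHomEx.hasKInj X (DerivedCategory.Q.objPreimage L)
  have hf' : IsIso (DerivedCategory.Q.map f) := (DerivedCategory.isIso_Q_map_iff_quasiIso _ _).2 hf
  let eL : DerivedCategory.Q.obj I ≅ L :=
    (asIso (DerivedCategory.Q.map f)).symm ≪≫ DerivedCategory.Q.objObjPreimageIso L
  let eK : DerivedCategory.Q.obj (DerivedCategory.Q.objPreimage K) ≅ K :=
    DerivedCategory.Q.objObjPreimageIso K
  exact ⟨(DCoh.restrictD j).mapIso ((RH K).mapIso eL.symm ≪≫ rhIso eK _) ≪≫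
    rhResCx j _ I hI ≪≫
    rhIso ((DCoh.restrictD j).mapIso eK.symm ≪≫
      (Scheme.Modules.restrictFunctor j).mapDerivedCategoryFactors.app _) _ ≪≫
    (RH ((DCoh.restrictD j).obj K)).mapIso
      (((Scheme.Modules.restrictFunctor j).mapDerivedCategoryFactors.app I).symm ≪≫
        (DCoh.restrictD j).mapIso eL)⟩

end Restrict

end Groth.Agent.PerfC.RHomD
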