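import Mathlib.Algebra.Homology.BifunctorShift
import Mathlib.Algebra.Homology.BifunctorFlip
import Mathlib.Algebra.Homology.HomologicalComplexLimits

/-!
# Functors on complexes commuting with bifunctors

`F : A ⥤ B ⥤ C`, `F' : A' ⥤ B' ⥤ C'` bifunctors, `Φ₁ : A ⥤ A'`, `Φ₂ : B ⥤ B'`, `Φ₃ : C ⥤ C'` additive
functors and `τ : F' (Φ₁ a, Φ₂ b) ⟶ Φ₃ (F (a, b))` natural in `a` and `b`.  Then we get a morphism of
complexes `F' (Φ₁ K, Φ₂ L) ⟶ Φ₃ (F (K, L))` natural in the complexes `K` and `L`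
(`natHom`, `natTrans`), an isomorphism when `τ` is an isomorphism and `Φ₃` preserves coproducts (`natIso`).
-/

set_option autoImplicit false
set_option backward.defeqAttrib.useBackward true
set_option backward.isDefEq.respectTransparency false

universe v₁ v₂ v₃ v₁' v₂' v₃' u₁ u₂ u₃ u₁' u₂' u₃'

namespace Groth.Agent.PerfC.CxNat

open CategoryTheory Category Limits HomologicalComplex

variable {A : Type u₁} [Category.{v₁} A] [Preadditive A]
  {B : Type u₂} [Category.{v₂} B] [Preadditive B]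
  {C : Type u₃} [Category.{v₃} C] [Preadditive C]
  {A' : Type u₁'} [Category.{v₁'} A'] [Preadditive A']
  {B' : Type u₂'} [Category.{v₂'} B'] [Preadditive B']
  {C' : Type u₃'} [Category.{v₃'} C'] [Preadditive C']
  {F : A ⥤ B ⥤ C} [F.PreservesZeroMorphisms] [∀ X, (F.obj X).PreservesZeroMorphisms]
  {F' : A' ⥤ B' ⥤ C'} [F'.PreservesZeroMorphisms] [∀ X, (F'.obj X).PreservesZeroMorphisms]
  {Φ₁ : A ⥤ A'} [Φ₁.PreservesZeroMorphisms] {Φ₂ : B ⥤ B'} [Φ₂.PreservesZeroMorphisms]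
  {Φ₃ : C ⥤ C'} [Φ₃.Additive]
  (τ : Φ₁ ⋙ F' ⋙ (Functor.whiskeringLeft _ _ _).obj Φ₂ ⟶ F ⋙ (Functor.whiskeringRight _ _ _).obj Φ₃)

/-- The components of `τ`. -/
abbrev comp (a : A) (b : B) : (F'.obj (Φ₁.obj a)).obj (Φ₂.obj b) ⟶ Φ₃.obj ((F.obj a).obj b) :=
  (τ.app a).app b

omit [Preadditive A] [Preadditive B] [Preadditive C] [Preadditive A'] [Preadditive B'] [Preadditive C']
  [F.PreservesZeroMorphisms] [∀ X, (F.obj X).PreservesZeroMorphisms]
  [F'.PreservesZeroMorphisms] [∀ X, (F'.obj X).PreservesZeroMorphisms]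
  [Φ₁.PreservesZeroMorphisms] [Φ₂.PreservesZeroMorphisms] [Φ₃.Additive] in
@[reassoc]
lemma comp_nat₁ {a a' : A} (f : a ⟶ a') (b : B) :
    (F'.map (Φ₁.map f)).app (Φ₂.obj b) ≫ comp τ a' b = comp τ a b ≫ Φ₃.map ((F.map f).app b) :=
  congr_app (τ.naturality f) b

omit [Preadditive A] [Preadditive B] [Preadditive C] [Preadditive A'] [Preadditive B'] [Preadditive C']
  [F.PreservesZeroMorphisms] [∀ X, (F.obj X).PreservesZeroMorphisms]
  [F'.PreservesZeroMorphisms] [∀ X, (F'.obj X).PreservesZeroMorphisms]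
  [Φ₁.PreservesZeroMorphisms] [Φ₂.PreservesZeroMorphisms] [Φ₃.Additive] in
@[reassoc]
lemma comp_nat₂ (a : A) {b b' : B} (g : b ⟶ b') :
    (F'.obj (Φ₁.obj a)).map (Φ₂.map g) ≫ comp τ a b' = comp τ a b ≫ Φ₃.map ((F.obj a).map g) :=
  (τ.app a).naturality g

section

variable (K : CochainComplex A ℤ) (L : CochainComplex B ℤ)
  [HasMapBifunctor K L F (ComplexShape.up ℤ)]
  [HasMapBifunctor ((Φ₁.mapHomologicalComplex (ComplexShape.up ℤ)).obj K)
    ((Φ₂.mapHomologicalComplex (ComplexShape.up ℤ)).obj L) F' (ComplexShape.up ℤ)]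

/-- The map in degree `n`. -/
noncomputable def natHomX (n : ℤ) :
    (mapBifunctor ((Φ₁.mapHomologicalComplex (ComplexShape.up ℤ)).obj K)
      ((Φ₂.mapHomologicalComplex (ComplexShape.up ℤ)).obj L) F' (ComplexShape.up ℤ)).X n ⟶
    Φ₃.obj ((mapBifunctor K L F (ComplexShape.up ℤ)).X n) :=
  mapBifunctorDesc (fun p q h => comp τ (K.X p) (L.X q) ≫
    Φ₃.map (ιMapBifunctor K L F (ComplexShape.up ℤ) p q n h))

omit [Φ₃.Additive] in
@[reassoc (attr := simp)]
lemma ι_natHomX (p q n : ℤ) (h : ComplexShape.π (ComplexShape.up ℤ) (ComplexShape.up ℤ)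
    (ComplexShape.up ℤ) (p, q) = n) :
    ιMapBifunctor ((Φ₁.mapHomologicalComplex (ComplexShape.up ℤ)).obj K)
      ((Φ₂.mapHomologicalComplex (ComplexShape.up ℤ)).obj L) F' (ComplexShape.up ℤ) p q n h ≫
      natHomX τ K L n = comp τ (K.X p) (L.X q) ≫
        Φ₃.map (ιMapBifunctor K L F (ComplexShape.up ℤ) p q n h) := by
  simp [natHomX]

lemma ιOrZero_natHomX (p q n : ℤ) :
    ιMapBifunctorOrZero ((Φ₁.mapHomologicalComplex (ComplexShape.up ℤ)).obj K)
      ((Φ₂.mapHomologicalComplex (ComplexShape.up ℤ)).obj L) F' (ComplexShape.up ℤ) p q n ≫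
      natHomX τ K L n = comp τ (K.X p) (L.X q) ≫
        Φ₃.map (ιMapBifunctorOrZero K L F (ComplexShape.up ℤ) p q n) := by
  by_cases h : ComplexShape.π (ComplexShape.up ℤ) (ComplexShape.up ℤ) (ComplexShape.up ℤ) (p, q) = n
  · rw [ιMapBifunctorOrZero_eq _ _ _ _ _ _ _ h, ιMapBifunctorOrZero_eq _ _ _ _ _ _ _ h, ι_natHomX]
  · rw [ιMapBifunctorOrZero_eq_zero _ _ _ _ _ _ _ h, ιMapBifunctorOrZero_eq_zero _ _ _ _ _ _ _ h,
      zero_comp, Functor.map_zero, comp_zero]

/-- The morphism of complexes `F' (Φ₁ K, Φ₂ L) ⟶ Φ₃ (F (K, L))`. -/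
noncomputable def natHom :
    mapBifunctor ((Φ₁.mapHomologicalComplex (ComplexShape.up ℤ)).obj K)
      ((Φ₂.mapHomologicalComplex (ComplexShape.up ℤ)).obj L) F' (ComplexShape.up ℤ) ⟶
    (Φ₃.mapHomologicalComplex (ComplexShape.up ℤ)).obj (mapBifunctor K L F (ComplexShape.up ℤ)) where
  f n := natHomX τ K L n
  comm' n n' hn := by
    refine mapBifunctor.hom_ext (fun p q h => ?_)
    have hp : (ComplexShape.up ℤ).Rel p (p + 1) := rfl
    have hq : (ComplexShape.up ℤ).Rel q (q + 1) := rfl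
    rw [ι_natHomX_assoc, mapBifunctor.d_eq, Preadditive.add_comp, Preadditive.comp_add,
      mapBifunctor.ι_D₁_assoc, mapBifunctor.ι_D₂_assoc, mapBifunctor.d₁_eq' _ _ _ _ hp,
      mapBifunctor.d₂_eq' _ _ _ _ _ hq]
    dsimp
    rw [mapBifunctor.d_eq, Functor.map_add, Preadditive.comp_add, Preadditive.comp_add,
      ← Functor.map_comp, ← Functor.map_comp, mapBifunctor.ι_D₁, mapBifunctor.ι_D₂,
      mapBifunctor.d₁_eq' _ _ _ _ hp, mapBifunctor.d₂_eq' _ _ _ _ _ hq]
    simp only [Functor.map_units_smul, Linear.units_smul_comp, Linear.comp_units_smul, Functor.map_comp,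
      assoc, ιOrZero_natHomX, comp_nat₁_assoc, comp_nat₂_assoc]
    rfl

end

section Naturality

variable {K K' : CochainComplex A ℤ} {L L' : CochainComplex B ℤ} (f : K ⟶ K') (g : L ⟶ L')
  [HasMapBifunctor K L F (ComplexShape.up ℤ)]
  [HasMapBifunctor ((Φ₁.mapHomologicalComplex (ComplexShape.up ℤ)).obj K)
    ((Φ₂.mapHomologicalComplex (ComplexShape.up ℤ)).obj L) F' (ComplexShape.up ℤ)]
  [HasMapBifunctor K' L' F (ComplexShape.up ℤ)]
  [HasMapBifunctor ((Φ₁.mapHomologicalComplex (ComplexShape.up ℤ)).obj K')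
    ((Φ₂.mapHomologicalComplex (ComplexShape.up ℤ)).obj L') F' (ComplexShape.up ℤ)]

@[reassoc]
lemma natHom_naturality :
    mapBifunctorMap ((Φ₁.mapHomologicalComplex (ComplexShape.up ℤ)).map f)
      ((Φ₂.mapHomologicalComplex (ComplexShape.up ℤ)).map g) F' (ComplexShape.up ℤ) ≫ natHom τ K' L' =
    natHom τ K L ≫ (Φ₃.mapHomologicalComplex (ComplexShape.up ℤ)).map
      (mapBifunctorMap f g F (ComplexShape.up ℤ)) := by
  ext n : 1
  refine mapBifunctor.hom_ext (fun p q h => ?_)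
  change _ ≫ (mapBifunctorMap _ _ F' (ComplexShape.up ℤ)).f n ≫ natHomX τ K' L' n =
    _ ≫ natHomX τ K L n ≫ Φ₃.map ((mapBifunctorMap f g F (ComplexShape.up ℤ)).f n)
  rw [ι_mapBifunctorMap_assoc, ι_natHomX, ι_natHomX_assoc, ← Functor.map_comp, ι_mapBifunctorMap,
    Functor.map_comp, Functor.map_comp]
  dsimp
  rw [comp_nat₂_assoc, comp_nat₁_assoc]

end Naturality

section Iso

variable (K : CochainComplex A ℤ) (L : CochainComplex B ℤ)
  [HasMapBifunctor K L F (ComplexShape.up ℤ)]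
  [HasMapBifunctor ((Φ₁.mapHomologicalComplex (ComplexShape.up ℤ)).obj K)
    ((Φ₂.mapHomologicalComplex (ComplexShape.up ℤ)).obj L) F' (ComplexShape.up ℤ)]

omit [Φ₃.Additive] in
lemma isIso_natHomX [IsIso τ] (n : ℤ)
    [∀ J : Type, PreservesColimitsOfShape (Discrete J) Φ₃] : IsIso (natHomX τ K L n) := by
  let X := ((GradedObject.mapBifunctor F ℤ ℤ).obj K.X).obj L.X
  let X' := ((GradedObject.mapBifunctor F' ℤ ℤ).obj (fun i => Φ₁.obj (K.X i))).obj (fun i => Φ₂.obj (L.X i))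
  let π := ComplexShape.π (ComplexShape.up ℤ) (ComplexShape.up ℤ) (ComplexShape.up ℤ)
  have : X.HasMap π := ‹HasMapBifunctor K L F (ComplexShape.up ℤ)›
  have : X'.HasMap π := ‹HasMapBifunctor ((Φ₁.mapHomologicalComplex (ComplexShape.up ℤ)).obj K)
    ((Φ₂.mapHomologicalComplex (ComplexShape.up ℤ)).obj L) F' (ComplexShape.up ℤ)›
  let hc := isColimitOfPreserves Φ₃ (X.isColimitCofanMapObj π n)
  let hc' := X'.isColimitCofanMapObj π n
  let α : Discrete.functor (X'.mapObjFun π n) ≅ Discrete.functor (X.mapObjFun π n) ⋙ Φ₃ :=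
    Discrete.natIso (fun j => asIso (comp τ (K.X j.as.1.1) (L.X j.as.1.2)))
  have : natHomX τ K L n = (hc'.coconePointsIsoOfNatIso hc α).hom := by
    refine hc'.hom_ext (fun j => ?_)
    rw [IsColimit.comp_coconePointsIsoOfNatIso_hom]
    obtain ⟨⟨⟨p, q⟩, h⟩⟩ := j
    exact ι_natHomX τ K L p q n h
  rw [this]
  infer_instance

instance isIso_natHom [IsIso τ] [∀ J : Type, PreservesColimitsOfShape (Discrete J) Φ₃] :
    IsIso (natHom τ K L) := by
  have : ∀ n, IsIso ((natHom τ K L).f n) := fun n => isIso_natHomX τ K L n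
  exact HomologicalComplex.Hom.isIso_of_components _

end Iso

section Functors

variable [∀ (K₁ : CochainComplex A ℤ) (K₂ : CochainComplex B ℤ), CochainComplex.HasMapBifunctor K₁ K₂ F]
  [∀ (K₁ : CochainComplex A' ℤ) (K₂ : CochainComplex B' ℤ), CochainComplex.HasMapBifunctor K₁ K₂ F']

/-- The natural transformation `F' (Φ₁ K, Φ₂ L) ⟶ Φ₃ (F (K, L))` of bifunctors on complexes. -/
noncomputable def natTrans :
    Φ₁.mapHomologicalComplex (ComplexShape.up ℤ) ⋙ F'.map₂CochainComplex ⋙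
      (Functor.whiskeringLeft _ _ _).obj (Φ₂.mapHomologicalComplex (ComplexShape.up ℤ)) ⟶
    F.map₂CochainComplex ⋙
      (Functor.whiskeringRight _ _ _).obj (Φ₃.mapHomologicalComplex (ComplexShape.up ℤ)) where
  app K :=
    { app := fun L => natHom τ K L
      naturality := fun L L' g => by
        have := natHom_naturality τ (𝟙 K) g
        rw [CategoryTheory.Functor.map_id] at this
        exact this }
  naturality K K' f := by
    ext L : 2
    have := natHom_naturality τ f (𝟙 L)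
    rw [CategoryTheory.Functor.map_id] at this
    exact this

@[simp]
lemma natTrans_app_app (K : CochainComplex A ℤ) (L : CochainComplex B ℤ) :
    ((natTrans τ).app K).app L = natHom τ K L := rfl

instance isIso_natTrans [IsIso τ] [∀ J : Type, PreservesColimitsOfShape (Discrete J) Φ₃] :
    IsIso (natTrans τ) := by
  have : ∀ K, IsIso ((natTrans τ).app K) := fun K => by
    have : ∀ L, IsIso (((natTrans τ).app K).app L) := fun L => isIso_natHom τ K L
    exact NatIso.isIso_of_isIso_app _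
  exact NatIso.isIso_of_isIso_app _

/-- `Φ₃ (F (K, L)) ≅ F' (Φ₁ K, Φ₂ L)` as bifunctors on complexes. -/
noncomputable def natIso
    (e : F ⋙ (Functor.whiskeringRight _ _ _).obj Φ₃ ≅ Φ₁ ⋙ F' ⋙ (Functor.whiskeringLeft _ _ _).obj Φ₂)
    [∀ J : Type, PreservesColimitsOfShape (Discrete J) Φ₃] :
    F.map₂CochainComplex ⋙
      (Functor.whiskeringRight _ _ _).obj (Φ₃.mapHomologicalComplex (ComplexShape.up ℤ)) ≅
    Φ₁.mapHomologicalComplex (ComplexShape.up ℤ) ⋙ F'.map₂CochainComplex ⋙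
      (Functor.whiskeringLeft _ _ _).obj (Φ₂.mapHomologicalComplex (ComplexShape.up ℤ)) :=
  (asIso (natTrans e.inv)).symm

end Functors

section Congr

variable {F₁ : A ⥤ B ⥤ C} [F₁.PreservesZeroMorphisms] [∀ X, (F₁.obj X).PreservesZeroMorphisms]
  {F₂ : A ⥤ B ⥤ C} [F₂.PreservesZeroMorphisms] [∀ X, (F₂.obj X).PreservesZeroMorphisms]
  {F₃ : A ⥤ B ⥤ C} [F₃.PreservesZeroMorphisms] [∀ X, (F₃.obj X).PreservesZeroMorphisms]
  (σ : F₁ ⟶ F₂) (σ' : F₂ ⟶ F₃)

section

variable (K : CochainComplex A ℤ) (L : CochainComplex B ℤ)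
  [HasMapBifunctor K L F₁ (ComplexShape.up ℤ)] [HasMapBifunctor K L F₂ (ComplexShape.up ℤ)]
  [HasMapBifunctor K L F₃ (ComplexShape.up ℤ)]

/-- The map in degree `n`. -/
noncomputable def congrHomX (n : ℤ) :
    (mapBifunctor K L F₁ (ComplexShape.up ℤ)).X n ⟶ (mapBifunctor K L F₂ (ComplexShape.up ℤ)).X n :=
  mapBifunctorDesc (fun p q h => (σ.app (K.X p)).app (L.X q) ≫
    ιMapBifunctor K L F₂ (ComplexShape.up ℤ) p q n h)

@[reassoc (attr := simp)]
lemma ι_congrHomX (p q n : ℤ) (h : ComplexShape.π (ComplexShape.up ℤ) (ComplexShape.up ℤ)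
    (ComplexShape.up ℤ) (p, q) = n) :
    ιMapBifunctor K L F₁ (ComplexShape.up ℤ) p q n h ≫ congrHomX σ K L n =
      (σ.app (K.X p)).app (L.X q) ≫ ιMapBifunctor K L F₂ (ComplexShape.up ℤ) p q n h := by
  simp [congrHomX]

lemma ιOrZero_congrHomX (p q n : ℤ) :
    ιMapBifunctorOrZero K L F₁ (ComplexShape.up ℤ) p q n ≫ congrHomX σ K L n =
      (σ.app (K.X p)).app (L.X q) ≫ ιMapBifunctorOrZero K L F₂ (ComplexShape.up ℤ) p q n := by
  by_cases h : ComplexShape.π (ComplexShape.up ℤ) (ComplexShape.up ℤ) (ComplexShape.up ℤ) (p, q) = n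
  · rw [ιMapBifunctorOrZero_eq _ _ _ _ _ _ _ h, ιMapBifunctorOrZero_eq _ _ _ _ _ _ _ h, ι_congrHomX]
  · rw [ιMapBifunctorOrZero_eq_zero _ _ _ _ _ _ _ h, ιMapBifunctorOrZero_eq_zero _ _ _ _ _ _ _ h,
      zero_comp, comp_zero]

/-- The morphism of complexes `F₁ (K, L) ⟶ F₂ (K, L)`. -/
noncomputable def congrHom :
    mapBifunctor K L F₁ (ComplexShape.up ℤ) ⟶ mapBifunctor K L F₂ (ComplexShape.up ℤ) where
  f n := congrHomX σ K L n
  comm' n n' hn := by
    refine mapBifunctor.hom_ext (fun p q h => ?_)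
    have hp : (ComplexShape.up ℤ).Rel p (p + 1) := rfl
    have hq : (ComplexShape.up ℤ).Rel q (q + 1) := rfl
    rw [ι_congrHomX_assoc]
    simp only [mapBifunctor.d_eq, Preadditive.add_comp, Preadditive.comp_add,
      mapBifunctor.ι_D₁_assoc, mapBifunctor.ι_D₂_assoc, mapBifunctor.d₁_eq' _ _ _ _ hp,
      mapBifunctor.d₂_eq' _ _ _ _ _ hq, mapBifunctor.ι_D₁, mapBifunctor.ι_D₂,
      Linear.units_smul_comp, Linear.comp_units_smul, assoc, ιOrZero_congrHomX]
    congr 2
    · rw [← NatTrans.comp_app_assoc, ← NatTrans.comp_app_assoc, σ.naturality]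
    · rw [← (σ.app (K.X p)).naturality_assoc]

@[simp]
lemma congrHom_f (n : ℤ) : (congrHom σ K L).f n = congrHomX σ K L n := rfl

lemma congrHom_comp : congrHom (σ ≫ σ') K L = congrHom σ K L ≫ congrHom σ' K L := by
  ext n : 1
  refine mapBifunctor.hom_ext (fun p q h => ?_)
  simp

lemma congrHom_id : congrHom (𝟙 F₁) K L = 𝟙 _ := by
  ext n : 1
  refine mapBifunctor.hom_ext (fun p q h => ?_)
  simp

end

@[reassoc]
lemma congrHom_naturality {K K' : CochainComplex A ℤ} {L L' : CochainComplex B ℤ} (f : K ⟶ K') (g : L ⟶ L')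
    [HasMapBifunctor K L F₁ (ComplexShape.up ℤ)] [HasMapBifunctor K L F₂ (ComplexShape.up ℤ)]
    [HasMapBifunctor K' L' F₁ (ComplexShape.up ℤ)] [HasMapBifunctor K' L' F₂ (ComplexShape.up ℤ)] :
    mapBifunctorMap f g F₁ (ComplexShape.up ℤ) ≫ congrHom σ K' L' =
      congrHom σ K L ≫ mapBifunctorMap f g F₂ (ComplexShape.up ℤ) := by
  ext n : 1
  refine mapBifunctor.hom_ext (fun p q h => ?_)
  simp

variable [∀ (K₁ : CochainComplex A ℤ) (K₂ : CochainComplex B ℤ), CochainComplex.HasMapBifunctor K₁ K₂ F₁]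
  [∀ (K₁ : CochainComplex A ℤ) (K₂ : CochainComplex B ℤ), CochainComplex.HasMapBifunctor K₁ K₂ F₂]

/-- `F₁ (K, L) ⟶ F₂ (K, L)` as bifunctors on complexes. -/
noncomputable def congrNat : F₁.map₂CochainComplex ⟶ F₂.map₂CochainComplex where
  app K :=
    { app := fun L => congrHom σ K L
      naturality := fun L L' g => congrHom_naturality σ (𝟙 K) g }
  naturality K K' f := by
    ext L : 2
    exact congrHom_naturality σ f (𝟙 L)

/-- An isomorphism of bifunctors induces an isomorphism of bifunctors on complexes. -/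
noncomputable def congrIso (e : F₁ ≅ F₂) : F₁.map₂CochainComplex ≅ F₂.map₂CochainComplex where
  hom := congrNat e.hom
  inv := congrNat e.inv
  hom_inv_id := by
    ext K : 2
    ext L : 2
    change congrHom e.hom K L ≫ congrHom e.inv K L = 𝟙 _
    rw [← congrHom_comp, e.hom_inv_id, congrHom_id]
  inv_hom_id := by
    ext K : 2
    ext L : 2
    change congrHom e.inv K L ≫ congrHom e.hom K L = 𝟙 _
    rw [← congrHom_comp, e.inv_hom_id, congrHom_id]

end Congr

section Flip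

variable [∀ (K₁ : CochainComplex A ℤ) (K₂ : CochainComplex B ℤ), CochainComplex.HasMapBifunctor K₁ K₂ F]

instance hasMapBifunctor_flip (K₁ : CochainComplex B ℤ) (K₂ : CochainComplex A ℤ) :
    CochainComplex.HasMapBifunctor K₁ K₂ F.flip :=
  inferInstanceAs (HomologicalComplex.HasMapBifunctor K₁ K₂ F.flip (ComplexShape.up ℤ))

variable (F) in
/-- The flip of the bifunctor on complexes is the bifunctor on complexes attached to the flip. -/
noncomputable def flipNatIso : F.map₂CochainComplex.flip ≅ F.flip.map₂CochainComplex :=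
  NatIso.ofComponents (fun L => NatIso.ofComponents (fun K => (mapBifunctorFlipIso K L F (ComplexShape.up ℤ)).symm)
    (fun {K K'} f => by
      rw [← cancel_epi (mapBifunctorFlipIso K L F (ComplexShape.up ℤ)).hom,
        ← cancel_mono (mapBifunctorFlipIso K' L F (ComplexShape.up ℤ)).hom]
      have := mapBifunctorFlipIso_hom_naturality f (𝟙 L) F (ComplexShape.up ℤ)
      dsimp
      simp only [assoc, Iso.inv_hom_id, comp_id, Iso.hom_inv_id_assoc]
      exact this.symm))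
    (fun {L L'} g => by
      ext K : 2
      rw [NatTrans.comp_app, NatTrans.comp_app]
      rw [← cancel_epi (mapBifunctorFlipIso K L F (ComplexShape.up ℤ)).hom,
        ← cancel_mono (mapBifunctorFlipIso K L' F (ComplexShape.up ℤ)).hom]
      have := mapBifunctorFlipIso_hom_naturality (𝟙 K) g F (ComplexShape.up ℤ)
      dsimp
      simp only [assoc, Iso.inv_hom_id, comp_id, Iso.hom_inv_id_assoc]
      exact this.symm)

/-- The flip of the bifunctor on complexes attached to `F`, when `F.flip ≅ F₁`. -/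
noncomputable def flipIso {F₁ : B ⥤ A ⥤ C} [F₁.PreservesZeroMorphisms] [∀ X, (F₁.obj X).PreservesZeroMorphisms]
    [∀ (K₁ : CochainComplex B ℤ) (K₂ : CochainComplex A ℤ), CochainComplex.HasMapBifunctor K₁ K₂ F₁]
    (e : F.flip ≅ F₁) : F.map₂CochainComplex.flip ≅ F₁.map₂CochainComplex :=
  flipNatIso F ≪≫ congrIso e

end Flip

end Groth.Agent.PerfC.CxNat
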