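import Groth.Agent.PerfA.Restrict
import Groth.Agent.CohqB.DevSupport
import Groth.Agent.CohqA.FTStalk

/-!
# Supports of the cohomology sheaves of objects of `D(O_X)`
-/

set_option autoImplicit false
universe u
open CategoryTheory CategoryTheory.Limits AlgebraicGeometry Pretriangulated
attribute [local instance] HasDerivedCategory.standard

namespace Groth.Agent.PerfC.Supp
open Groth.Agent.PerfA.Restrict Groth.Agent.PerfA Groth.Agent.CohqB

variable {X Y : Scheme.{u}}

/-- The support of the `i`-th cohomology sheaf of `K`. -/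
abbrev supp (K : DCoh.D X) (i : ℤ) : Set X := CohB1.support (DCoh.HD K i)

lemma supp_congr {K L : DCoh.D X} (e : K ≅ L) (i : ℤ) : supp K i = supp L i :=
  DevSupport.support_congr ((DerivedCategory.homologyFunctor X.Modules i).mapIso e)

/-- Supports and three-term exact sequences. -/
lemma support_exact {S : ShortComplex X.Modules} (hS : S.Exact) :
    CohB1.support S.X₂ ⊆ CohB1.support S.X₁ ∪ CohB1.support S.X₃ := by
  intro x hx
  by_contra h
  rw [Set.mem_union, not_or, DevSupport.not_mem_support_iff_isZero,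
    DevSupport.not_mem_support_iff_isZero] at h
  refine (DevSupport.not_mem_support_iff_isZero S.X₂ x).2 ?_ hx
  exact (hS.map (DevSupport.stalkF X x)).isZero_of_both_zeros (h.1.eq_of_src _ _)
    (h.2.eq_of_tgt _ _)

lemma supp_obj₂ (T : Triangle (DCoh.D X)) (hT : T ∈ distinguishedTriangles) (i : ℤ) :
    supp T.obj₂ i ⊆ supp T.obj₁ i ∪ supp T.obj₃ i :=
  support_exact (DerivedCategory.HomologySequence.exact₂ T hT i)

lemma supp_obj₃ (T : Triangle (DCoh.D X)) (hT : T ∈ distinguishedTriangles) (i j : ℤ)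
    (h : i + 1 = j) : supp T.obj₃ i ⊆ supp T.obj₂ i ∪ supp T.obj₁ j :=
  support_exact (DerivedCategory.HomologySequence.exact₃ T hT i j h)

lemma supp_obj₁ (T : Triangle (DCoh.D X)) (hT : T ∈ distinguishedTriangles) (i j : ℤ)
    (h : i + 1 = j) : supp T.obj₁ j ⊆ supp T.obj₃ i ∪ supp T.obj₂ j :=
  support_exact (DerivedCategory.HomologySequence.exact₁ T hT i j h)

/-- Cohomology of a shift. -/
noncomputable def HDshift (K : DCoh.D X) (n i j : ℤ) (h : n + i = j) :
    DCoh.HD (K⟦n⟧) i ≅ DCoh.HD K j :=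
  ((DerivedCategory.homologyFunctor X.Modules 0).shiftIso n i j h).app K

lemma supp_shift (K : DCoh.D X) (n i j : ℤ) (h : n + i = j) :
    supp (K⟦n⟧) i = supp K j :=
  DevSupport.support_congr (HDshift K n i j h)

lemma supp_eq_empty_iff (K : DCoh.D X) (i : ℤ) : supp K i = ∅ ↔ IsZero (DCoh.HD K i) :=
  ⟨DevSupport.isZero_of_support_eq_empty, DevSupport.support_eq_empty_of_isZero⟩

lemma support_restrict (j : Y ⟶ X) [IsOpenImmersion j] (M : X.Modules) :
    CohB1.support (M.restrict j) = j ⁻¹' CohB1.support M := by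
  ext y
  change ¬ _ ↔ ¬ _
  rw [Groth.Agent.CohqA.FTStalk.subsingleton_stalk_restrict_iff]

lemma supp_restrictD (j : Y ⟶ X) [IsOpenImmersion j] (K : DCoh.D X) (i : ℤ) :
    supp ((restrictD j).obj K) i = j ⁻¹' supp K i := by
  rw [← support_restrict]
  exact DevSupport.support_congr (HDrestrict j K i)

lemma supp_zero {K : DCoh.D X} (h : IsZero K) (i : ℤ) : supp K i = ∅ :=
  (supp_eq_empty_iff K i).2 (Functor.map_isZero _ h)

end Groth.Agent.PerfC.Supp
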