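import Groth.Agent.PerfC.TildeStalk
import Groth.Agent.PerfC.CxNat
import Groth.Agent.Dcoh.KFlatMod
import Groth.Prelude.Def_DRing4

/-!
# `K^~` is K-flat for `K` K-flat (Stacks 08DV)
-/

set_option autoImplicit false
universe u

open CategoryTheory CategoryTheory.Limits AlgebraicGeometry Opposite TopologicalSpace MonoidalCategory
open Groth.Agent.PerfC.TildeHom Groth.Agent.Dcoh.Stalk Groth.Agent.PerfC.TildeStalk

namespace Groth.Agent.PerfC.TildeKFlat

variable {R : CommRingCat.{u}}

/-- `(M, N) ↦ M ⊗ N^~` -/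
noncomputable def FT (R : CommRingCat.{u}) : (Spec R).Modules ⥤ ModuleCat.{u} R ⥤ (Spec R).Modules :=
  DCoh.tensorBi ⋙ (Functor.whiskeringLeft _ _ _).obj (tilde.functor R)

instance (M : (Spec R).Modules) : ((FT R).obj M).Additive :=
  inferInstanceAs (tilde.functor R ⋙ DCoh.tensorBi.obj M).Additive

instance : (FT R).Additive := by
  unfold FT; infer_instance

instance (x : Spec R) : (SR x).Additive := by
  unfold SR; infer_instance

instance (x : Spec R) : PreservesFiniteLimits (SR x) := by
  unfold SR; infer_instance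

instance (x : Spec R) : PreservesFiniteColimits (SR x) := by
  unfold SR; infer_instance

instance (x : Spec R) : PreservesColimitsOfSize.{0, 0} (SR x) := by
  unfold SR; infer_instance

theorem nat_right (x : Spec R) (M : (Spec R).Modules) {N N' : ModuleCat.{u} R} (h : N ⟶ N') :
    (SR x).map ((DCoh.tensorBi.obj M).map (tilde.map h)) ≫ (tensorTildeStalk x M N').hom =
      (tensorTildeStalk x M N).hom ≫ ((SR x).obj M ◁ h) := by
  have h1 := tensorTildeStalk_naturality x (𝟙 M) h
  rw [CategoryTheory.Functor.map_id, CategoryTheory.Functor.map_id, NatTrans.id_app,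
    Category.id_comp, id_tensorHom] at h1
  exact h1

theorem nat_left (x : Spec R) {M M' : (Spec R).Modules} (f : M ⟶ M') (N : ModuleCat.{u} R) :
    (SR x).map ((DCoh.tensorBi.map f).app (tilde N)) ≫ (tensorTildeStalk x M' N).hom =
      (tensorTildeStalk x M N).hom ≫ ((SR x).map f ▷ N) := by
  have h1 := tensorTildeStalk_naturality x f (𝟙 N)
  have h2 : (DCoh.tensorBi.obj M').map (tilde.map (𝟙 N)) = 𝟙 _ := by
    rw [tilde.map_id]
    exact CategoryTheory.Functor.map_id _ _
  rw [h2, Category.comp_id, tensorHom_id] at h1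
  exact h1

/-- `(M ⊗ N^~)_x = M_x ⊗_R N` as bifunctors. -/
noncomputable def biIso (x : Spec R) :
    FT R ⋙ (Functor.whiskeringRight _ _ _).obj (SR x) ≅
      SR x ⋙ curriedTensor (ModuleCat.{u} R) ⋙ (Functor.whiskeringLeft _ _ _).obj (𝟭 (ModuleCat.{u} R)) :=
  NatIso.ofComponents (fun M => NatIso.ofComponents (fun N => tensorTildeStalk x M N)
    (fun {N N'} h => nat_right x M h))
    (fun {M M'} f => by
      ext1
      ext1 N
      exact nat_left x f N)

section Cx

variable (x : Spec R) (L : CochainComplex (Spec R).Modules ℤ) (K : CochainComplex (ModuleCat.{u} R) ℤ)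

/-- `(L ⊗ K^~)_x = L_x ⊗_R K` on complexes, comparison map. -/
noncomputable def cxHom :
    HomologicalComplex.mapBifunctor (((SR x).mapHomologicalComplex (ComplexShape.up ℤ)).obj L)
      (((𝟭 (ModuleCat.{u} R)).mapHomologicalComplex (ComplexShape.up ℤ)).obj K)
      (curriedTensor (ModuleCat.{u} R)) (ComplexShape.up ℤ) ⟶
    ((SR x).mapHomologicalComplex (ComplexShape.up ℤ)).obj
      (HomologicalComplex.mapBifunctor L K (FT R) (ComplexShape.up ℤ)) :=
  CxNat.natHom (F := FT R) (F' := curriedTensor (ModuleCat.{u} R)) (Φ₁ := SR x)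
    (Φ₂ := 𝟭 (ModuleCat.{u} R)) (Φ₃ := SR x) (biIso x).inv L K

instance isIso_cxHom : IsIso (cxHom x L K) := by
  have h1 : ∀ J : Type, PreservesColimitsOfShape (Discrete J) (SR x) := fun J => inferInstance
  exact CxNat.isIso_natHom (F := FT R) (F' := curriedTensor (ModuleCat.{u} R)) (Φ₁ := SR x)
    (Φ₂ := 𝟭 (ModuleCat.{u} R)) (Φ₃ := SR x) (biIso x).inv L K

/-- `(L ⊗ K^~)_x = L_x ⊗_R K` on complexes, first form. -/
noncomputable def cxIso' :
    HomologicalComplex.mapBifunctor (((SR x).mapHomologicalComplex (ComplexShape.up ℤ)).obj L)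
      (((𝟭 (ModuleCat.{u} R)).mapHomologicalComplex (ComplexShape.up ℤ)).obj K)
      (curriedTensor (ModuleCat.{u} R)) (ComplexShape.up ℤ) ≅
    ((SR x).mapHomologicalComplex (ComplexShape.up ℤ)).obj
      (HomologicalComplex.mapBifunctor L K (FT R) (ComplexShape.up ℤ)) :=
  asIso (cxHom x L K)

/-- `(L ⊗ K^~)_x = L_x ⊗_R K` on complexes. -/
noncomputable def cxIso :
    (tensorRight K).obj (((SR x).mapHomologicalComplex (ComplexShape.up ℤ)).obj L) ≅
    ((SR x).mapHomologicalComplex (ComplexShape.up ℤ)).obj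
      ((DCoh.tensorCx.obj L).obj
        (((tilde.functor R).mapHomologicalComplex (ComplexShape.up ℤ)).obj K)) :=
  cxIso' x L K

end Cx

theorem isZero_of_SR (M : (Spec R).Modules) (h : ∀ x, IsZero ((SR x).obj M)) : IsZero M := by
  have h2 : ∀ x : Spec R, IsIso ((stalkF x).map (0 : M ⟶ M)) := fun x => by
    have h3 : IsZero ((stalkF x).obj M) := by
      have h4 : Subsingleton ((SR x).obj M) := ModuleCat.subsingleton_of_isZero (h x)
      have : Subsingleton ((stalkF x).obj M) := h4
      exact ModuleCat.isZero_of_subsingleton _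
    rw [Functor.map_zero]
    exact (isIsoZero_iff_source_target_isZero _ _).2 ⟨h3, h3⟩
  have h1 : IsIso (0 : M ⟶ M) := (jointlyReflectIsos (Spec R)).isIso (0 : M ⟶ M)
  exact ((isIsoZero_iff_source_target_isZero _ _).1 h1).1

theorem isKFlat_tilde (K : CochainComplex (ModuleCat.{u} R) ℤ)
    (hK : ∀ L : CochainComplex (ModuleCat.{u} R) ℤ, (∀ i : ℤ, IsZero (L.homology i)) →
      ∀ i : ℤ, IsZero (((tensorRight K).obj L).homology i)) :
    DCoh.IsKFlat (((tilde.functor R).mapHomologicalComplex (ComplexShape.up ℤ)).obj K) := by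
  intro L hL i
  refine isZero_of_SR _ fun x => ?_
  have h1 : ∀ j : ℤ, IsZero ((((SR x).mapHomologicalComplex (ComplexShape.up ℤ)).obj L).homology j) :=
    fun j => IsZero.of_iso ((SR x).map_isZero (hL j)) ((L.sc j).mapHomologyIso (SR x))
  have h2 := hK _ h1 i
  have h3 := h2.of_iso (HomologicalComplex.homologyMapIso (cxIso x L K).symm i)
  exact h3.of_iso ((((DCoh.tensorCx.obj L).obj
    (((tilde.functor R).mapHomologicalComplex (ComplexShape.up ℤ)).obj K)).sc i).mapHomologyIso
      (SR x)).symm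

end Groth.Agent.PerfC.TildeKFlat
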