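import Groth.Agent.PerfC.LpullTens
import Groth.Agent.Dcoh.ProjShriek
import Groth.Agent.Dcoh.MonRes290

/-!
# Restriction to opens commutes with the derived tensor product

* `restrTens j : (K ⊗ᴸ L)|_U ≅ K|_U ⊗ᴸ L|_U`, naturally in both variables.
-/

set_option autoImplicit false

universe u

open CategoryTheory CategoryTheory.Limits AlgebraicGeometry

attribute [local instance] HasDerivedCategory.standard

namespace Groth.Agent.PerfC.LTXRestr

open DCoh Groth.Agent.PerfC.DTens Groth.Agent.PerfC.LpullTens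

variable {X U : Scheme.{u}} (j : U ⟶ X) [IsOpenImmersion j]

/-- `(M ⊗ N)|_U ≅ M|_U ⊗ N|_U`. -/
noncomputable def restrBi : tensorBi (X := X) ⋙
      (Functor.whiskeringRight _ _ _).obj (Scheme.Modules.restrictFunctor j) ≅
    Scheme.Modules.restrictFunctor j ⋙ tensorBi (X := U) ⋙
      (Functor.whiskeringLeft _ _ _).obj (Scheme.Modules.restrictFunctor j) :=
  letI := Groth.Agent.Dcoh.MonRes290.restrictMonoidal j
  biIso (Scheme.Modules.restrictFunctor j)

/-- `(K ⊗ᴸ L)|_U ≅ K|_U ⊗ᴸ L|_U`, naturally in both variables. -/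
noncomputable def restrTens : LTX X ⋙ (Functor.whiskeringRight _ _ _).obj (restrictD j) ≅
    restrictD j ⋙ LTX U ⋙ (Functor.whiskeringLeft _ _ _).obj (restrictD j) :=
  mIso (Scheme.Modules.restrictFunctor j) (restrBi j) (restrictD j)
    (Scheme.Modules.restrictFunctor j).mapDerivedCategoryFactors.hom (fun _ _ => inferInstance)
    (fun _ hK => Groth.Agent.Dcoh.ProjShriek.isKFlat_restrict j hK)

/-- `(A ⊗ᴸ K)|_U ≅ A|_U ⊗ᴸ K|_U`. -/
noncomputable def restrTensObj (A K : D X) : (restrictD j).obj (((LTX X).obj A).obj K) ≅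
    ((LTX U).obj ((restrictD j).obj A)).obj ((restrictD j).obj K) :=
  ((restrTens j).app A).app K

/-- `(A ⊗ᴸ -)|_U ≅ A|_U ⊗ᴸ (-)|_U`. -/
noncomputable def restrTensRight (A : D X) : (LTX X).obj A ⋙ restrictD j ≅
    restrictD j ⋙ (LTX U).obj ((restrictD j).obj A) :=
  (restrTens j).app A

end Groth.Agent.PerfC.LTXRestr
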