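import Groth.Agent.PerfC.CxNat
import Mathlib.CategoryTheory.Monoidal.Functor

/-!
# `CxNat.natIso` with opaque bifunctors on complexes; monoidal functors

The bifunctors on complexes are variables `G`, `G'` with `hG : G = F.map₂CochainComplex` (speed of the kernel).
-/

set_option autoImplicit false

universe v₁ v₂ v₃ v₁' v₂' v₃' u₁ u₂ u₃ u₁' u₂' u₃'

namespace Groth.Agent.PerfC.CxNat2

open CategoryTheory Category Limits HomologicalComplex MonoidalCategory

variable {A : Type u₁} [Category.{v₁} A] [Preadditive A]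
  {B : Type u₂} [Category.{v₂} B] [Preadditive B]
  {C : Type u₃} [Category.{v₃} C] [Preadditive C]
  {A' : Type u₁'} [Category.{v₁'} A'] [Preadditive A']
  {B' : Type u₂'} [Category.{v₂'} B'] [Preadditive B']
  {C' : Type u₃'} [Category.{v₃'} C'] [Preadditive C']
  {F : A ⥤ B ⥤ C} [F.Additive] [∀ X, (F.obj X).Additive]
  {F' : A' ⥤ B' ⥤ C'} [F'.Additive] [∀ X, (F'.obj X).Additive]
  {Φ₁ : A ⥤ A'} [Φ₁.PreservesZeroMorphisms] {Φ₂ : B ⥤ B'} [Φ₂.PreservesZeroMorphisms]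
  {Φ₃ : C ⥤ C'} [Φ₃.Additive]
  [∀ (K₁ : CochainComplex A ℤ) (K₂ : CochainComplex B ℤ), CochainComplex.HasMapBifunctor K₁ K₂ F]
  [∀ (K₁ : CochainComplex A' ℤ) (K₂ : CochainComplex B' ℤ), CochainComplex.HasMapBifunctor K₁ K₂ F']
  {G : CochainComplex A ℤ ⥤ CochainComplex B ℤ ⥤ CochainComplex C ℤ}
  {G' : CochainComplex A' ℤ ⥤ CochainComplex B' ℤ ⥤ CochainComplex C' ℤ}

/-- `CxNat.natIso` with opaque bifunctors. -/
theorem nonempty_natIso (hG : G = F.map₂CochainComplex) (hG' : G' = F'.map₂CochainComplex)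
    (e : F ⋙ (Functor.whiskeringRight _ _ _).obj Φ₃ ≅ Φ₁ ⋙ F' ⋙ (Functor.whiskeringLeft _ _ _).obj Φ₂)
    [∀ J : Type, PreservesColimitsOfShape (Discrete J) Φ₃] :
    Nonempty (G ⋙ (Functor.whiskeringRight _ _ _).obj (Φ₃.mapHomologicalComplex (ComplexShape.up ℤ)) ≅
      Φ₁.mapHomologicalComplex (ComplexShape.up ℤ) ⋙ G' ⋙
        (Functor.whiskeringLeft _ _ _).obj (Φ₂.mapHomologicalComplex (ComplexShape.up ℤ))) := by
  subst hG hG'
  exact ⟨CxNat.natIso e⟩

section Monoidal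

variable {C : Type u₁} [Category.{v₁} C] [MonoidalCategory C] {D : Type u₂} [Category.{v₂} D]
  [MonoidalCategory D] (Φ : C ⥤ D) [Φ.Monoidal]

/-- A monoidal functor commutes with the tensor product. -/
noncomputable def curriedIso : curriedTensor C ⋙ (Functor.whiskeringRight _ _ _).obj Φ ≅
    Φ ⋙ curriedTensor D ⋙ (Functor.whiskeringLeft _ _ _).obj Φ :=
  NatIso.ofComponents (fun M => NatIso.ofComponents (fun N => (Functor.Monoidal.μIso Φ M N).symm)
      (fun {N N'} g => by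
        change Φ.map (M ◁ g) ≫ Functor.OplaxMonoidal.δ Φ M N' = Functor.OplaxMonoidal.δ Φ M N ≫ Φ.obj M ◁ Φ.map g
        exact (Functor.OplaxMonoidal.δ_natural_right Φ M g).symm))
    (fun {M M'} f => by
      ext N
      change Φ.map (f ▷ N) ≫ Functor.OplaxMonoidal.δ Φ M' N = Functor.OplaxMonoidal.δ Φ M N ≫ Φ.map f ▷ Φ.obj N
      exact (Functor.OplaxMonoidal.δ_natural_left Φ f N).symm)

end Monoidal

end Groth.Agent.PerfC.CxNat2
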