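import Mathlib.Algebra.Homology.DerivedCategory.Fractions

/-!
# Natural transformations of functors on derived categories defined on resolutions

Let `P` be a class of complexes such that every complex `K` has a quasi-isomorphism `L ⟶ K` with `P L`.
A family of maps `G (Q K) ⟶ G' (Q K)` for `K` in `P`, natural in the complex `K` in `P`, extends to
a natural transformation `G ⟶ G'` (`PNat.ext`); similarly for bifunctors (`PNat₂.ext`).
-/

set_option autoImplicit false

universe w₁ w₂ v₁ v₂ v₃ u₁ u₂ u₃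

open CategoryTheory Category Limits

namespace Groth.Agent.PerfC.ExtNat

variable {A : Type u₁} [Category.{v₁} A] [Abelian A] [HasDerivedCategory.{w₁} A]
  {B : Type u₂} [Category.{v₂} B] [Abelian B] [HasDerivedCategory.{w₂} B]
  {E : Type u₃} [Category.{v₃} E]

/-- Every complex has a resolution by a complex in `P`. -/
def HasRes (P : ObjectProperty (CochainComplex A ℤ)) : Prop :=
  ∀ K : CochainComplex A ℤ, ∃ (L : CochainComplex A ℤ) (w : L ⟶ K), P L ∧ QuasiIso w

variable {P : ObjectProperty (CochainComplex A ℤ)} {P' : ObjectProperty (CochainComplex B ℤ)}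

lemma HasRes.exists_iso (hP : HasRes P) (X : DerivedCategory A) :
    ∃ (K : CochainComplex A ℤ), P K ∧ Nonempty (DerivedCategory.Q.obj K ≅ X) := by
  obtain ⟨K, w, hK, hw⟩ := hP (DerivedCategory.Q.objPreimage X)
  have i' : IsIso (DerivedCategory.Q.map w) := (DerivedCategory.isIso_Q_map_iff_quasiIso A _).2 hw
  exact ⟨K, hK, ⟨asIso (DerivedCategory.Q.map w) ≪≫ DerivedCategory.Q.objObjPreimageIso X⟩⟩

/-- Any morphism in the derived category is a fraction with source in `P`. -/
lemma HasRes.right_fac (hP : HasRes P) {X Y : CochainComplex A ℤ}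
    (f : DerivedCategory.Q.obj X ⟶ DerivedCategory.Q.obj Y) :
    ∃ (X' : CochainComplex A ℤ) (_ : P X') (s : X' ⟶ X) (_ : IsIso (DerivedCategory.Q.map s)) (g : X' ⟶ Y),
      f = inv (DerivedCategory.Q.map s) ≫ DerivedCategory.Q.map g := by
  obtain ⟨X', s, hs, g, rfl⟩ := DerivedCategory.right_fac f
  obtain ⟨X'', w, hX'', hw⟩ := hP X'
  have : IsIso (DerivedCategory.Q.map w) := (DerivedCategory.isIso_Q_map_iff_quasiIso A _).2 hw
  have h2 : IsIso (DerivedCategory.Q.map (w ≫ s)) := by
    rw [Functor.map_comp]; infer_instance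
  refine ⟨X'', hX'', w ≫ s, h2, w ≫ g, ?_⟩
  rw [← cancel_epi (DerivedCategory.Q.map (w ≫ s)), IsIso.hom_inv_id_assoc, Functor.map_comp, assoc,
    IsIso.hom_inv_id_assoc, Functor.map_comp]

variable (P) in
/-- A natural family of maps on the objects in `P`. -/
structure PNat (G G' : DerivedCategory A ⥤ E) where
  app : ∀ (K : CochainComplex A ℤ), P K →
    (G.obj (DerivedCategory.Q.obj K) ⟶ G'.obj (DerivedCategory.Q.obj K))
  nat : ∀ {K K' : CochainComplex A ℤ} (hK : P K) (hK' : P K') (u : K ⟶ K'),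
    G.map (DerivedCategory.Q.map u) ≫ app K' hK' = app K hK ≫ G'.map (DerivedCategory.Q.map u)

variable {G G' : DerivedCategory A ⥤ E} (m : PNat P G G') (hP : HasRes P)

include hP in
lemma PNat.nat' {K K' : CochainComplex A ℤ} (hK : P K) (hK' : P K')
    (f : DerivedCategory.Q.obj K ⟶ DerivedCategory.Q.obj K') :
    G.map f ≫ m.app K' hK' = m.app K hK ≫ G'.map f := by
  obtain ⟨X, hX, s, hs, g, rfl⟩ := hP.right_fac f
  have h1 := m.nat hX hK s
  have h2 := m.nat hX hK' g
  rw [Functor.map_comp, Functor.map_comp, assoc, h2, ← cancel_epi (G.map (DerivedCategory.Q.map s)),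
    ← Functor.map_comp_assoc, IsIso.hom_inv_id, CategoryTheory.Functor.map_id, id_comp, reassoc_of% h1,
    ← G'.map_comp_assoc, IsIso.hom_inv_id, CategoryTheory.Functor.map_id, id_comp]

/-- The object in `P` isomorphic to `X`. -/
noncomputable def pre (hP : HasRes P) (X : DerivedCategory A) : CochainComplex A ℤ := (hP.exists_iso X).choose

lemma pre_prop (X : DerivedCategory A) : P (pre hP X) := (hP.exists_iso X).choose_spec.1

/-- The isomorphism. -/
noncomputable def preIso (X : DerivedCategory A) : DerivedCategory.Q.obj (pre hP X) ≅ X :=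
  (hP.exists_iso X).choose_spec.2.some

/-- The extension of the natural family to a natural transformation. -/
noncomputable def PNat.ext : G ⟶ G' where
  app X := G.map (preIso hP X).inv ≫ m.app _ (pre_prop hP X) ≫ G'.map (preIso hP X).hom
  naturality X Y f := by
    have h := m.nat' hP (pre_prop hP X) (pre_prop hP Y) ((preIso hP X).hom ≫ f ≫ (preIso hP Y).inv)
    rw [← cancel_epi (G.map (preIso hP X).hom), ← cancel_mono (G'.map (preIso hP Y).inv)]
    simp only [assoc, ← G'.map_comp, Iso.hom_inv_id, CategoryTheory.Functor.map_id, comp_id]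
    rw [← G.map_comp_assoc (preIso hP X).hom (preIso hP X).inv, Iso.hom_inv_id, CategoryTheory.Functor.map_id, id_comp,
      ← h]
    simp only [Functor.map_comp, assoc]

lemma PNat.ext_app (K : CochainComplex A ℤ) (hK : P K) :
    (m.ext hP).app (DerivedCategory.Q.obj K) = m.app K hK := by
  have h := m.nat' hP hK (pre_prop hP _) (preIso hP (DerivedCategory.Q.obj K)).inv
  change G.map (preIso hP _).inv ≫ m.app _ (pre_prop hP _) ≫ G'.map (preIso hP _).hom = _
  rw [reassoc_of% h, ← G'.map_comp, Iso.inv_hom_id, CategoryTheory.Functor.map_id, comp_id]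

include hP in
lemma hom_ext {τ τ' : G ⟶ G'}
    (h : ∀ K : CochainComplex A ℤ, P K → τ.app (DerivedCategory.Q.obj K) = τ'.app (DerivedCategory.Q.obj K)) :
    τ = τ' := by
  ext X
  have e := preIso hP X
  rw [← cancel_epi (G.map e.hom), τ.naturality, τ'.naturality, h _ (pre_prop hP X)]

include hP in
lemma isIso_of_isIso_app (τ : G ⟶ G')
    (h : ∀ K : CochainComplex A ℤ, P K → IsIso (τ.app (DerivedCategory.Q.obj K))) : IsIso τ := by
  rw [NatTrans.isIso_iff_isIso_app]
  intro X
  exact (NatTrans.isIso_app_iff_of_iso τ (preIso hP X)).1 (h _ (pre_prop hP X))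

lemma PNat.isIso_ext (h : ∀ (K : CochainComplex A ℤ) (hK : P K), IsIso (m.app K hK)) : IsIso (m.ext hP) :=
  isIso_of_isIso_app hP _ (fun K hK => by rw [m.ext_app hP K hK]; exact h K hK)

variable (P P') in
/-- A natural family of maps on the objects in `P` and `P'`. -/
structure PNat₂ (G G' : DerivedCategory A ⥤ DerivedCategory B ⥤ E) where
  app : ∀ (K : CochainComplex A ℤ) (_ : P K) (L : CochainComplex B ℤ) (_ : P' L),
    ((G.obj (DerivedCategory.Q.obj K)).obj (DerivedCategory.Q.obj L) ⟶
      (G'.obj (DerivedCategory.Q.obj K)).obj (DerivedCategory.Q.obj L))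
  nat₁ : ∀ {K K' : CochainComplex A ℤ} (hK : P K) (hK' : P K') (u : K ⟶ K')
    (L : CochainComplex B ℤ) (hL : P' L),
    (G.map (DerivedCategory.Q.map u)).app (DerivedCategory.Q.obj L) ≫ app K' hK' L hL =
      app K hK L hL ≫ (G'.map (DerivedCategory.Q.map u)).app (DerivedCategory.Q.obj L)
  nat₂ : ∀ (K : CochainComplex A ℤ) (hK : P K) {L L' : CochainComplex B ℤ} (hL : P' L) (hL' : P' L')
    (v : L ⟶ L'),
    (G.obj (DerivedCategory.Q.obj K)).map (DerivedCategory.Q.map v) ≫ app K hK L' hL' =
      app K hK L hL ≫ (G'.obj (DerivedCategory.Q.obj K)).map (DerivedCategory.Q.map v)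

variable {G₂ G₂' : DerivedCategory A ⥤ DerivedCategory B ⥤ E} (m₂ : PNat₂ P P' G₂ G₂') (hP' : HasRes P')

/-- Currying of `PNat₂`. -/
noncomputable def PNat₂.curry₂ (K : CochainComplex A ℤ) (hK : P K) :
    PNat P' (G₂.obj (DerivedCategory.Q.obj K)) (G₂'.obj (DerivedCategory.Q.obj K)) where
  app L hL := m₂.app K hK L hL
  nat hL hL' v := m₂.nat₂ K hK hL hL' v

/-- Currying of `PNat₂`. -/
noncomputable def PNat₂.curry₁ : PNat P G₂ G₂' where
  app K hK := (m₂.curry₂ K hK).ext hP'
  nat {K K'} hK hK' u := by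
    refine hom_ext hP' (fun L hL => ?_)
    rw [NatTrans.comp_app, NatTrans.comp_app, PNat.ext_app _ hP' L hL, PNat.ext_app _ hP' L hL]
    exact m₂.nat₁ hK hK' u L hL

/-- The extension of a natural family of maps to a morphism of bifunctors. -/
noncomputable def PNat₂.ext : G₂ ⟶ G₂' := (m₂.curry₁ hP').ext hP

lemma PNat₂.ext_app (K : CochainComplex A ℤ) (hK : P K) (L : CochainComplex B ℤ) (hL : P' L) :
    ((m₂.ext hP hP').app (DerivedCategory.Q.obj K)).app (DerivedCategory.Q.obj L) = m₂.app K hK L hL := by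
  unfold PNat₂.ext
  rw [PNat.ext_app _ hP K hK]
  exact PNat.ext_app _ hP' L hL

include hP hP' in
lemma hom_ext₂ {τ τ' : G₂ ⟶ G₂'}
    (h : ∀ (K : CochainComplex A ℤ) (_ : P K) (L : CochainComplex B ℤ) (_ : P' L),
      (τ.app (DerivedCategory.Q.obj K)).app (DerivedCategory.Q.obj L) =
        (τ'.app (DerivedCategory.Q.obj K)).app (DerivedCategory.Q.obj L)) :
    τ = τ' :=
  hom_ext hP (fun K hK => hom_ext hP' (fun L hL => h K hK L hL))

lemma PNat₂.isIso_ext (h : ∀ (K : CochainComplex A ℤ) (hK : P K) (L : CochainComplex B ℤ) (hL : P' L),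
    IsIso (m₂.app K hK L hL)) : IsIso (m₂.ext hP hP') :=
  PNat.isIso_ext _ hP (fun K hK => PNat.isIso_ext _ hP' (fun L hL => h K hK L hL))

end Groth.Agent.PerfC.ExtNat
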