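import Groth.Agent.PerfC.DBif
import Groth.Agent.PerfC.ExtNat

/-!
# Left derived functors and derived bifunctors

`Φ : CochainComplex A ℤ ⥤ CochainComplex B ℤ` with left derived functor `LΦ` (`ν : Q ⋙ LΦ ⟶ Φ ⋙ Q` iso on
the class `P`), bifunctors `GA`, `GB` on complexes with derived bifunctors, and an isomorphism
`Φ (K ⊗ L) ≅ Φ K ⊗ Φ L` natural in both variables.  Then `LΦ (K ⊗ᴸ L) ≅ LΦ K ⊗ᴸ LΦ L` naturally in both variables.
-/

set_option autoImplicit false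

universe w₁ w₂ v₁ v₂ u₁ u₂

open CategoryTheory Category Limits

namespace Groth.Agent.PerfC.DBifMon

open Groth.Agent.PerfC.DInd Groth.Agent.PerfC.DBif Groth.Agent.PerfC.ExtNat

variable {A : Type u₁} [Category.{v₁} A] [Abelian A] [HasDerivedCategory.{w₁} A]
  {B : Type u₂} [Category.{v₂} B] [Abelian B] [HasDerivedCategory.{w₂} B]
  {GA : CochainComplex A ℤ ⥤ CochainComplex A ℤ ⥤ CochainComplex A ℤ}
  {GB : CochainComplex B ℤ ⥤ CochainComplex B ℤ ⥤ CochainComplex B ℤ}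
  {PA : ObjectProperty (CochainComplex A ℤ)} {PB : ObjectProperty (CochainComplex B ℤ)}
  (hA : BifData GA PA) (hB : BifData GB PB) [HasLT GA] [HasLT GB]
  {Φ : CochainComplex A ℤ ⥤ CochainComplex B ℤ} {LΦ : DerivedCategory A ⥤ DerivedCategory B}
  (ν : DerivedCategory.Q ⋙ LΦ ⟶ Φ ⋙ DerivedCategory.Q)

/-- The component of `ν`. -/
abbrev νa (K : CochainComplex A ℤ) : LΦ.obj (DerivedCategory.Q.obj K) ⟶ DerivedCategory.Q.obj (Φ.obj K) :=
  ν.app K

@[reassoc]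
lemma νa_nat {K K' : CochainComplex A ℤ} (u : K ⟶ K') :
    LΦ.map (DerivedCategory.Q.map u) ≫ νa ν K' = νa ν K ≫ DerivedCategory.Q.map (Φ.map u) :=
  ν.naturality u

/-- `LΦ (K ⊗ᴸ L) ⟶ Φ (K ⊗ L)`. -/
noncomputable def lhs (K L : CochainComplex A ℤ) :
    LΦ.obj (((LT hA).obj (DerivedCategory.Q.obj K)).obj (DerivedCategory.Q.obj L)) ⟶
      DerivedCategory.Q.obj (Φ.obj ((GA.obj K).obj L)) :=
  LΦ.map (κ hA K L) ≫ νa ν ((GA.obj K).obj L)

@[reassoc]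
lemma lhs_nat₁ {K K' : CochainComplex A ℤ} (u : K ⟶ K') (L : CochainComplex A ℤ) :
    LΦ.map (((LT hA).map (DerivedCategory.Q.map u)).app (DerivedCategory.Q.obj L)) ≫ lhs hA ν K' L =
      lhs hA ν K L ≫ DerivedCategory.Q.map (Φ.map ((GA.map u).app L)) := by
  rw [lhs, lhs, ← LΦ.map_comp_assoc, κ_nat₁, LΦ.map_comp, assoc, νa_nat, assoc]

@[reassoc]
lemma lhs_nat₂ (K : CochainComplex A ℤ) {L L' : CochainComplex A ℤ} (v : L ⟶ L') :
    LΦ.map (((LT hA).obj (DerivedCategory.Q.obj K)).map (DerivedCategory.Q.map v)) ≫ lhs hA ν K L' =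
      lhs hA ν K L ≫ DerivedCategory.Q.map (Φ.map ((GA.obj K).map v)) := by
  rw [lhs, lhs, ← LΦ.map_comp_assoc, κ_nat₂, LΦ.map_comp, assoc, νa_nat, assoc]

/-- `LΦ K ⊗ᴸ LΦ L ⟶ Φ K ⊗ Φ L`. -/
noncomputable def rhs (K L : CochainComplex A ℤ) :
    ((LT hB).obj (LΦ.obj (DerivedCategory.Q.obj K))).obj (LΦ.obj (DerivedCategory.Q.obj L)) ⟶
      DerivedCategory.Q.obj ((GB.obj (Φ.obj K)).obj (Φ.obj L)) :=
  ((LT hB).map (νa ν K)).app _ ≫ ((LT hB).obj _).map (νa ν L) ≫ κ hB (Φ.obj K) (Φ.obj L)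

@[reassoc]
lemma rhs_nat₁ {K K' : CochainComplex A ℤ} (u : K ⟶ K') (L : CochainComplex A ℤ) :
    ((LT hB).map (LΦ.map (DerivedCategory.Q.map u))).app (LΦ.obj (DerivedCategory.Q.obj L)) ≫ rhs hB ν K' L =
      rhs hB ν K L ≫ DerivedCategory.Q.map ((GB.map (Φ.map u)).app (Φ.obj L)) := by
  rw [rhs, rhs, ← NatTrans.comp_app_assoc, ← Functor.map_comp, νa_nat, Functor.map_comp,
    NatTrans.comp_app_assoc, ← NatTrans.naturality_assoc, κ_nat₁, assoc, assoc]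

@[reassoc]
lemma rhs_nat₂ (K : CochainComplex A ℤ) {L L' : CochainComplex A ℤ} (v : L ⟶ L') :
    ((LT hB).obj (LΦ.obj (DerivedCategory.Q.obj K))).map (LΦ.map (DerivedCategory.Q.map v)) ≫ rhs hB ν K L' =
      rhs hB ν K L ≫ DerivedCategory.Q.map ((GB.obj (Φ.obj K)).map (Φ.map v)) := by
  rw [rhs, rhs, NatTrans.naturality_assoc, ← Functor.map_comp_assoc, νa_nat, Functor.map_comp,
    assoc, assoc, assoc, κ_nat₂]

variable (μ : GA ⋙ (Functor.whiskeringRight _ _ _).obj Φ ≅ Φ ⋙ GB ⋙ (Functor.whiskeringLeft _ _ _).obj Φ)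

/-- The component of `μ`. -/
abbrev μa (K L : CochainComplex A ℤ) : Φ.obj ((GA.obj K).obj L) ≅ (GB.obj (Φ.obj K)).obj (Φ.obj L) :=
  (μ.app K).app L

omit [HasDerivedCategory A] [HasDerivedCategory B] [HasLT GA] [HasLT GB] in
@[reassoc]
lemma μa_nat₁ {K K' : CochainComplex A ℤ} (u : K ⟶ K') (L : CochainComplex A ℤ) :
    Φ.map ((GA.map u).app L) ≫ (μa μ K' L).hom = (μa μ K L).hom ≫ (GB.map (Φ.map u)).app (Φ.obj L) :=
  congr_app (μ.hom.naturality u) L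

omit [HasDerivedCategory A] [HasDerivedCategory B] [HasLT GA] [HasLT GB] in
@[reassoc]
lemma μa_nat₂ (K : CochainComplex A ℤ) {L L' : CochainComplex A ℤ} (v : L ⟶ L') :
    Φ.map ((GA.obj K).map v) ≫ (μa μ K L').hom = (μa μ K L).hom ≫ (GB.obj (Φ.obj K)).map (Φ.map v) :=
  (μ.hom.app K).naturality v

variable (hν : ∀ K : CochainComplex A ℤ, PA K → IsIso (ν.app K))
  (hΦ : ∀ K : CochainComplex A ℤ, PA K → PB (Φ.obj K))
  (hP : ∀ K L : CochainComplex A ℤ, PA K → PA L → PA ((GA.obj K).obj L))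

include hν in
lemma isIso_νa (K : CochainComplex A ℤ) (hK : PA K) : IsIso (νa ν K) := hν K hK

include hν hP in
lemma isIso_lhs (K L : CochainComplex A ℤ) (hK : PA K) (hL : PA L) : IsIso (lhs hA ν K L) := by
  have h1 := isIso_κ hA K hK L
  have h2 := isIso_νa ν hν _ (hP K L hK hL)
  rw [lhs]
  infer_instance

include hν hΦ in
lemma isIso_rhs (K L : CochainComplex A ℤ) (hK : PA K) (hL : PA L) : IsIso (rhs hB ν K L) := by
  have h1 := isIso_κ hB (Φ.obj K) (hΦ K hK) (Φ.obj L)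
  have h2 := isIso_νa ν hν K hK
  have h3 := isIso_νa ν hν L hL
  have h4 : IsIso ((LT hB).map (νa ν K)) := inferInstance
  rw [rhs]
  infer_instance

/-- The isomorphism on complexes in `P`. -/
noncomputable def pnat : PNat₂ PA PA (LT hA ⋙ (Functor.whiskeringRight _ _ _).obj LΦ)
    (LΦ ⋙ LT hB ⋙ (Functor.whiskeringLeft _ _ _).obj LΦ) where
  app K hK L hL :=
    haveI := isIso_rhs hB ν hν hΦ K L hK hL
    lhs hA ν K L ≫ DerivedCategory.Q.map (μa μ K L).hom ≫ inv (rhs hB ν K L)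
  nat₁ {K K'} hK hK' u L hL := by
    have i1 := isIso_rhs hB ν hν hΦ K L hK hL
    have i2 := isIso_rhs hB ν hν hΦ K' L hK' hL
    change LΦ.map (((LT hA).map (DerivedCategory.Q.map u)).app (DerivedCategory.Q.obj L)) ≫ _ =
      _ ≫ ((LT hB).map (LΦ.map (DerivedCategory.Q.map u))).app (LΦ.obj (DerivedCategory.Q.obj L))
    rw [lhs_nat₁_assoc, ← Functor.map_comp_assoc, μa_nat₁, Functor.map_comp_assoc, assoc, assoc]
    congr 2
    rw [← cancel_mono (rhs hB ν K' L), assoc, assoc, IsIso.inv_hom_id, comp_id, rhs_nat₁,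
      IsIso.inv_hom_id_assoc]
  nat₂ K hK {L L'} hL hL' v := by
    have i1 := isIso_rhs hB ν hν hΦ K L hK hL
    have i2 := isIso_rhs hB ν hν hΦ K L' hK hL'
    change LΦ.map (((LT hA).obj (DerivedCategory.Q.obj K)).map (DerivedCategory.Q.map v)) ≫ _ =
      _ ≫ ((LT hB).obj (LΦ.obj (DerivedCategory.Q.obj K))).map (LΦ.map (DerivedCategory.Q.map v))
    rw [lhs_nat₂_assoc, ← Functor.map_comp_assoc, μa_nat₂, Functor.map_comp_assoc, assoc, assoc]
    congr 2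
    rw [← cancel_mono (rhs hB ν K L'), assoc, assoc, IsIso.inv_hom_id, comp_id, rhs_nat₂,
      IsIso.inv_hom_id_assoc]

/-- `LΦ (K ⊗ᴸ L) ⟶ LΦ K ⊗ᴸ LΦ L`. -/
noncomputable def monHom : LT hA ⋙ (Functor.whiskeringRight _ _ _).obj LΦ ⟶
    LΦ ⋙ LT hB ⋙ (Functor.whiskeringLeft _ _ _).obj LΦ :=
  (pnat hA hB ν μ hν hΦ).ext hA.exists_res hA.exists_res

lemma monHom_app (K L : CochainComplex A ℤ) (hK : PA K) (hL : PA L) :
    ((monHom hA hB ν μ hν hΦ).app (DerivedCategory.Q.obj K)).app (DerivedCategory.Q.obj L) ≫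
      rhs hB ν K L = lhs hA ν K L ≫ DerivedCategory.Q.map (μa μ K L).hom := by
  have i1 := isIso_rhs hB ν hν hΦ K L hK hL
  have h := (pnat hA hB ν μ hν hΦ).ext_app hA.exists_res hA.exists_res K hK L hL
  rw [monHom, h]
  change (lhs hA ν K L ≫ DerivedCategory.Q.map (μa μ K L).hom ≫ inv (rhs hB ν K L)) ≫ _ = _
  rw [assoc, assoc, IsIso.inv_hom_id, comp_id]

include hP in
lemma isIso_monHom : IsIso (monHom hA hB ν μ hν hΦ) := by
  refine PNat₂.isIso_ext hA.exists_res (pnat hA hB ν μ hν hΦ) hA.exists_res (fun K hK L hL => ?_)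
  have i1 := isIso_rhs hB ν hν hΦ K L hK hL
  have i2 := isIso_lhs hA ν hν hP K L hK hL
  change IsIso (lhs hA ν K L ≫ DerivedCategory.Q.map (μa μ K L).hom ≫ inv (rhs hB ν K L))
  infer_instance

/-- `LΦ (K ⊗ᴸ L) ≅ LΦ K ⊗ᴸ LΦ L`, naturally in both variables. -/
noncomputable def monIso : LT hA ⋙ (Functor.whiskeringRight _ _ _).obj LΦ ≅
    LΦ ⋙ LT hB ⋙ (Functor.whiskeringLeft _ _ _).obj LΦ :=
  haveI := isIso_monHom hA hB ν μ hν hΦ hP
  asIso (monHom hA hB ν μ hν hΦ)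

end Groth.Agent.PerfC.DBifMon
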