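import Groth.Agent.PerfC.DBif
import Groth.Agent.PerfC.ExtNat

/-!
# Units for derived bifunctors, symmetry of derived bifunctors
-/

set_option autoImplicit false

universe w₁ v₁ u₁

open CategoryTheory Category Limits

namespace Groth.Agent.PerfC.DBifUnit

open Groth.Agent.Dcoh.CxFun Groth.Agent.PerfC.DInd Groth.Agent.PerfC.DBif Groth.Agent.PerfC.ExtNat

variable {A : Type u₁} [Category.{v₁} A] [Abelian A] [HasDerivedCategory.{w₁} A]
  {G : CochainComplex A ℤ ⥤ CochainComplex A ℤ ⥤ CochainComplex A ℤ}
  {P : ObjectProperty (CochainComplex A ℤ)} (h : BifData G P) [HasLT G]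

/-- The natural family. -/
noncomputable def unitNat (E : CochainComplex A ℤ) (e : G.flip.obj E ≅ 𝟭 _) :
    PNat P ((LT h).flip.obj (DerivedCategory.Q.obj E)) (𝟭 _) where
  app K _ := κ h K E ≫ DerivedCategory.Q.map (e.hom.app K)
  nat {K K'} hK hK' u := by
    have h1 := e.hom.naturality u
    dsimp at h1
    change ((LT h).map (DerivedCategory.Q.map u)).app (DerivedCategory.Q.obj E) ≫ _ = _
    rw [κ_nat₁_assoc, assoc, ← Functor.map_comp]
    erw [h1]
    rw [Functor.map_comp]
    rfl

/-- If `K ⊗ E ≅ K` naturally then `K ⊗ᴸ E ≅ K` naturally. -/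
noncomputable def unitIso (E : CochainComplex A ℤ) (e : G.flip.obj E ≅ 𝟭 _) :
    (LT h).flip.obj (DerivedCategory.Q.obj E) ≅ 𝟭 (DerivedCategory A) :=
  haveI : IsIso ((unitNat h E e).ext h.exists_res) :=
    PNat.isIso_ext _ h.exists_res (fun K hK => by
      have := isIso_κ h K hK E
      change IsIso (κ h K E ≫ DerivedCategory.Q.map (e.hom.app K))
      infer_instance)
  asIso ((unitNat h E e).ext h.exists_res)

/-- The natural family for the symmetry. -/
noncomputable def symmNat (e : G.flip ≅ G) :
    PNat₂ P P (LT h).flip (LT h) where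
  app K hK L hL := haveI := isIso_κ h K hK L
    κ h L K ≫ DerivedCategory.Q.map ((e.hom.app K).app L) ≫ inv (κ h K L)
  nat₁ {K K'} hK hK' u L hL := by
    have i1 := isIso_κ h K hK L
    have i2 := isIso_κ h K' hK' L
    have h1 := congr_app (e.hom.naturality u) L
    dsimp at h1
    change ((LT h).obj (DerivedCategory.Q.obj L)).map (DerivedCategory.Q.map u) ≫ _ = _
    rw [κ_nat₂_assoc, ← Functor.map_comp_assoc, h1, Functor.map_comp_assoc, assoc, assoc]
    congr 2
    rw [← cancel_mono (κ h K' L), assoc, assoc, IsIso.inv_hom_id, comp_id, κ_nat₁, IsIso.inv_hom_id_assoc]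
  nat₂ K hK {L L'} hL hL' v := by
    have i1 := isIso_κ h K hK L
    have i2 := isIso_κ h K hK L'
    have h1 := (e.hom.app K).naturality v
    dsimp at h1
    change ((LT h).map (DerivedCategory.Q.map v)).app (DerivedCategory.Q.obj K) ≫ _ = _
    rw [κ_nat₁_assoc, ← Functor.map_comp_assoc, h1, Functor.map_comp_assoc, assoc, assoc]
    congr 2
    rw [← cancel_mono (κ h K L'), assoc, assoc, IsIso.inv_hom_id, comp_id, κ_nat₂, IsIso.inv_hom_id_assoc]

/-- The derived bifunctor of a symmetric bifunctor is symmetric. -/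
noncomputable def symmIso (e : G.flip ≅ G) : (LT h).flip ≅ LT h :=
  haveI : IsIso ((symmNat h e).ext h.exists_res h.exists_res) :=
    PNat₂.isIso_ext h.exists_res _ h.exists_res (fun K hK L hL => by
      have i1 := isIso_κ h K hK L
      have i2 := isIso_κ h L hL K
      change IsIso (κ h L K ≫ DerivedCategory.Q.map ((e.hom.app K).app L) ≫ inv (κ h K L))
      infer_instance)
  asIso ((symmNat h e).ext h.exists_res h.exists_res)

end Groth.Agent.PerfC.DBifUnit
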