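import Mathlib.CategoryTheory.Adjunction.Mates
import Mathlib.CategoryTheory.Whiskering

/-!
# The projection map

`T : 𝒟 ⥤ 𝒟 ⥤ 𝒟`, `T' : ℰ ⥤ ℰ ⥤ ℰ`, `adj : L ⊣ R` with `L : 𝒟 ⥤ ℰ` and
`M : L (T (F, P)) ≅ T' (L F, L P)`.  The projection map is
`theta E : T (R E, P) ⟶ R (T' (E, L P))`, natural in `P`.  It is an isomorphism when `P` is a unit object.
-/

set_option autoImplicit false

universe v₁ v₂ u₁ u₂

open CategoryTheory Category

namespace Groth.Agent.PerfC.ProjMap

variable {D : Type u₁} [Category.{v₁} D] {E : Type u₂} [Category.{v₂} E]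
  {T : D ⥤ D ⥤ D} {T' : E ⥤ E ⥤ E} {L : D ⥤ E} {R : E ⥤ D} (adj : L ⊣ R)
  (M : T ⋙ (Functor.whiskeringRight _ _ _).obj L ⟶ L ⋙ T' ⋙ (Functor.whiskeringLeft _ _ _).obj L)

/-- The component of `M`. -/
abbrev Ma (F P : D) : L.obj ((T.obj F).obj P) ⟶ (T'.obj (L.obj F)).obj (L.obj P) := (M.app F).app P

@[reassoc]
lemma Ma_nat₁ {F F' : D} (u : F ⟶ F') (P : D) :
    L.map ((T.map u).app P) ≫ Ma M F' P = Ma M F P ≫ (T'.map (L.map u)).app (L.obj P) :=
  congr_app (M.naturality u) P

@[reassoc]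
lemma Ma_nat₂ (F : D) {P P' : D} (v : P ⟶ P') :
    L.map ((T.obj F).map v) ≫ Ma M F P' = Ma M F P ≫ (T'.obj (L.obj F)).map (L.map v) :=
  (M.app F).naturality v

/-- The projection map `T (R A, P) ⟶ R (T' (A, L P))`. -/
def theta (A : E) : T.obj (R.obj A) ⟶ L ⋙ T'.obj A ⋙ R where
  app P := adj.unit.app _ ≫ R.map (Ma M (R.obj A) P) ≫ R.map ((T'.map (adj.counit.app A)).app (L.obj P))
  naturality P P' v := by
    have h1 := adj.unit.naturality ((T.obj (R.obj A)).map v)
    dsimp at h1 ⊢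
    rw [reassoc_of% h1, ← R.map_comp_assoc, Ma_nat₂, assoc, assoc, ← R.map_comp, ← R.map_comp,
      ← R.map_comp, assoc, NatTrans.naturality]

lemma theta_app (A : E) (P : D) : (theta adj M A).app P =
    adj.unit.app ((T.obj (R.obj A)).obj P) ≫ R.map (Ma M (R.obj A) P) ≫
      R.map ((T'.map (adj.counit.app A)).app (L.obj P)) := rfl

section unit

variable {I : D} (r : T.flip.obj I ≅ 𝟭 D) (r' : T'.flip.obj (L.obj I) ≅ 𝟭 E)
  (hM : ∀ F : D, IsIso (Ma M F I))

/-- The natural automorphism of `L` obtained from `M` at the unit object. -/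
noncomputable def auto : L ≅ L :=
  NatIso.ofComponents (fun F => L.mapIso (r.symm.app F) ≪≫ @asIso _ _ _ _ (Ma M F I) (hM F) ≪≫
    r'.app (L.obj F)) (fun {F F'} u => by
      have h1 := r.inv.naturality u
      have h2 := r'.hom.naturality (L.map u)
      dsimp at h1 h2 ⊢
      rw [← L.map_comp_assoc, h1, L.map_comp, assoc, Ma_nat₁_assoc, h2, assoc, assoc])

lemma auto_hom_app (F : D) : (auto M r r' hM).hom.app F =
    L.map (r.inv.app F) ≫ Ma M F I ≫ r'.hom.app (L.obj F) := rfl

include r r' hM in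
/-- The projection map is an isomorphism at the unit object. -/
theorem isIso_theta_unit (A : E) : IsIso ((theta adj M A).app I) := by
  have h : (theta adj M A).app I ≫ R.map (r'.hom.app A) =
      r.hom.app (R.obj A) ≫ (conjugateEquiv adj adj (auto M r r' hM).hom).app A := by
    rw [theta_app, conjugateEquiv_apply_app, auto_hom_app]
    have h1 := adj.unit.naturality (r.inv.app (R.obj A))
    have h2 := r'.hom.naturality (adj.counit.app A)
    dsimp at h1 h2
    rw [R.map_comp, assoc, assoc, assoc, ← reassoc_of% h1, ← NatTrans.comp_app_assoc, Iso.hom_inv_id,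
      NatTrans.id_app]
    erw [id_comp]
    rw [← R.map_comp, ← R.map_comp, ← R.map_comp, h2, assoc]
  have h3 : IsIso ((conjugateEquiv adj adj (auto M r r' hM).hom).app A) := inferInstance
  have h4 : IsIso ((theta adj M A).app I ≫ R.map (r'.hom.app A)) := by
    rw [h]; infer_instance
  exact IsIso.of_isIso_comp_right _ (R.map (r'.hom.app A))

end unit

end Groth.Agent.PerfC.ProjMap
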