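import Groth.Agent.PerfC.DTens
import Groth.Agent.PerfC.DBifMon
import Groth.Agent.PerfC.DBifUnit
import Groth.Agent.PerfC.CxNat2
import Groth.Agent.PerfC.ProjMap
import Groth.Agent.Dcoh.MonPull292
import Groth.Agent.Dcoh.DerPull
import Groth.Agent.Dcoh.ModD
import Groth.Agent.PerfB.TensUnit
import Groth.Agent.S0952
import Groth.Agent.S0956

/-!
# `Lf^*` commutes with the derived tensor product, naturally in both variables

* `LpullTens f : (LTX Y) ⋙ whiskeringRight (Lpull f) ≅ Lpull f ⋙ LTX X ⋙ whiskeringLeft (Lpull f)`.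
-/

set_option autoImplicit false

universe u

open CategoryTheory CategoryTheory.Limits AlgebraicGeometry MonoidalCategory

attribute [local instance] HasDerivedCategory.standard

namespace Groth.Agent.PerfC.LpullTens

open DCoh Groth.Agent.PerfC.DInd Groth.Agent.PerfC.DBif Groth.Agent.PerfC.IsoLocus
  Groth.Agent.PerfC.TensFlip Groth.Agent.PerfC.DTens
open scoped Groth.Agent.Dcoh.MonCat

variable {X Y : Scheme.{u}}

/-- A monoidal functor between categories of modules commutes with `tensorBi`. -/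
noncomputable def biIso (Φ : Y.Modules ⥤ X.Modules) [Φ.Monoidal] :
    tensorBi (X := Y) ⋙ (Functor.whiskeringRight _ _ _).obj Φ ≅
      Φ ⋙ tensorBi (X := X) ⋙ (Functor.whiskeringLeft _ _ _).obj Φ :=
  CxNat2.curriedIso Φ

/-- A monoidal functor between categories of modules which preserves coproducts commutes with `tensorCx`. -/
theorem nonempty_cxIso (Φ : Y.Modules ⥤ X.Modules) [Φ.Additive]
    (e : tensorBi (X := Y) ⋙ (Functor.whiskeringRight _ _ _).obj Φ ≅
      Φ ⋙ tensorBi (X := X) ⋙ (Functor.whiskeringLeft _ _ _).obj Φ)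
    [∀ J : Type, PreservesColimitsOfShape (Discrete J) Φ] :
    Nonempty (tensorCx (X := Y) ⋙ (Functor.whiskeringRight _ _ _).obj (Φ.mapHomologicalComplex (ComplexShape.up ℤ)) ≅
      Φ.mapHomologicalComplex (ComplexShape.up ℤ) ⋙ tensorCx (X := X) ⋙
        (Functor.whiskeringLeft _ _ _).obj (Φ.mapHomologicalComplex (ComplexShape.up ℤ))) :=
  CxNat2.nonempty_natIso tensorCx_eq tensorCx_eq e

/-- The isomorphism `Φ (K ⊗ L) ≅ Φ K ⊗ Φ L` on complexes. -/
noncomputable def cxIso (Φ : Y.Modules ⥤ X.Modules) [Φ.Additive]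
    (e : tensorBi (X := Y) ⋙ (Functor.whiskeringRight _ _ _).obj Φ ≅
      Φ ⋙ tensorBi (X := X) ⋙ (Functor.whiskeringLeft _ _ _).obj Φ)
    [∀ J : Type, PreservesColimitsOfShape (Discrete J) Φ] :
    tensorCx (X := Y) ⋙ (Functor.whiskeringRight _ _ _).obj (Φ.mapHomologicalComplex (ComplexShape.up ℤ)) ≅
      Φ.mapHomologicalComplex (ComplexShape.up ℤ) ⋙ tensorCx (X := X) ⋙
        (Functor.whiskeringLeft _ _ _).obj (Φ.mapHomologicalComplex (ComplexShape.up ℤ)) :=
  (nonempty_cxIso Φ e).some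

/-- `LΦ (K ⊗ᴸ L) ≅ LΦ K ⊗ᴸ LΦ L` for a functor `Φ` on modules commuting with tensor products. -/
noncomputable def mIso (Φ : Y.Modules ⥤ X.Modules) [Φ.Additive]
    (e : tensorBi (X := Y) ⋙ (Functor.whiskeringRight _ _ _).obj Φ ≅
      Φ ⋙ tensorBi (X := X) ⋙ (Functor.whiskeringLeft _ _ _).obj Φ)
    [∀ J : Type, PreservesColimitsOfShape (Discrete J) Φ] (LΦ : D Y ⥤ D X)
    (ν : DerivedCategory.Q ⋙ LΦ ⟶ Φ.mapHomologicalComplex (ComplexShape.up ℤ) ⋙ DerivedCategory.Q)
    (hν : ∀ K : CochainComplex Y.Modules ℤ, IsKFlat K → IsIso (ν.app K))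
    (hΦ : ∀ K : CochainComplex Y.Modules ℤ, IsKFlat K →
      IsKFlat ((Φ.mapHomologicalComplex (ComplexShape.up ℤ)).obj K)) :
    LTX Y ⋙ (Functor.whiskeringRight _ _ _).obj LΦ ≅ LΦ ⋙ LTX X ⋙ (Functor.whiskeringLeft _ _ _).obj LΦ :=
  DBifMon.monIso (bifData Y) (bifData X) ν (cxIso Φ e) hν hΦ (fun K L hK hL => Groth.Agent.S0956.result K L hK hL)

section Pull

variable (f : X ⟶ Y)

instance preservesCoproducts_pullback (J : Type) :
    PreservesColimitsOfShape (Discrete J) (Scheme.Modules.pullback f) :=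
  haveI : PreservesColimitsOfSize.{0, 0} (Scheme.Modules.pullback f) :=
    (Scheme.Modules.pullbackPushforwardAdjunction f).leftAdjoint_preservesColimits
  inferInstance

/-- `f^* (M ⊗ N) ≅ f^* M ⊗ f^* N`. -/
noncomputable def pullBi : tensorBi (X := Y) ⋙ (Functor.whiskeringRight _ _ _).obj (Scheme.Modules.pullback f) ≅
      Scheme.Modules.pullback f ⋙ tensorBi (X := X) ⋙
        (Functor.whiskeringLeft _ _ _).obj (Scheme.Modules.pullback f) :=
  letI := Groth.Agent.Dcoh.MonPull.monPull f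
  biIso (Scheme.Modules.pullback f)

variable [HasLpull f]

/-- `Lf^* (K ⊗ᴸ L) ≅ Lf^* K ⊗ᴸ Lf^* L`, naturally in both variables. -/
noncomputable def lpullTens : LTX Y ⋙ (Functor.whiskeringRight _ _ _).obj (Lpull f) ≅
    Lpull f ⋙ LTX X ⋙ (Functor.whiskeringLeft _ _ _).obj (Lpull f) :=
  mIso (Scheme.Modules.pullback f) (pullBi f) (Lpull f) (Groth.Agent.Dcoh.DerPull.lpullCounitQ f)
    (fun K hK => Groth.Agent.Dcoh.DerPull.isIso_lpullCounitQ_app f K hK)
    (fun K hK => Groth.Agent.S0952.result f K hK)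

end Pull

section Unit

variable (X) in
/-- The structure sheaf as a complex. -/
noncomputable abbrev unitCx : CochainComplex X.Modules ℤ :=
  (HomologicalComplex.single X.Modules (ComplexShape.up ℤ) 0).obj (Coh.structureModule X)

lemma isKFlat_unitCx : IsKFlat (unitCx X) := Groth.Agent.Dcoh.ModD.isKFlat_unit

/-- `K ⊗ O ≅ K` for complexes. -/
theorem nonempty_rCx : Nonempty ((tensorCx (X := X)).flip.obj (unitCx X) ≅ 𝟭 (CochainComplex X.Modules ℤ)) :=
  ⟨rightUnitorNatIso (CochainComplex X.Modules ℤ)⟩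

variable (X) in
/-- `K ⊗ᴸ O ≅ K`, naturally in `K`. -/
noncomputable def unitIso : (LTX X).flip.obj (DerivedCategory.Q.obj (unitCx X)) ≅ 𝟭 (D X) :=
  DBifUnit.unitIso (bifData X) (unitCx X) nonempty_rCx.some

variable (X) in
/-- Symmetry of the derived tensor product. -/
noncomputable def symmIso : (LTX X).flip ≅ LTX X :=
  DBifUnit.symmIso (bifData X) tensorCxFlip

variable (f : X ⟶ Y) [HasLpull f]

/-- `Lf^* O_Y ≅ O_X`. -/
noncomputable def lpullUnit : (Lpull f).obj (DerivedCategory.Q.obj (unitCx Y)) ≅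
    DerivedCategory.Q.obj (unitCx X) :=
  Groth.Agent.Dcoh.DerPull.lpullIso f (unitCx Y) isKFlat_unitCx ≪≫
    DerivedCategory.Q.mapIso ((HomologicalComplex.singleMapHomologicalComplex
      (Scheme.Modules.pullback f) (ComplexShape.up ℤ) 0).app (Coh.structureModule Y) ≪≫
      (HomologicalComplex.single X.Modules (ComplexShape.up ℤ) 0).mapIso
        (Groth.Agent.PerfB.TensUnit.pullbackUnit f))

/-- `K ⊗ᴸ Lf^* O_Y ≅ K`, naturally in `K`. -/
noncomputable def unitIso' : (LTX X).flip.obj ((Lpull f).obj (DerivedCategory.Q.obj (unitCx Y))) ≅ 𝟭 (D X) :=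
  (LTX X).flip.mapIso (lpullUnit f) ≪≫ unitIso X

variable [HasRpush f]

/-- The projection map `Rf_* E ⊗ᴸ P ⟶ Rf_* (E ⊗ᴸ Lf^* P)`, natural in `P`. -/
noncomputable def theta (E : D X) :
    (LTX Y).obj ((Rpush f).obj E) ⟶ Lpull f ⋙ (LTX X).obj E ⋙ Rpush f :=
  ProjMap.theta (Groth.Agent.Dcoh.DerPull.lpullAdj f) (lpullTens f).hom E

/-- The projection map is an isomorphism for `P = O_Y`. -/
theorem isIso_theta_unit (E : D X) : IsIso ((theta f E).app (DerivedCategory.Q.obj (unitCx Y))) :=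
  ProjMap.isIso_theta_unit (Groth.Agent.Dcoh.DerPull.lpullAdj f) (lpullTens f).hom (unitIso Y)
    (unitIso' f) (fun _ => inferInstance) E

end Unit

end Groth.Agent.PerfC.LpullTens
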