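import Groth.Agent.PerfC.DBifTri
import Groth.Agent.Dcoh.KFlatAbs

/-!
# The derived bifunctor of `F.map₂CochainComplex`

Statements of `DBifTri` for `G = F.map₂CochainComplex`, where `G` is a variable (this is important for
the speed of the kernel in the applications).
-/

set_option autoImplicit false

universe w w₁ w₂ w₃ v₁ v₂ v₃ u₁ u₂ u₃

open CategoryTheory Category Limits

namespace Groth.Agent.PerfC.DBifBi

open Groth.Agent.Dcoh.CxFun Groth.Agent.PerfC.DInd Groth.Agent.Dcoh.DerAbs Groth.Agent.PerfC.IsoLocus
  Groth.Agent.PerfC.DIndCoprod Groth.Agent.PerfC.DBif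

variable {A : Type u₁} [Category.{v₁} A] [Abelian A]
  {B : Type u₂} [Category.{v₂} B] [Abelian B]
  {C : Type u₃} [Category.{v₃} C] [Abelian C]
  (F : A ⥤ B ⥤ C) [F.Additive] [∀ X₁, (F.obj X₁).Additive]
  [∀ (K₁ : CochainComplex A ℤ) (K₂ : CochainComplex B ℤ), CochainComplex.HasMapBifunctor K₁ K₂ F]
  {G : CochainComplex A ℤ ⥤ CochainComplex B ℤ ⥤ CochainComplex C ℤ}
  (hG : G = F.map₂CochainComplex)

include hG

lemma htpy_obj (K : CochainComplex A ℤ) : HtpyFunctor (G.obj K) := by subst hG; infer_instance

lemma htpy_flip_obj (E : CochainComplex B ℤ) : HtpyFunctor (G.flip.obj E) := by subst hG; infer_instance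

lemma additive_obj (K : CochainComplex A ℤ) : (G.obj K).Additive := by subst hG; infer_instance

lemma additive_flip_obj (E : CochainComplex B ℤ) : (G.flip.obj E).Additive := by subst hG; infer_instance

lemma preservesColimitsOfShape_obj (J : Type w) [HasCoproductsOfShape J B]
    [∀ M : A, PreservesColimitsOfShape (Discrete J) (F.obj M)] (K : CochainComplex A ℤ) :
    PreservesColimitsOfShape (Discrete J) (G.obj K) := by
  subst hG
  exact Groth.Agent.Dcoh.KFlatAbs.preservesColimitsOfShape_obj _ _ K

lemma preservesColimitsOfShape_flip_obj (J : Type w) [HasCoproductsOfShape J A]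
    [∀ N : B, PreservesColimitsOfShape (Discrete J) (F.flip.obj N)] (E : CochainComplex B ℤ) :
    PreservesColimitsOfShape (Discrete J) (G.flip.obj E) := by
  subst hG
  exact Groth.Agent.Dcoh.KFlatAbs.preservesColimitsOfShape_flip_obj _ _ E

section

variable [HasDerivedCategory.{w₁} A] [HasDerivedCategory.{w₂} B] [HasDerivedCategory.{w₃} C]

/-- `ind (G.obj K)` is triangulated. -/
lemma isTriang_ind_obj (K : CochainComplex A ℤ) [HtpyFunctor (G.obj K)] [PresQis (G.obj K)] :
    IsTriang (ind (G.obj K)) := by
  subst hG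
  exact IsTriang.mk' _

/-- `ind (G.flip.obj E)` is triangulated. -/
lemma isTriang_ind_flip_obj (E : CochainComplex B ℤ) [HtpyFunctor (G.flip.obj E)]
    [PresQis (G.flip.obj E)] : IsTriang (ind (G.flip.obj E)) := by
  subst hG
  exact IsTriang.mk' _

variable {P : ObjectProperty (CochainComplex A ℤ)} (h : BifData G P) [HasLT G]

lemma isTriang_LT_obj (X : DerivedCategory A) : IsTriang ((LT h).obj X) := by
  subst hG
  exact DBif.isTriang_LT_obj h X

lemma preservesCoproducts_LT_obj (J : Type w)
    [HasCoproductsOfShape J B] [HasExactColimitsOfShape (Discrete J) B]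
    [HasCoproductsOfShape J C] [HasExactColimitsOfShape (Discrete J) C]
    [∀ M : A, PreservesColimitsOfShape (Discrete J) (F.obj M)]
    (X : DerivedCategory A) :
    PreservesColimitsOfShape (Discrete J) ((LT h).obj X) := by
  have := fun K => preservesColimitsOfShape_obj F hG J K
  subst hG
  exact DBif.preservesCoproducts_LT_obj h J X

variable (hE : ∀ E : CochainComplex B ℤ, ∃ (E' : CochainComplex B ℤ) (w : E' ⟶ E),
  PresQis (G.flip.obj E') ∧ QuasiIso w)

include hE in
lemma isTriang_LTf_obj (Y : DerivedCategory B) :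
    IsTriang ((LTf h).obj Y) := by
  subst hG
  exact DBif.isTriang_LTf_obj h hE Y

include hE in
lemma preservesCoproducts_LTf_obj (J : Type w)
    [HasCoproductsOfShape J A] [HasExactColimitsOfShape (Discrete J) A]
    [HasCoproductsOfShape J C] [HasExactColimitsOfShape (Discrete J) C]
    [∀ N : B, PreservesColimitsOfShape (Discrete J) (F.flip.obj N)]
    (Y : DerivedCategory B) :
    PreservesColimitsOfShape (Discrete J) ((LTf h).obj Y) := by
  have := fun K => preservesColimitsOfShape_flip_obj F hG J K
  subst hG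
  exact DBif.preservesCoproducts_LTf_obj h hE J Y

end

end Groth.Agent.PerfC.DBifBi
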