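import Groth.Agent.PerfC.TensFlip
import Groth.Agent.PerfC.DBifBi
import Groth.Agent.PerfC.ExtNat
import Groth.Agent.PerfB.ModExactCoprod
import Groth.Agent.Dcoh.KFlat
import Groth.Agent.Dcoh.StalkT
import Groth.Agent.S0955

/-!
# The derived tensor product of `O_X`-modules

* `bifData X : BifData (tensorCx (X := X)) IsKFlat`;
* `hasLTensorCx E`: the derived functor `- ⊗ᴸ E` exists for every complex `E`;
* `LTX X : D X ⥤ D X ⥤ D X` the derived tensor product, `(LTX X).obj K).obj L = K ⊗ᴸ L`;
* `LTXcx E : ((LTX X).flip.obj (Q E)) ≅ LTensorCx E`;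
* `κX K E : K ⊗ᴸ E ⟶ Q (K ⊗ E)` iso if `K` or `E` is K-flat;
* all the partial functors are triangulated and preserve coproducts.
-/

set_option autoImplicit false

universe u

open CategoryTheory CategoryTheory.Limits AlgebraicGeometry

attribute [local instance] HasDerivedCategory.standard

namespace Groth.Agent.PerfC.DTens

open DCoh Groth.Agent.Dcoh.CxFun Groth.Agent.PerfC.DInd Groth.Agent.PerfC.DBif Groth.Agent.PerfC.IsoLocus
  Groth.Agent.PerfC.TensFlip

variable {X : Scheme.{u}}

/-- `tensorCx` is opaque for the kernel, except for this equality. -/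
theorem tensorCx_eq : tensorCx (X := X) = (tensorBi (X := X)).map₂CochainComplex := rfl

instance (priority := high) htpy_obj (K : CochainComplex X.Modules ℤ) : HtpyFunctor ((tensorCx (X := X)).obj K) :=
  DBifBi.htpy_obj tensorBi tensorCx_eq K

instance (priority := high) htpy_flip_obj (E : CochainComplex X.Modules ℤ) :
    HtpyFunctor ((tensorCx (X := X)).flip.obj E) :=
  DBifBi.htpy_flip_obj tensorBi tensorCx_eq E

instance (priority := high) additive_obj (K : CochainComplex X.Modules ℤ) : ((tensorCx (X := X)).obj K).Additive :=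
  DBifBi.additive_obj tensorBi tensorCx_eq K

instance (priority := high) additive_flip_obj (E : CochainComplex X.Modules ℤ) :
    ((tensorCx (X := X)).flip.obj E).Additive :=
  DBifBi.additive_flip_obj tensorBi tensorCx_eq E

instance preservesColimitsOfShape_tensorCx_obj (J : Type u) (K : CochainComplex X.Modules ℤ) :
    PreservesColimitsOfShape (Discrete J) ((tensorCx (X := X)).obj K) :=
  DBifBi.preservesColimitsOfShape_obj tensorBi tensorCx_eq J K

instance preservesColimitsOfShape_tensorCx_flip_obj (J : Type u) (E : CochainComplex X.Modules ℤ) :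
    PreservesColimitsOfShape (Discrete J) ((tensorCx (X := X)).flip.obj E) :=
  DBifBi.preservesColimitsOfShape_flip_obj tensorBi tensorCx_eq J E

/-- `K ⊗ -` preserves quasi-isomorphisms when `K` is K-flat. -/
lemma quasiIso_obj {K : CochainComplex X.Modules ℤ} (hK : IsKFlat K)
    {E E' : CochainComplex X.Modules ℤ} (f : E ⟶ E') (hf : QuasiIso f) :
    QuasiIso ((tensorCx.obj K).map f) := by
  have h1 : QuasiIso ((tensorCx.map f).app K) := Groth.Agent.Dcoh.KFlat.quasiIso_tensor hK f
  have h2 := NatIso.naturality_1 (tensorCxFlip.app K) f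
  change (tensorCxFlip.app K).inv.app E ≫ (tensorCx.map f).app K ≫ (tensorCxFlip.app K).hom.app E' =
    (tensorCx.obj K).map f at h2
  rw [← h2]
  infer_instance

/-- `- ⊗ E` preserves quasi-isomorphisms when `E` is K-flat. -/
lemma quasiIso_map_app {E : CochainComplex X.Modules ℤ} (hE : IsKFlat E)
    {K K' : CochainComplex X.Modules ℤ} (f : K ⟶ K') (hf : QuasiIso f) :
    QuasiIso ((tensorCx.map f).app E) :=
  Groth.Agent.Dcoh.KFlat.quasiIso_tensor hE f

/-- A quasi-isomorphism between K-flat complexes remains one after `- ⊗ E`. -/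
lemma quasiIso_map_app' {K K' : CochainComplex X.Modules ℤ} (w : K ⟶ K') (hK : IsKFlat K) (hK' : IsKFlat K')
    (hw : QuasiIso w) (E : CochainComplex X.Modules ℤ) : QuasiIso ((tensorCx.map w).app E) := by
  obtain ⟨L, q, hL, -, hq, -⟩ := Groth.Agent.S0955.result E
  have h1 := quasiIso_obj hK q hq
  have h2 := quasiIso_obj hK' q hq
  have h3 := quasiIso_map_app hL w hw
  have h4 : (tensorCx.obj K).map q ≫ (tensorCx.map w).app E =
    (tensorCx.map w).app L ≫ (tensorCx.obj K').map q := ((tensorCx.map w).naturality q)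
  have h5 : QuasiIso ((tensorCx.obj K).map q ≫ (tensorCx.map w).app E) := by
    rw [h4]
    infer_instance
  exact quasiIso_of_comp_left ((tensorCx.obj K).map q) _

variable (X) in
/-- The hypotheses needed in order to define the derived tensor product. -/
theorem bifData : BifData (tensorCx (X := X)) IsKFlat where
  htpy_flip E := inferInstance
  exists_res K := by
    obtain ⟨L, q, hL, -, hq, -⟩ := Groth.Agent.S0955.result K
    exact ⟨L, q, hL, hq⟩
  quasiIso_obj L hL _ _ u hu := quasiIso_obj hL u hu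
  quasiIso_map w hL hL' hw E := quasiIso_map_app' w hL hL' hw E

/-- `- ⊗ᴸ E` exists for every complex `E`. -/
theorem hasLTensorCx (E : CochainComplex X.Modules ℤ) : HasLTensorCx E :=
  (bifData X).hasLeftDerivedFunctor E

/-- The derived functors exist. -/
instance hasLT : HasLT (tensorCx (X := X)) := ⟨fun E => hasLTensorCx E⟩

variable (X) in
/-- The derived tensor product `D X ⥤ D X ⥤ D X`. -/
noncomputable def LTX : D X ⥤ D X ⥤ D X := LT (bifData X)

variable (X) in
lemma hasRes : ExtNat.HasRes (A := X.Modules) IsKFlat := (bifData X).exists_res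

/-- `LTX` recovers `LTensorCx E`. -/
noncomputable def LTXcx (E : CochainComplex X.Modules ℤ) [HasLTensorCx E] :
    (LTX X).flip.obj (DerivedCategory.Q.obj E) ≅ LTensorCx E :=
  LTflip (bifData X) E

/-- `(- ⊗ᴸ E) K ≅ K ⊗ᴸ E`. -/
noncomputable def LTXcxObj (K : D X) (E : CochainComplex X.Modules ℤ) [HasLTensorCx E] :
    ((LTX X).obj K).obj (DerivedCategory.Q.obj E) ≅ (LTensorCx E).obj K :=
  (LTXcx E).app K

/-- The canonical map `K ⊗ᴸ E ⟶ K ⊗ E`. -/
noncomputable def κX (K E : CochainComplex X.Modules ℤ) :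
    ((LTX X).obj (DerivedCategory.Q.obj K)).obj (DerivedCategory.Q.obj E) ⟶
      DerivedCategory.Q.obj ((tensorCx.obj K).obj E) :=
  κ (bifData X) K E

@[reassoc]
lemma κX_nat₁ {K K' : CochainComplex X.Modules ℤ} (w : K ⟶ K') (E : CochainComplex X.Modules ℤ) :
    ((LTX X).map (DerivedCategory.Q.map w)).app (DerivedCategory.Q.obj E) ≫ κX K' E =
      κX K E ≫ DerivedCategory.Q.map ((tensorCx.map w).app E) :=
  κ_nat₁ (bifData X) w E

@[reassoc]
lemma κX_nat₂ (K : CochainComplex X.Modules ℤ) {E E' : CochainComplex X.Modules ℤ} (u : E ⟶ E') :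
    ((LTX X).obj (DerivedCategory.Q.obj K)).map (DerivedCategory.Q.map u) ≫ κX K E' =
      κX K E ≫ DerivedCategory.Q.map ((tensorCx.obj K).map u) :=
  κ_nat₂ (bifData X) K u

lemma isIso_κX (K E : CochainComplex X.Modules ℤ) (hK : IsKFlat K) : IsIso (κX K E) :=
  isIso_κ (bifData X) K hK E

lemma presQis_flip_obj {E : CochainComplex X.Modules ℤ} (hE : IsKFlat E) :
    PresQis ((tensorCx (X := X)).flip.obj E) where
  quasiIso_map f hf := quasiIso_map_app hE f hf

lemma presQis_obj {K : CochainComplex X.Modules ℤ} (hK : IsKFlat K) :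
    PresQis ((tensorCx (X := X)).obj K) where
  quasiIso_map f hf := quasiIso_obj hK f hf

lemma isIso_κX' (K E : CochainComplex X.Modules ℤ) (hE : IsKFlat E) : IsIso (κX K E) :=
  haveI := presQis_flip_obj hE
  isIso_κ' (bifData X) K E

/-- `K ⊗ᴸ E ≅ K ⊗ E` for `K` K-flat. -/
noncomputable def κIso (K E : CochainComplex X.Modules ℤ) (hK : IsKFlat K) :
    ((LTX X).obj (DerivedCategory.Q.obj K)).obj (DerivedCategory.Q.obj E) ≅
      DerivedCategory.Q.obj ((tensorCx.obj K).obj E) :=
  @asIso _ _ _ _ (κX K E) (isIso_κX K E hK)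

/-- `K ⊗ᴸ E ≅ K ⊗ E` for `E` K-flat. -/
noncomputable def κIso' (K E : CochainComplex X.Modules ℤ) (hE : IsKFlat E) :
    ((LTX X).obj (DerivedCategory.Q.obj K)).obj (DerivedCategory.Q.obj E) ≅
      DerivedCategory.Q.obj ((tensorCx.obj K).obj E) :=
  @asIso _ _ _ _ (κX K E) (isIso_κX' K E hE)

/-- `K ⊗ᴸ -` is triangulated. -/
lemma isTriang_LTX_obj (K : D X) : IsTriang ((LTX X).obj K) :=
  DBifBi.isTriang_LT_obj tensorBi tensorCx_eq (bifData X) K

lemma exists_presQis (E : CochainComplex X.Modules ℤ) : ∃ (E' : CochainComplex X.Modules ℤ) (w : E' ⟶ E),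
    PresQis ((tensorCx (X := X)).flip.obj E') ∧ QuasiIso w := by
  obtain ⟨E', w, hE', hw⟩ := hasRes X E
  exact ⟨E', w, presQis_flip_obj hE', hw⟩

/-- `- ⊗ᴸ E` is triangulated. -/
lemma isTriang_LTX_flip_obj (E : D X) : IsTriang ((LTX X).flip.obj E) :=
  DBifBi.isTriang_LTf_obj tensorBi tensorCx_eq (bifData X) exists_presQis E

/-- `- ⊗ᴸ E` is triangulated. -/
lemma isTriang_LTensorCx (E : CochainComplex X.Modules ℤ) [HasLTensorCx E] : IsTriang (LTensorCx E) :=
  (isTriang_LTX_flip_obj (DerivedCategory.Q.obj E)).of_iso (LTXcx E)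

/-- `K ⊗ᴸ -` preserves coproducts. -/
lemma preservesCoproducts_LTX_obj (J : Type u) (K : D X) :
    PreservesColimitsOfShape (Discrete J) ((LTX X).obj K) :=
  DBifBi.preservesCoproducts_LT_obj tensorBi tensorCx_eq (bifData X) J K

/-- `- ⊗ᴸ E` preserves coproducts. -/
lemma preservesCoproducts_LTX_flip_obj (J : Type u) (E : D X) :
    PreservesColimitsOfShape (Discrete J) ((LTX X).flip.obj E) :=
  DBifBi.preservesCoproducts_LTf_obj tensorBi tensorCx_eq (bifData X) exists_presQis J E

/-- `- ⊗ᴸ E` preserves coproducts. -/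
lemma preservesCoproducts_LTensorCx (J : Type u) (E : CochainComplex X.Modules ℤ) [HasLTensorCx E] :
    PreservesColimitsOfShape (Discrete J) (LTensorCx E) :=
  haveI := preservesCoproducts_LTX_flip_obj J (DerivedCategory.Q.obj E)
  preservesColimitsOfShape_of_natIso (LTXcx E)

end Groth.Agent.PerfC.DTens
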