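import Groth.Agent.PerfB.DQAdj
import Mathlib.CategoryTheory.Localization.Adjunction

/-!
# Adjunctions between exact functors induce adjunctions on derived categories
-/

set_option autoImplicit false
universe w₁ w₂ v₁ v₂ u₁ u₂

namespace Groth.Agent.PerfC.AdjD

open CategoryTheory CategoryTheory.Limits DerivedCategory Groth.Agent.PerfB.DQAdj

variable {A : Type u₁} {B : Type u₂} [Category.{v₁} A] [Category.{v₂} B] [Abelian A] [Abelian B]
  {L : A ⥤ B} {R : B ⥤ A} (adj : L ⊣ R) [L.Additive] [R.Additive]

/-- The adjunction on cochain complexes. -/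
noncomputable def adjCx : mapCx L ⊣ mapCx R :=
  Adjunction.mkOfUnitCounit
    { unit :=
        { app := fun K => unitCx adj K
          naturality := fun _ _ f => unitCx_naturality adj f }
      counit :=
        { app := fun K => counitCx adj K
          naturality := fun _ _ f => counitCx_naturality adj f }
      left_triangle := by
        ext K : 2
        exact (congr_arg _ (Category.id_comp _)).trans (map_unitCx_counitCx adj K)
      right_triangle := by
        ext K : 2
        exact (congr_arg _ (Category.id_comp _)).trans (unitCx_map_counitCx adj K) }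

@[simp] lemma adjCx_unit_app (K : CochainComplex A ℤ) : (adjCx adj).unit.app K = unitCx adj K := rfl
@[simp] lemma adjCx_counit_app (K : CochainComplex B ℤ) :
    (adjCx adj).counit.app K = counitCx adj K := rfl

variable [PreservesFiniteLimits L] [PreservesFiniteColimits L]
  [PreservesFiniteLimits R] [PreservesFiniteColimits R]
  [HasDerivedCategory.{w₁} A] [HasDerivedCategory.{w₂} B]

/-- The adjunction induced on derived categories by an adjunction between exact functors. -/
noncomputable def adjD : L.mapDerivedCategory ⊣ R.mapDerivedCategory :=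
  letI : CatCommSq (mapCx L) Q Q L.mapDerivedCategory := ⟨L.mapDerivedCategoryFactors.symm⟩
  letI : CatCommSq (mapCx R) Q Q R.mapDerivedCategory := ⟨R.mapDerivedCategoryFactors.symm⟩
  (adjCx adj).localization Q (HomologicalComplex.quasiIso A (ComplexShape.up ℤ))
    Q (HomologicalComplex.quasiIso B (ComplexShape.up ℤ)) L.mapDerivedCategory R.mapDerivedCategory

lemma adjD_unit_app (K : CochainComplex A ℤ) :
    (adjD adj).unit.app (Q.obj K) = Q.map (unitCx adj K) ≫
      R.mapDerivedCategoryFactors.inv.app ((mapCx L).obj K) ≫
        R.mapDerivedCategory.map (L.mapDerivedCategoryFactors.inv.app K) :=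
  letI : CatCommSq (mapCx L) Q Q L.mapDerivedCategory := ⟨L.mapDerivedCategoryFactors.symm⟩
  letI : CatCommSq (mapCx R) Q Q R.mapDerivedCategory := ⟨R.mapDerivedCategoryFactors.symm⟩
  Adjunction.localization_unit_app (adjCx adj) Q
    (HomologicalComplex.quasiIso A (ComplexShape.up ℤ))
    Q (HomologicalComplex.quasiIso B (ComplexShape.up ℤ)) L.mapDerivedCategory
    R.mapDerivedCategory K

instance [IsIso adj.unit] (K : CochainComplex A ℤ) : IsIso (unitCx adj K) := by
  have : ∀ i, IsIso ((unitCx adj K).f i) := fun i =>
    inferInstanceAs (IsIso (adj.unit.app (K.X i)))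
  exact HomologicalComplex.Hom.isIso_of_components _

instance isIso_adjD_unit [IsIso adj.unit] : IsIso (adjD (A := A) (B := B) adj).unit := by
  have : ∀ K, IsIso ((adjD (A := A) (B := B) adj).unit.app K) := fun K => by
    have h : IsIso ((adjD (A := A) (B := B) adj).unit.app (Q.obj (Q.objPreimage K))) := by
      rw [adjD_unit_app]
      infer_instance
    exact (NatTrans.isIso_app_iff_of_iso _ (Q.objObjPreimageIso K)).1 h
  exact NatIso.isIso_of_isIso_app _

end Groth.Agent.PerfC.AdjD
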