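import Groth.Agent.PerfC.ExtZero2
import Groth.Agent.PerfC.AdjD
import Groth.Agent.PerfC.Supp
import Groth.Agent.PerfC.PcLocal

/-!
# Extension by zero on derived categories
-/

set_option autoImplicit false
universe u
open CategoryTheory CategoryTheory.Limits AlgebraicGeometry Pretriangulated
attribute [local instance] HasDerivedCategory.standard

namespace Groth.Agent.PerfC.ExtZeroD
open Groth.Agent.PerfA.Restrict Groth.Agent.PerfA Groth.Agent.CohqB Groth.Agent.PerfC.Supp
open Groth.Agent.PerfC.PcLocal AlgebraicGeometry.Scheme.Modules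

variable {X Y : Scheme.{u}}

lemma support_subset_of_suppIn {U : X.Opens} {M : X.Modules} (h : ExtZero.SuppIn U M) :
    CohB1.support M ⊆ (U : Set X) := by
  intro x hx
  by_contra hxU
  refine (DevSupport.not_mem_support_iff_isZero M x).2 ?_ hx
  rw [← DevSupport.subsingleton_iff_isZero]
  refine ⟨fun a b => ?_⟩
  have key : ∀ a : M.presheaf.stalk x, a = 0 := by
    intro a
    obtain ⟨V, hxV, s, rfl⟩ := TopCat.Presheaf.exists_germ_eq M.presheaf a
    obtain ⟨W, hW, hxW, e⟩ := h V s x hxV hxU
    rw [← TopCat.Presheaf.germ_res_apply M.presheaf (homOfLE hW) x hxW s, e, map_zero]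
  rw [key a, key b]

variable (j : Y ⟶ X) [IsOpenImmersion j]

/-- Extension by zero on derived categories. -/
noncomputable abbrev shriekD : DCoh.D Y ⥤ DCoh.D X := (ExtZero.jShriek j).mapDerivedCategory

/-- Extension by zero is left adjoint to restriction. -/
noncomputable def adjunction : shriekD j ⊣ restrictD j := AdjD.adjD (ExtZero.adj j)

instance isIso_unit : IsIso (adjunction j).unit :=
  inferInstanceAs (IsIso (AdjD.adjD (ExtZero.adj j)).unit)

instance isIso_unit_app (A : DCoh.D Y) : IsIso ((adjunction j).unit.app A) := inferInstance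

instance isIso_restrictD_counit (K : DCoh.D X) :
    IsIso ((restrictD j).map ((adjunction j).counit.app K)) := by
  have h := (adjunction j).right_triangle_components K
  exact (IsIso.of_isIso_fac_left h)

/-- The cohomology sheaves of `j_! A`. -/
noncomputable def HDshriek (A : DCoh.D Y) (i : ℤ) :
    DCoh.HD ((shriekD j).obj A) i ≅ (ExtZero.jShriek j).obj (DCoh.HD A i) :=
  (ExactD.mapHomology (ExtZero.jShriek j) i).app A

lemma supp_shriekD_subset_range (A : DCoh.D Y) (i : ℤ) :
    supp ((shriekD j).obj A) i ⊆ Set.range j := by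
  rw [supp, DevSupport.support_congr (HDshriek j A i)]
  exact support_subset_of_suppIn (ExtZero.suppIn_jShriek j _)

/-- `A ≅ (j_! A)|_Y`. -/
noncomputable def unitIso (A : DCoh.D Y) : A ≅ (restrictD j).obj ((shriekD j).obj A) :=
  asIso ((adjunction j).unit.app A)

lemma supp_shriekD (A : DCoh.D Y) (i : ℤ) :
    supp ((shriekD j).obj A) i = j '' supp A i := by
  have h1 := supp_restrictD j ((shriekD j).obj A) i
  rw [← supp_congr (unitIso j A) i] at h1
  rw [h1, Set.image_preimage_eq_inter_range,
    Set.inter_eq_self_of_subset_left (supp_shriekD_subset_range j A i)]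

variable {j} in
/-- A morphism between objects supported on an open is an isomorphism iff its restriction is. -/
lemma isIso_of_supp {K L : DCoh.D X} (φ : K ⟶ L) (hK : ∀ i, supp K i ⊆ Set.range j)
    (hL : ∀ i, supp L i ⊆ Set.range j) (h : IsIso ((restrictD j).map φ)) : IsIso φ := by
  rw [DerivedCategory.isIso_iff]
  intro i
  rw [isIso_iff_stalk]
  intro x
  by_cases hx : x ∈ Set.range j
  · obtain ⟨y, rfl⟩ := hx
    refine (NatIso.isIso_map_iff (stalkRestrict j y) _).1 ?_
    have h1 : IsIso ((restrictFunctor j).map ((DerivedCategory.homologyFunctor _ i).map φ)) :=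
      (NatIso.isIso_map_iff (ExactD.mapHomology (restrictFunctor j) i) φ).1
        (inferInstanceAs (IsIso ((DerivedCategory.homologyFunctor _ i).map ((restrictD j).map φ))))
    exact inferInstanceAs (IsIso ((stalkAb y).map ((restrictFunctor j).map
      ((DerivedCategory.homologyFunctor _ i).map φ))))
  · have h1 : IsZero ((stalkAb x).obj (DCoh.HD K i)) :=
      (DevSupport.not_mem_support_iff_isZero _ x).1 fun h => hx (hK i h)
    have h2 : IsZero ((stalkAb x).obj (DCoh.HD L i)) :=
      (DevSupport.not_mem_support_iff_isZero _ x).1 fun h => hx (hL i h)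
    exact isIso_of_source_target_iso_zero _ h1.isoZero h2.isoZero

variable {j} in
lemma isZero_of_supp {K : DCoh.D X} (hK : ∀ i, supp K i ⊆ Set.range j)
    (h : IsZero ((restrictD j).obj K)) : IsZero K := by
  rw [IsZero.iff_id_eq_zero]
  have : IsIso (0 : K ⟶ K) := by
    refine isIso_of_supp (j := j) _ hK hK ?_
    rw [Functor.map_zero]
    exact isIso_of_source_target_iso_zero _ h.isoZero h.isoZero
  rw [← cancel_mono (0 : K ⟶ K)]
  simp

lemma isIso_counit_app (K : DCoh.D X) (hK : ∀ i, supp K i ⊆ Set.range j) :
    IsIso ((adjunction j).counit.app K) :=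
  isIso_of_supp (j := j) _ (supp_shriekD_subset_range j _) hK inferInstance

/-- For `K` supported on `Y`, restriction to `Y` is bijective on morphisms out of `K`. -/
lemma bijective_restrictD_map (K G : DCoh.D X) (hK : ∀ i, supp K i ⊆ Set.range j) :
    Function.Bijective (fun f : K ⟶ G => (restrictD j).map f) := by
  have := isIso_counit_app j K hK
  have h1 : (fun f : K ⟶ G => (restrictD j).map f) =
      ((adjunction j).homEquiv _ _) ∘ (fun f => (adjunction j).counit.app K ≫ f) := by
    funext f
    simp [Adjunction.homEquiv_unit]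
  rw [h1]
  refine ((adjunction j).homEquiv _ _).bijective.comp ⟨fun f g h => ?_, fun g => ?_⟩
  · exact (cancel_epi _).1 h
  · exact ⟨inv ((adjunction j).counit.app K) ≫ g, by simp⟩

end Groth.Agent.PerfC.ExtZeroD
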