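import Mathlib.CategoryTheory.Triangulated.Functor
import Mathlib.CategoryTheory.Triangulated.Subcategory
import Mathlib.CategoryTheory.MorphismProperty.Retract

/-!
# The locus where a natural transformation between triangulated functors is an isomorphism

`IsTriang F`: `F` admits a structure of triangulated functor.
`isoLocus τ`: the objects `X` such that `τ` is an isomorphism on all the shifts of `X`.  If `F`, `F'` are
triangulated and `τ : F ⟶ F'` is any natural transformation (no compatibility with shifts is needed), then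
`isoLocus τ` is a triangulated subcategory, closed under retracts.
-/

set_option autoImplicit false

open CategoryTheory Category Limits Pretriangulated
open scoped ZeroObject

namespace Groth.Agent.PerfC.IsoLocus

universe v₁ v₂ v₃ u₁ u₂ u₃

variable {C : Type u₁} [Category.{v₁} C] [HasZeroObject C] [HasShift C ℤ] [Preadditive C]
  [∀ n : ℤ, (shiftFunctor C n).Additive] [Pretriangulated C]
  {D : Type u₂} [Category.{v₂} D] [HasZeroObject D] [HasShift D ℤ] [Preadditive D]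
  [∀ n : ℤ, (shiftFunctor D n).Additive] [Pretriangulated D]
  {E : Type u₃} [Category.{v₃} E] [HasZeroObject E] [HasShift E ℤ] [Preadditive E]
  [∀ n : ℤ, (shiftFunctor E n).Additive] [Pretriangulated E]

/-- `F` can be given the structure of a triangulated functor. -/
def IsTriang (F : C ⥤ D) : Prop := ∃ (_ : F.CommShift ℤ), F.IsTriangulated

lemma IsTriang.mk' (F : C ⥤ D) [F.CommShift ℤ] [F.IsTriangulated] : IsTriang F := ⟨inferInstance, inferInstance⟩

lemma IsTriang.id : IsTriang (𝟭 C) := IsTriang.mk' _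

lemma IsTriang.comp {F : C ⥤ D} {G : D ⥤ E} (hF : IsTriang F) (hG : IsTriang G) : IsTriang (F ⋙ G) := by
  obtain ⟨_, _⟩ := hF
  obtain ⟨_, _⟩ := hG
  exact IsTriang.mk' _

lemma IsTriang.of_iso {F F' : C ⥤ D} (hF : IsTriang F) (e : F ≅ F') : IsTriang F' := by
  obtain ⟨_, _⟩ := hF
  let _ : F'.CommShift ℤ := Functor.CommShift.ofIso e ℤ
  have _ : NatTrans.CommShift e.hom ℤ := Functor.CommShift.ofIso_compatibility e ℤ
  exact ⟨inferInstance, Functor.isTriangulated_of_iso e⟩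

lemma IsTriang.additive {F : C ⥤ D} (hF : IsTriang F) : F.Additive := by
  obtain ⟨_, _⟩ := hF
  infer_instance

section

variable {F F' : C ⥤ D} (hF : IsTriang F) (hF' : IsTriang F') (τ : F ⟶ F')

include hF in
lemma exact₂ (T : Triangle C) (hT : T ∈ distTriang C) {Z : D} (φ : Z ⟶ F.obj T.obj₂)
    (hφ : φ ≫ F.map T.mor₂ = 0) : ∃ ψ : Z ⟶ F.obj T.obj₁, φ = ψ ≫ F.map T.mor₁ := by
  obtain ⟨_, _⟩ := hF
  exact Triangle.coyoneda_exact₂ _ (F.map_distinguished T hT) φ hφ

include hF in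
lemma exact₃ (T : Triangle C) (hT : T ∈ distTriang C) {Z : D} (φ : Z ⟶ F.obj T.obj₃)
    (hφ : φ ≫ F.map T.mor₃ = 0) : ∃ ψ : Z ⟶ F.obj T.obj₂, φ = ψ ≫ F.map T.mor₂ :=
  exact₂ hF T.rotate (rot_of_distTriang _ hT) φ hφ

include hF in
lemma exact₁ (T : Triangle C) (hT : T ∈ distTriang C) {Z : D} (φ : Z ⟶ F.obj (T.obj₁⟦(1 : ℤ)⟧))
    (hφ : φ ≫ F.map (T.mor₁⟦(1 : ℤ)⟧') = 0) : ∃ ψ : Z ⟶ F.obj T.obj₃, φ = ψ ≫ F.map T.mor₃ := by
  have := hF.additive
  refine exact₂ hF T.rotate.rotate (rot_of_distTriang _ (rot_of_distTriang _ hT)) φ ?_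
  change φ ≫ F.map (-T.mor₁⟦(1 : ℤ)⟧') = 0
  rw [F.map_neg, Preadditive.comp_neg, hφ, neg_zero]

include hF hF' in
/-- The five lemma. -/
lemma isIso_app₃ (T : Triangle C) (hT : T ∈ distTriang C) (h₁ : IsIso (τ.app T.obj₁))
    (h₂ : IsIso (τ.app T.obj₂)) (h₁' : IsIso (τ.app (T.obj₁⟦(1 : ℤ)⟧)))
    (h₂' : IsIso (τ.app (T.obj₂⟦(1 : ℤ)⟧))) : IsIso (τ.app T.obj₃) := by
  have hFa := hF.additive
  have hFa' := hF'.additive
  have hmono : Mono (τ.app T.obj₃) := by
    rw [Preadditive.mono_iff_cancel_zero]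
    intro Z φ hφ
    have a1 : φ ≫ F.map T.mor₃ = 0 := by
      rw [← cancel_mono (τ.app (T.obj₁⟦(1 : ℤ)⟧)), assoc, τ.naturality, reassoc_of% hφ, zero_comp, zero_comp]
    obtain ⟨ψ, rfl⟩ := exact₃ hF T hT φ a1
    have a2 : (ψ ≫ τ.app T.obj₂) ≫ F'.map T.mor₂ = 0 := by
      rw [assoc, ← τ.naturality, ← assoc, hφ]
    obtain ⟨χ, hχ⟩ := exact₂ hF' T hT _ a2
    have a3 : (χ ≫ inv (τ.app T.obj₁)) ≫ F.map T.mor₁ = ψ := by
      rw [← cancel_mono (τ.app T.obj₂), hχ, assoc, assoc, τ.naturality, IsIso.inv_hom_id_assoc]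
    rw [← a3, assoc, ← F.map_comp, comp_distTriang_mor_zero₁₂ _ hT, F.map_zero, comp_zero]
  have hsurj : ∃ s : F'.obj T.obj₃ ⟶ F.obj T.obj₃, s ≫ τ.app T.obj₃ = 𝟙 _ := by
    have a1 : (F'.map T.mor₃ ≫ inv (τ.app (T.obj₁⟦(1 : ℤ)⟧))) ≫ F.map (T.mor₁⟦(1 : ℤ)⟧') = 0 := by
      rw [← cancel_mono (τ.app (T.obj₂⟦(1 : ℤ)⟧)), assoc, assoc, τ.naturality, IsIso.inv_hom_id_assoc,
        ← F'.map_comp, comp_distTriang_mor_zero₃₁ _ hT, F'.map_zero, zero_comp]
    obtain ⟨φ, hφ⟩ := exact₁ hF T hT _ a1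
    have a2 : (𝟙 _ - φ ≫ τ.app T.obj₃) ≫ F'.map T.mor₃ = 0 := by
      rw [Preadditive.sub_comp, id_comp, assoc, ← τ.naturality, ← assoc, ← hφ, assoc,
        IsIso.inv_hom_id, comp_id, sub_self]
    obtain ⟨ψ, hψ⟩ := exact₃ hF' T hT _ a2
    refine ⟨φ + (ψ ≫ inv (τ.app T.obj₂)) ≫ F.map T.mor₂, ?_⟩
    rw [Preadditive.add_comp, assoc, τ.naturality, assoc, IsIso.inv_hom_id_assoc, ← hψ]
    abel
  obtain ⟨s, hs⟩ := hsurj
  exact ⟨s, by rw [← cancel_mono (τ.app T.obj₃), assoc, hs, comp_id, id_comp], hs⟩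

/-- The objects such that `τ` is an isomorphism on all their shifts. -/
def isoLocus {F F' : C ⥤ D} (τ : F ⟶ F') : ObjectProperty C := fun X => ∀ n : ℤ, IsIso (τ.app (X⟦n⟧))

omit [HasZeroObject C] [Preadditive C] [∀ n : ℤ, (shiftFunctor C n).Additive] [Pretriangulated C]
  [HasZeroObject D] [HasShift D ℤ] [Preadditive D]
  [∀ n : ℤ, (shiftFunctor D n).Additive] [Pretriangulated D] in
lemma isIso_app {X : C} (hX : isoLocus τ X) : IsIso (τ.app X) := by
  have := hX 0
  exact (NatTrans.isIso_app_iff_of_iso τ ((shiftFunctorZero C ℤ).app X)).1 this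

instance isoLocus_isClosedUnderIsomorphisms : (isoLocus τ).IsClosedUnderIsomorphisms where
  of_iso e hX n := (NatTrans.isIso_app_iff_of_iso τ ((shiftFunctor C n).mapIso e)).1 (hX n)

instance isoLocus_isStableUnderShift : (isoLocus τ).IsStableUnderShift ℤ where
  isStableUnderShiftBy a :=
    { le_shift := fun X hX n =>
        (NatTrans.isIso_app_iff_of_iso τ ((shiftFunctorAdd C a n).app X)).1 (hX (a + n)) }

instance isoLocus_isStableUnderRetracts : (isoLocus τ).IsStableUnderRetracts where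
  of_retract h hY n :=
    MorphismProperty.of_retract (P := MorphismProperty.isomorphisms D)
      (NatTrans.retractArrowApp τ (h.map (shiftFunctor C n))) (hY n)

omit [HasZeroObject C] [Preadditive C] [∀ n : ℤ, (shiftFunctor C n).Additive] [Pretriangulated C]
  [HasZeroObject D] [HasShift D ℤ] [Preadditive D]
  [∀ n : ℤ, (shiftFunctor D n).Additive] [Pretriangulated D] in
/-- The iso locus of a natural transformation between functors preserving coproducts is closed under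
coproducts. -/
lemma isoLocus_prop_of_isColimit {J : Type*} {X : J → C}
    (c : Cofan X) (hc : IsColimit c)
    [PreservesColimitsOfShape (Discrete J) F] [PreservesColimitsOfShape (Discrete J) F']
    (hX : ∀ j, isoLocus τ (X j)) : isoLocus τ c.pt := by
  intro n
  let e := isColimitOfPreserves (shiftFunctor C n ⋙ F) hc
  let e' := isColimitOfPreserves (shiftFunctor C n ⋙ F') hc
  have hj : ∀ j : Discrete J, IsIso (τ.app ((X j.as)⟦n⟧)) := fun j => hX j.as n
  let α : Discrete.functor X ⋙ shiftFunctor C n ⋙ F ≅ Discrete.functor X ⋙ shiftFunctor C n ⋙ F' :=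
    Discrete.natIso (fun j => @asIso _ _ _ _ (τ.app ((X j.as)⟦n⟧)) (hj j))
  have : τ.app (c.pt⟦n⟧) = (e.coconePointsIsoOfNatIso e' α).hom := by
    refine e.hom_ext (fun j => ?_)
    rw [IsColimit.comp_coconePointsIsoOfNatIso_hom]
    exact τ.naturality _
  rw [this]
  infer_instance

include hF hF' in
lemma isoLocus_isTriangulated : (isoLocus τ).IsTriangulated where
  exists_zero := by
    refine ⟨0, isZero_zero _, fun n => ?_⟩
    have := hF.additive
    have := hF'.additive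
    have h0 : IsZero ((0 : C)⟦n⟧) := (shiftFunctor C n).map_isZero (isZero_zero _)
    exact (F.map_isZero h0).isIso (F'.map_isZero h0) _
  toIsTriangulatedClosed₂ := by
    have : (isoLocus τ).IsTriangulatedClosed₃ := .mk' (fun T hT h₁ h₂ => by
      intro n
      have hT' := Triangle.shift_distinguished T hT n
      have i₁ : IsIso (τ.app ((T.obj₁⟦n⟧)⟦(1 : ℤ)⟧)) :=
        (NatTrans.isIso_app_iff_of_iso τ ((shiftFunctorAdd C n 1).app T.obj₁)).1 (h₁ (n + 1))
      have i₂ : IsIso (τ.app ((T.obj₂⟦n⟧)⟦(1 : ℤ)⟧)) :=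
        (NatTrans.isIso_app_iff_of_iso τ ((shiftFunctorAdd C n 1).app T.obj₂)).1 (h₂ (n + 1))
      exact isIso_app₃ hF hF' τ _ hT' (h₁ n) (h₂ n) i₁ i₂)
    exact ObjectProperty.IsTriangulatedClosed₂.of_isTriangulatedClosed₃

end

end Groth.Agent.PerfC.IsoLocus
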