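import Groth.Agent.PerfC.AffGen291
import Groth.Agent.PerfC.DTens
import Groth.Agent.PerfC.ExtZeroD
import Groth.Agent.PerfC.IsoLocus
import Groth.Agent.Dcoh.DerPull2
import Groth.Agent.S1000
import Groth.Agent.S1054
import Groth.Agent.S1062

/-!
# Locality of the projection map
-/

set_option autoImplicit false

universe u

open CategoryTheory CategoryTheory.Limits AlgebraicGeometry Pretriangulated

attribute [local instance] HasDerivedCategory.standard

namespace Groth.Agent.PerfC.ProjAbs291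

open Groth.Agent.PerfA.Restrict Groth.Agent.PerfC.IsoLocus Groth.Agent.PerfC.DTens
  Groth.Agent.PerfC.ExtZeroD

variable {X Y : Scheme.{u}}

/-- Compatibility of the derived tensor product with the restriction to opens (on objects). -/
def ResTens : Prop := ∀ {X U : Scheme.{u}} (j : U ⟶ X) [IsOpenImmersion j] (A B : DCoh.D X),
  Nonempty ((restrictD j).obj (((LTX X).obj A).obj B) ≅
    ((LTX U).obj ((restrictD j).obj A)).obj ((restrictD j).obj B))

lemma isTriang_restrictD (j : Y ⟶ X) [IsOpenImmersion j] : IsTriang (restrictD j) :=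
  IsTriang.mk' _

lemma isTriang_shriekD (j : Y ⟶ X) [IsOpenImmersion j] : IsTriang (shriekD j) :=
  IsTriang.mk' _

lemma isTriang_Rpush (f : X ⟶ Y) [DCoh.HasRpush f] : IsTriang (DCoh.Rpush f) :=
  ⟨Groth.Agent.Dcoh.DerSch.rpushCommShift f, Groth.Agent.Dcoh.DerSch.rpush_isTriangulated f⟩

lemma isTriang_Lpull (f : X ⟶ Y) [DCoh.HasLpull f] : IsTriang (DCoh.Lpull f) :=
  ⟨Groth.Agent.Dcoh.DerPull.lpullCommShift f, Groth.Agent.Dcoh.DerPull.lpull_isTriangulated f⟩

/-- `Rf_*` preserves coproducts of objects with quasi-coherent cohomology. -/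
lemma preservesColimit_Rpush (f : X ⟶ Y) [QuasiCompact f] [QuasiSeparated f] [DCoh.HasRpush f]
    {J : Type u} (K : J → DCoh.D X) (hK : ∀ j, DCoh.IsQCohD (K j)) :
    PreservesColimit (Discrete.functor K) (DCoh.Rpush f) := by
  have h1 := Groth.Agent.S1000.result f K hK
  have h2 : IsIso (sigmaComparison (DCoh.Rpush f) K) := h1
  exact PreservesCoproduct.of_iso_comparison (DCoh.Rpush f) K

/-- `Lf^*` preserves coproducts. -/
lemma preservesCoproducts_Lpull (f : X ⟶ Y) [DCoh.HasLpull f] (J : Type u) :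
    PreservesColimitsOfShape (Discrete J) (DCoh.Lpull f) := by
  have := Groth.Agent.Dcoh.DerSch.hasRpush f
  exact (Groth.Agent.Dcoh.DerPull.lpullAdj f).leftAdjoint_preservesColimits.preservesColimitsOfShape

lemma preservesCoproducts_restrictD (j : Y ⟶ X) [IsOpenImmersion j] (J : Type u) :
    PreservesColimitsOfShape (Discrete J) (restrictD j) :=
  CohtopA.ExactDer.preservesCoproducts_mapDerivedCategory _ J

lemma preservesCoproducts_shriekD (j : Y ⟶ X) [IsOpenImmersion j] (J : Type u) :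
    PreservesColimitsOfShape (Discrete J) (shriekD j) :=
  (adjunction j).leftAdjoint_preservesColimits.preservesColimitsOfShape

section main

variable (hRT : ResTens.{u}) {U V : Scheme.{u}} {f : X ⟶ Y} {f' : U ⟶ V} {j' : U ⟶ X} {j : V ⟶ Y}
  [IsOpenImmersion j'] [IsOpenImmersion j] (hp : IsPullback j' f' f j)
  [DCoh.HasRpush f] [DCoh.HasLpull f] [DCoh.HasRpush f'] [DCoh.HasLpull f']

include hp in
/-- `(Rf_* K)|_V ≅ Rf'_* (K|_U)`. -/
lemma nonempty_Rpush : Nonempty (DCoh.Rpush f ⋙ restrictD j ≅ restrictD j' ⋙ DCoh.Rpush f') :=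
  Groth.Agent.Dcoh.DerSch.exists_rpushRestrictIso f f' j' j hp

include hp in
/-- `(Lf^* K)|_U ≅ Lf'^* (K|_V)`. -/
lemma nonempty_Lpull : Nonempty (DCoh.Lpull f ⋙ restrictD j' ≅ restrictD j ⋙ DCoh.Lpull f') :=
  ⟨Groth.Agent.Dcoh.DerPull.lpullRestrictIso hp.w⟩

lemma isZero_Rpush (f : X ⟶ Y) [DCoh.HasRpush f] {K : DCoh.D X} (hK : IsZero K) :
    IsZero ((DCoh.Rpush f).obj K) :=
  have := (isTriang_Rpush f).additive
  (DCoh.Rpush f).map_isZero hK

lemma isZero_Lpull (f : X ⟶ Y) [DCoh.HasLpull f] {K : DCoh.D Y} (hK : IsZero K) :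
    IsZero ((DCoh.Lpull f).obj K) :=
  have := (isTriang_Lpull f).additive
  (DCoh.Lpull f).map_isZero hK

lemma isZero_LTX (K : DCoh.D X) {L : DCoh.D X} (hL : IsZero L) : IsZero (((LTX X).obj K).obj L) :=
  have := (isTriang_LTX_obj K).additive
  ((LTX X).obj K).map_isZero hL

include hRT in
lemma isZero_left (A : DCoh.D Y) {K : DCoh.D Y} (hK : IsZero ((restrictD j).obj K)) :
    IsZero ((restrictD j).obj (((LTX Y).obj A).obj K)) :=
  (isZero_LTX _ hK).of_iso (hRT j A K).some

include hRT hp in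
lemma isZero_right (E : DCoh.D X) {K : DCoh.D Y} (hK : IsZero ((restrictD j).obj K)) :
    IsZero ((restrictD j).obj ((DCoh.Lpull f ⋙ (LTX X).obj E ⋙ DCoh.Rpush f).obj K)) := by
  have h1 : IsZero ((restrictD j').obj ((DCoh.Lpull f).obj K)) :=
    (isZero_Lpull f' hK).of_iso ((nonempty_Lpull hp).some.app K)
  have h2 : IsZero ((restrictD j').obj (((LTX X).obj E).obj ((DCoh.Lpull f).obj K))) :=
    isZero_left hRT E h1
  exact (isZero_Rpush f' h2).of_iso ((nonempty_Rpush hp).some.app _)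

variable {A : DCoh.D Y} {E : DCoh.D X}
  (τ : (LTX Y).obj A ⟶ DCoh.Lpull f ⋙ (LTX X).obj E ⋙ DCoh.Rpush f)

variable (j) in
/-- The restriction of `τ` to `V`. -/
noncomputable abbrev resτ : (LTX Y).obj A ⋙ restrictD j ⟶
    (DCoh.Lpull f ⋙ (LTX X).obj E ⋙ DCoh.Rpush f) ⋙ restrictD j :=
  Functor.whiskerRight τ (restrictD j)

lemma isTriang_F (A : DCoh.D Y) : IsTriang ((LTX Y).obj A ⋙ restrictD j) :=
  (isTriang_LTX_obj A).comp (isTriang_restrictD j)

lemma isTriang_G (E : DCoh.D X) :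
    IsTriang ((DCoh.Lpull f ⋙ (LTX X).obj E ⋙ DCoh.Rpush f) ⋙ restrictD j) :=
  ((isTriang_Lpull f).comp ((isTriang_LTX_obj E).comp (isTriang_Rpush f))).comp
    (isTriang_restrictD j)

include hRT hp in
lemma isoLocus_of_isZero {K : DCoh.D Y} (hK : IsZero ((restrictD j).obj K)) :
    isoLocus (resτ j τ) K := by
  intro n
  have h1 : IsZero ((restrictD j).obj (K⟦n⟧)) :=
    ((shiftFunctor (DCoh.D V) n).map_isZero hK).of_iso (((restrictD j).commShiftIso n).app K)
  exact (isZero_left hRT A h1).isIso (isZero_right hRT hp E h1) _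

include hRT hp in
/-- `τ` is an isomorphism over `V` on `K` iff it is on `j_! j^* K`. -/
lemma isoLocus_iff (K : DCoh.D Y) : isoLocus (resτ j τ) K ↔
    isoLocus (resτ j τ) ((shriekD j).obj ((restrictD j).obj K)) := by
  obtain ⟨C, p, q, hT⟩ := distinguished_cocone_triangle ((adjunction j).counit.app K)
  have hC : IsZero ((restrictD j).obj C) :=
    (Triangle.isZero₃_iff_isIso₁ _ ((restrictD j).map_distinguished _ hT)).2
      (isIso_restrictD_counit j K)
  have hl := isoLocus_of_isZero hRT hp τ hC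
  have := isoLocus_isTriangulated (isTriang_F A) (isTriang_G E) (resτ j τ)
  constructor
  · intro h
    exact (isoLocus (resτ j τ)).ext_of_isTriangulatedClosed₁ _ hT h hl
  · intro h
    exact (isoLocus (resτ j τ)).ext_of_isTriangulatedClosed₂ _ hT h hl

/-- The transformation `τ` on the objects `j_! K'`. -/
noncomputable abbrev shτ : shriekD j ⋙ (LTX Y).obj A ⋙ restrictD j ⟶
    shriekD j ⋙ (DCoh.Lpull f ⋙ (LTX X).obj E ⋙ DCoh.Rpush f) ⋙ restrictD j :=
  Functor.whiskerLeft (shriekD j) (resτ j τ)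

lemma isoLocus_shτ_iff (K' : DCoh.D V) : isoLocus (shτ (j := j) τ) K' ↔
    isoLocus (resτ j τ) ((shriekD j).obj K') := by
  refine forall_congr' (fun n => ?_)
  exact NatTrans.isIso_app_iff_of_iso (resτ j τ) (((shriekD j).commShiftIso n).app K')

end main

/-- A natural transformation between functors preserving a given coproduct is an isomorphism on the
coproduct if it is on the summands. -/
lemma isIso_app_pt {C D : Type*} [Category* C] [Category* D] {F G : C ⥤ D} (τ : F ⟶ G) {J : Type*}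
    {Z : J → C} (c : Cofan Z) (hc : IsColimit c) [PreservesColimit (Discrete.functor Z) F]
    [PreservesColimit (Discrete.functor Z) G] (h : ∀ j, IsIso (τ.app (Z j))) :
    IsIso (τ.app c.pt) := by
  let e := isColimitOfPreserves F hc
  let e' := isColimitOfPreserves G hc
  let α : Discrete.functor Z ⋙ F ≅ Discrete.functor Z ⋙ G :=
    Discrete.natIso (fun j => @asIso _ _ _ _ (τ.app (Z j.as)) (h j.as))
  have : τ.app c.pt = (e.coconePointsIsoOfNatIso e' α).hom := by
    refine e.hom_ext (fun j => ?_)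
    rw [IsColimit.comp_coconePointsIsoOfNatIso_hom]
    exact τ.naturality _
  rw [this]
  infer_instance

lemma isQCohD_of_iso {K L : DCoh.D X} (e : K ≅ L) (h : DCoh.IsQCohD K) : DCoh.IsQCohD L :=
  Groth.Agent.PerfA.AffModel.isQCohD_of_iso e h

/-- The derived tensor product of objects with quasi-coherent cohomology. -/
lemma isQCohD_LTX {K L : DCoh.D X} (hK : DCoh.IsQCohD K) (hL : DCoh.IsQCohD L) :
    DCoh.IsQCohD (((LTX X).obj K).obj L) := by
  obtain ⟨F, ⟨e⟩⟩ := exists_rep X L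
  have := hasLTensorCx F
  have h1 := Groth.Agent.S1062.result X F (isQCohD_of_iso e.symm hL) K hK
  exact isQCohD_of_iso ((LTXcxObj K F).symm ≪≫ ((LTX X).obj K).mapIso e) h1

lemma isQCohD_shift {K : DCoh.D X} (hK : DCoh.IsQCohD K) (n : ℤ) : DCoh.IsQCohD (K⟦n⟧) :=
  (DCoh.IsQCohD (X := X)).le_shift n _ hK

section cop

variable (hRT : ResTens.{u}) {U V : Scheme.{u}} {f : X ⟶ Y} {f' : U ⟶ V} {j' : U ⟶ X} {j : V ⟶ Y}
  [IsOpenImmersion j'] [IsOpenImmersion j] (hp : IsPullback j' f' f j)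
  [DCoh.HasRpush f] [DCoh.HasLpull f] [DCoh.HasRpush f'] [DCoh.HasLpull f']
  {A : DCoh.D Y} {E : DCoh.D X} (hE : DCoh.IsQCohD E)
  (τ : (LTX Y).obj A ⟶ DCoh.Lpull f ⋙ (LTX X).obj E ⋙ DCoh.Rpush f)

include hRT hp hE in
lemma isQCohD_H {Z : DCoh.D V} (hZ : DCoh.IsQCohD Z) : DCoh.IsQCohD
    ((shriekD j ⋙ DCoh.Lpull f ⋙ (LTX X).obj E ⋙ restrictD j').obj Z) := by
  have h1 : DCoh.IsQCohD ((restrictD j').obj ((DCoh.Lpull f).obj ((shriekD j).obj Z))) := by
    refine isQCohD_of_iso ((nonempty_Lpull hp).some.symm.app _) ?_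
    exact Groth.Agent.S1054.result f' _ (isQCohD_of_iso (unitIso j Z) hZ)
  have h2 : DCoh.IsQCohD ((restrictD j').obj E) := Groth.Agent.PerfA.AffModel.isQCohD_restrictD j' hE
  exact isQCohD_of_iso (hRT j' E _).some.symm (isQCohD_LTX h2 h1)

include hRT hp hE in
lemma preservesColimit_G' [QuasiCompact f'] [QuasiSeparated f'] {J : Type u} (Z : J → DCoh.D V)
    (hZ : ∀ i, DCoh.IsQCohD (Z i)) : PreservesColimit (Discrete.functor Z)
      (shriekD j ⋙ (DCoh.Lpull f ⋙ (LTX X).obj E ⋙ DCoh.Rpush f) ⋙ restrictD j) := by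
  let H := shriekD j ⋙ DCoh.Lpull f ⋙ (LTX X).obj E ⋙ restrictD j'
  have i1 := preservesCoproducts_shriekD j J
  have i2 := preservesCoproducts_Lpull f J
  have i3 := preservesCoproducts_LTX_obj J E
  have i4 := preservesCoproducts_restrictD j' J
  have i5 : PreservesColimitsOfShape (Discrete J) ((LTX X).obj E ⋙ restrictD j') :=
    comp_preservesColimitsOfShape _ _
  have i6 : PreservesColimitsOfShape (Discrete J) (DCoh.Lpull f ⋙ (LTX X).obj E ⋙ restrictD j') :=
    comp_preservesColimitsOfShape _ _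
  have i7 : PreservesColimitsOfShape (Discrete J) H := comp_preservesColimitsOfShape _ _
  have i8 := preservesColimit_Rpush f' (fun i => H.obj (Z i)) (fun i => isQCohD_H hRT hp hE (hZ i))
  have i9 : PreservesColimit (Discrete.functor Z ⋙ H) (DCoh.Rpush f') :=
    preservesColimit_of_iso_diagram (K₁ := Discrete.functor (fun i => H.obj (Z i)))
      (DCoh.Rpush f') (Discrete.natIso fun _ => Iso.refl _)
  have i10 : PreservesColimit (Discrete.functor Z) (H ⋙ DCoh.Rpush f') :=
    comp_preservesColimit _ _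
  exact preservesColimit_of_natIso (F := H ⋙ DCoh.Rpush f') (Discrete.functor Z)
    (Functor.isoWhiskerLeft (shriekD j ⋙ DCoh.Lpull f ⋙ (LTX X).obj E) (nonempty_Rpush hp).some.symm)

lemma preservesCoproducts_F' (A : DCoh.D Y) (J : Type u) : PreservesColimitsOfShape (Discrete J)
    (shriekD j ⋙ (LTX Y).obj A ⋙ restrictD j) := by
  have i1 := preservesCoproducts_shriekD j J
  have i3 := preservesCoproducts_LTX_obj J A
  have i4 := preservesCoproducts_restrictD j J
  have i5 : PreservesColimitsOfShape (Discrete J) ((LTX Y).obj A ⋙ restrictD j) :=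
    comp_preservesColimitsOfShape _ _
  exact comp_preservesColimitsOfShape _ _

include hRT hp hE in
lemma isoLocus_coprod [QuasiCompact f'] [QuasiSeparated f'] (J : Type u) (Z : J → DCoh.D V)
    (c : Cofan Z) (hc : IsColimit c) (hZ : ∀ i, DCoh.IsQCohD (Z i))
    (h : ∀ i, isoLocus (shτ (j := j) τ) (Z i)) : isoLocus (shτ (j := j) τ) c.pt := by
  intro n
  have i1 := preservesCoproducts_F' (j := j) A J
  have i2 := preservesColimit_G' hRT hp hE (fun i => (Z i)⟦n⟧) (fun i => isQCohD_shift (hZ i) n)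
  exact isIso_app_pt (shτ (j := j) τ) (Cofan.mk (c.pt⟦n⟧) (fun i => (c.inj i)⟦n⟧'))
    (isColimitCofanMkObjOfIsColimit (shiftFunctor (DCoh.D V) n) Z _ hc) (fun i => h i n)

include hRT hp hE in
/-- The projection map is an isomorphism over an affine open. -/
theorem isoLocus_affine [IsAffine V] [QuasiCompact f'] [QuasiSeparated f']
    (h1 : isoLocus (resτ j τ) ((DerivedCategory.singleFunctor Y.Modules 0).obj
      (Coh.structureModule Y))) {K : DCoh.D Y} (hK : DCoh.IsQCohD K) :
    isoLocus (resτ j τ) K := by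
  rw [isoLocus_iff hRT hp τ, ← isoLocus_shτ_iff]
  have := isoLocus_isTriangulated ((isTriang_shriekD j).comp (isTriang_F A))
    ((isTriang_shriekD j).comp (isTriang_G E)) (shτ (j := j) τ)
  refine AffGen291.prop_of_isQCohD V (isoLocus (shτ (j := j) τ))
    (fun J Z c hc hZ h => isoLocus_coprod hRT hp hE τ J Z c hc hZ h) ?_ _
    (Groth.Agent.PerfA.AffModel.isQCohD_restrictD j hK)
  rw [isoLocus_shτ_iff]
  rw [isoLocus_iff hRT hp τ] at h1
  refine (isoLocus (resτ j τ)).prop_of_iso ((shriekD j).mapIso ?_) h1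
  exact ((Scheme.Modules.restrictFunctor j).mapDerivedCategorySingleFunctor 0).app _ ≪≫
    (DerivedCategory.singleFunctor V.Modules 0).mapIso (Scheme.Modules.restrictUnitIso j)

end cop

/-- Locality of the projection map: `τ_K : A ⊗ᴸ K ⟶ Rf_* (E ⊗ᴸ Lf^* K)`, natural in `K`, is an
isomorphism for all `K` with quasi-coherent cohomology if it is one on the shifts of `O_Y`. -/
theorem isIso_app (hRT : ResTens.{u}) (f : X ⟶ Y) [QuasiCompact f] [QuasiSeparated f]
    [DCoh.HasRpush f] [DCoh.HasLpull f] {A : DCoh.D Y} {E : DCoh.D X} (hE : DCoh.IsQCohD E)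
    (τ : (LTX Y).obj A ⟶ DCoh.Lpull f ⋙ (LTX X).obj E ⋙ DCoh.Rpush f)
    (h1 : isoLocus τ ((DerivedCategory.singleFunctor Y.Modules 0).obj (Coh.structureModule Y)))
    {K : DCoh.D Y} (hK : DCoh.IsQCohD K) : IsIso (τ.app K) := by
  refine isIso_of_restrictD_opens _ (fun y => ?_)
  obtain ⟨V, hV, hy, -⟩ := exists_isAffineOpen_mem_and_subset (X := Y) (x := y) (U := ⊤) trivial
  refine ⟨V, hy, ?_⟩
  have : IsAffine V.toScheme := hV
  have := Groth.Agent.Dcoh.DerSch.hasRpush (f ∣_ V)
  have := Groth.Agent.Dcoh.DerPull.hasLpull (f ∣_ V)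
  have h2 : isoLocus (resτ V.ι τ) ((DerivedCategory.singleFunctor Y.Modules 0).obj
      (Coh.structureModule Y)) := fun n => by
    have := h1 n
    exact Functor.map_isIso (restrictD V.ι) _
  exact IsoLocus.isIso_app (resτ V.ι τ)
    (isoLocus_affine hRT (isPullback_morphismRestrict f V).flip hE τ h2 hK)

end Groth.Agent.PerfC.ProjAbs291
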