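import Groth.Agent.PerfC.DBifUnit
import Mathlib.Algebra.Homology.BifunctorShift

/-!
# The derived functor `- ⊗ᴸ E⟦n⟧` for a unit `E`
-/

set_option autoImplicit false

universe w₁ v₁ v₂ v₃ u₁ u₂ u₃

open CategoryTheory Category Limits

namespace Groth.Agent.PerfC.DBifShift

open Groth.Agent.Dcoh.CxFun Groth.Agent.PerfC.DInd Groth.Agent.PerfC.DBif Groth.Agent.PerfC.ExtNat

section

variable {A : Type u₁} [Category.{v₁} A] [Preadditive A]
  {B : Type u₂} [Category.{v₂} B] [Preadditive B]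
  {C : Type u₃} [Category.{v₃} C] [Preadditive C]
  (F : A ⥤ B ⥤ C) [F.Additive] [∀ X₁, (F.obj X₁).Additive]
  [∀ (K₁ : CochainComplex A ℤ) (K₂ : CochainComplex B ℤ), CochainComplex.HasMapBifunctor K₁ K₂ F]
  {G : CochainComplex A ℤ ⥤ CochainComplex B ℤ ⥤ CochainComplex C ℤ}
  (hG : G = F.map₂CochainComplex)

include hG in
/-- `K ⊗ (E⟦n⟧) ≅ (K ⊗ E)⟦n⟧`, naturally in `K`. -/
theorem nonempty_flip_shift (E : CochainComplex B ℤ) (n : ℤ) :
    Nonempty (G.flip.obj (E⟦n⟧) ≅ G.flip.obj E ⋙ shiftFunctor _ n) := by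
  subst hG
  exact ⟨NatIso.ofComponents (fun K => ((F.map₂CochainComplex.obj K).commShiftIso n).app E)
    (fun {K K'} u => (NatTrans.shift_app_comm (F.map₂CochainComplex.map u) n E).symm)⟩

end

variable {A : Type u₁} [Category.{v₁} A] [Abelian A] [HasDerivedCategory.{w₁} A]
  {G : CochainComplex A ℤ ⥤ CochainComplex A ℤ ⥤ CochainComplex A ℤ}
  {P : ObjectProperty (CochainComplex A ℤ)} (h : BifData G P) [HasLT G]
  {S₀ : CochainComplex A ℤ ⥤ CochainComplex A ℤ} {S : DerivedCategory A ⥤ DerivedCategory A}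
  (q : DerivedCategory.Q ⋙ S ≅ S₀ ⋙ DerivedCategory.Q)

/-- The natural family. -/
noncomputable def nat' (E : CochainComplex A ℤ) (e : G.flip.obj E ≅ S₀) :
    PNat P ((LT h).flip.obj (DerivedCategory.Q.obj E)) S where
  app K _ := κ h K E ≫ DerivedCategory.Q.map (e.hom.app K) ≫ q.inv.app K
  nat {K K'} hK hK' u := by
    have h1 := e.hom.naturality u
    have h2 := q.inv.naturality u
    dsimp at h1 h2
    change ((LT h).map (DerivedCategory.Q.map u)).app (DerivedCategory.Q.obj E) ≫ _ = _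
    rw [κ_nat₁_assoc, ← Functor.map_comp_assoc, h1, Functor.map_comp_assoc, h2, assoc, assoc]

/-- If `K ⊗ E ≅ S₀ K` naturally, and `S₀` induces `S` on the derived category, then `K ⊗ᴸ E ≅ S K`. -/
noncomputable def iso' (E : CochainComplex A ℤ) (e : G.flip.obj E ≅ S₀) :
    (LT h).flip.obj (DerivedCategory.Q.obj E) ≅ S :=
  haveI : IsIso ((nat' h q E e).ext h.exists_res) :=
    PNat.isIso_ext _ h.exists_res (fun K hK => by
      have := isIso_κ h K hK E
      change IsIso (κ h K E ≫ DerivedCategory.Q.map (e.hom.app K) ≫ q.inv.app K)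
      infer_instance)
  asIso ((nat' h q E e).ext h.exists_res)

/-- If `K ⊗ E ≅ K` naturally then `- ⊗ᴸ E⟦n⟧` is the shift. -/
theorem nonempty_shiftIso (F : A ⥤ A ⥤ A) [F.Additive] [∀ X₁, (F.obj X₁).Additive]
    [∀ (K₁ : CochainComplex A ℤ) (K₂ : CochainComplex A ℤ), CochainComplex.HasMapBifunctor K₁ K₂ F]
    (hG : G = F.map₂CochainComplex) (E : CochainComplex A ℤ) (e : G.flip.obj E ≅ 𝟭 _) (n : ℤ) :
    Nonempty ((LT h).flip.obj (DerivedCategory.Q.obj (E⟦n⟧)) ≅ shiftFunctor (DerivedCategory A) n) := by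
  obtain ⟨e1⟩ := nonempty_flip_shift F hG E n
  exact ⟨iso' h (DerivedCategory.Q.commShiftIso n).symm (E⟦n⟧)
    (e1 ≪≫ Functor.isoWhiskerRight e (shiftFunctor _ n) ≪≫ Functor.leftUnitor _)⟩

/-- If `K ⊗ E ≅ K` naturally then `- ⊗ᴸ (E⟦n⟧)` is an equivalence. -/
theorem isEquivalence (F : A ⥤ A ⥤ A) [F.Additive] [∀ X₁, (F.obj X₁).Additive]
    [∀ (K₁ : CochainComplex A ℤ) (K₂ : CochainComplex A ℤ), CochainComplex.HasMapBifunctor K₁ K₂ F]
    (hG : G = F.map₂CochainComplex) (E : CochainComplex A ℤ) (e : G.flip.obj E ≅ 𝟭 _) (n : ℤ)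
    (I : DerivedCategory A) (i : (DerivedCategory.Q.obj E)⟦n⟧ ≅ I) :
    ((LT h).flip.obj I).IsEquivalence := by
  obtain ⟨e1⟩ := nonempty_shiftIso h F hG E e n
  exact Functor.isEquivalence_of_iso (e1.symm ≪≫ (LT h).flip.mapIso
    ((DerivedCategory.Q.commShiftIso n).app E ≪≫ i))

end Groth.Agent.PerfC.DBifShift
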