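import Groth.Agent.PerfC.ProjMap

/-!
# The projection map is an isomorphism at invertible objects
-/

set_option autoImplicit false

universe v₁ v₂ u₁ u₂

open CategoryTheory Category

namespace Groth.Agent.PerfC.ProjMap

variable {D : Type u₁} [Category.{v₁} D] {E : Type u₂} [Category.{v₂} E]

/-- Let `S`, `S'` be equivalences, `adj : L ⊣ R` and `a : L (S F) ≅ S' (L F)` natural in `F`.  Then the mate
`S (R A) ⟶ R (S' A)` is an isomorphism. -/
theorem isIso_mate {L : D ⥤ E} {R : E ⥤ D} (adj : L ⊣ R) (S : D ⥤ D) (S' : E ⥤ E) [S.IsEquivalence]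
    [S'.IsEquivalence] (a : ∀ F : D, L.obj (S.obj F) ≅ S'.obj (L.obj F))
    (ha : ∀ {F F' : D} (u : F ⟶ F'), L.map (S.map u) ≫ (a F').hom = (a F).hom ≫ S'.map (L.map u)) (A : E) :
    IsIso (adj.unit.app (S.obj (R.obj A)) ≫ R.map (a (R.obj A)).hom ≫ R.map (S'.map (adj.counit.app A))) := by
  set θ := adj.unit.app (S.obj (R.obj A)) ≫ R.map (a (R.obj A)).hom ≫ R.map (S'.map (adj.counit.app A)) with hθ
  -- the computation of the composition with `θ`
  have key : ∀ (F : D) (g : L.obj F ⟶ A), S.map (adj.homEquiv F A g) ≫ θ =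
      adj.homEquiv (S.obj F) (S'.obj A) ((a F).hom ≫ S'.map g) := by
    intro F g
    rw [adj.homEquiv_unit, adj.homEquiv_unit, hθ]
    have h1 := adj.unit.naturality (S.map (adj.unit.app F ≫ R.map g))
    dsimp at h1
    rw [reassoc_of% h1, ← R.map_comp_assoc, ha, ← R.map_comp]
    congr 2
    rw [assoc, ← S'.map_comp, L.map_comp, assoc]
    have h2 := adj.counit.naturality g
    dsimp at h2
    rw [h2, adj.left_triangle_components_assoc]
  -- post-composition with `θ` is bijective on maps from `S F`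
  have hb : ∀ F : D, Function.Bijective (fun g : S.obj F ⟶ S.obj (R.obj A) => g ≫ θ) := by
    intro F
    have e : (fun g : S.obj F ⟶ S.obj (R.obj A) => g ≫ θ) =
      (adj.homEquiv (S.obj F) (S'.obj A)) ∘ (fun g => (a F).hom ≫ g) ∘ (fun g => S'.map g) ∘
        (adj.homEquiv F A).symm ∘ (fun g => S.preimage g) := by
      funext g
      have := key F ((adj.homEquiv F A).symm (S.preimage g))
      rw [Equiv.apply_symm_apply, S.map_preimage] at this
      exact this
    rw [e]
    refine (Equiv.bijective _).comp (Function.Bijective.comp ?_ (Function.Bijective.comp ?_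
      ((Equiv.bijective _).comp ?_)))
    · exact ⟨fun x y h => by simpa using h, fun y => ⟨(a F).inv ≫ y, by simp⟩⟩
    · exact ⟨fun x y h => S'.map_injective h, fun y => ⟨S'.preimage y, S'.map_preimage y⟩⟩
    · exact ⟨fun x y h => by
        have := congrArg S.map h
        simpa using this, fun y => ⟨S.map y, by simp⟩⟩
  have hb' : ∀ Z : D, Function.Bijective (fun g : Z ⟶ S.obj (R.obj A) => g ≫ θ) := by
    intro Z
    let i : S.obj (S.objPreimage Z) ≅ Z := S.objObjPreimageIso Z
    constructor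
    · intro x y h
      have h' : (i.hom ≫ x) ≫ θ = (i.hom ≫ y) ≫ θ := by
        rw [assoc, assoc]; exact congrArg (fun t => i.hom ≫ t) h
      have := (hb (S.objPreimage Z)).1 h'
      exact (cancel_epi i.hom).1 this
    · intro y
      obtain ⟨x, hx⟩ := (hb (S.objPreimage Z)).2 (i.hom ≫ y)
      refine ⟨i.inv ≫ x, ?_⟩
      dsimp at hx ⊢
      rw [assoc, hx, Iso.inv_hom_id_assoc]
  obtain ⟨s, hs⟩ := (hb' _).2 (𝟙 (R.obj (S'.obj A)))
  refine ⟨s, (hb' _).1 ?_, hs⟩
  dsimp at hs ⊢
  rw [assoc, hs, comp_id, id_comp]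

variable {T : D ⥤ D ⥤ D} {T' : E ⥤ E ⥤ E} {L : D ⥤ E} {R : E ⥤ D} (adj : L ⊣ R)
  (M : T ⋙ (Functor.whiskeringRight _ _ _).obj L ⟶ L ⋙ T' ⋙ (Functor.whiskeringLeft _ _ _).obj L)

/-- The projection map is an isomorphism at invertible objects. -/
theorem isIso_theta_of_isEquivalence (I : D) (hI : (T.flip.obj I).IsEquivalence)
    (hI' : (T'.flip.obj (L.obj I)).IsEquivalence) (hM : ∀ F : D, IsIso (Ma M F I)) (A : E) :
    IsIso ((theta adj M A).app I) := by
  rw [theta_app]
  exact isIso_mate adj (T.flip.obj I) (T'.flip.obj (L.obj I)) (fun F => @asIso _ _ _ _ (Ma M F I) (hM F))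
    (fun {F F'} u => Ma_nat₁ M u I) A

end Groth.Agent.PerfC.ProjMap
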