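import Groth.Agent.PerfC.LpullTens
import Groth.Agent.PerfC.DBifShift
import Groth.Agent.PerfC.ProjMap2

/-!
# The projection map is an isomorphism at all shifts of the structure sheaf
-/

set_option autoImplicit false

universe u

open CategoryTheory CategoryTheory.Limits AlgebraicGeometry

attribute [local instance] HasDerivedCategory.standard

namespace Groth.Agent.PerfC.LpullTens

open DCoh Groth.Agent.PerfC.DInd Groth.Agent.PerfC.DBif Groth.Agent.PerfC.IsoLocus
  Groth.Agent.PerfC.TensFlip Groth.Agent.PerfC.DTens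

variable {X Y : Scheme.{u}}

/-- `- ⊗ᴸ O⟦n⟧` is an equivalence. -/
theorem isEquivalence_flip_obj (n : ℤ) (I : D X) (i : (DerivedCategory.Q.obj (unitCx X))⟦n⟧ ≅ I) :
    ((LTX X).flip.obj I).IsEquivalence :=
  DBifShift.isEquivalence (bifData X) tensorBi tensorCx_eq (unitCx X) nonempty_rCx.some n I i

variable (f : X ⟶ Y) [HasLpull f] [HasRpush f]

/-- The projection map is an isomorphism for `P = O_Y⟦n⟧`. -/
theorem isIso_theta_shift (E : D X) (n : ℤ) :
    IsIso ((theta f E).app ((DerivedCategory.Q.obj (unitCx Y))⟦n⟧)) := by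
  let _ := Groth.Agent.Dcoh.DerPull.lpullCommShift f
  exact ProjMap.isIso_theta_of_isEquivalence (Groth.Agent.Dcoh.DerPull.lpullAdj f) (lpullTens f).hom _
    (isEquivalence_flip_obj n _ (Iso.refl _))
    (isEquivalence_flip_obj n _ ((shiftFunctor _ n).mapIso (lpullUnit f).symm ≪≫
      (((Lpull f).commShiftIso n).app (DerivedCategory.Q.obj (unitCx Y))).symm))
    (fun _ => inferInstance) E

end Groth.Agent.PerfC.LpullTens
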