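import Groth.Agent.Ega1.TildePullback
import Groth.Agent.PerfB.TildeExact

/-!
# Direct image of the sheaf associated to a module along `Spec S ⟶ Spec R`
-/

set_option autoImplicit false
universe u

open AlgebraicGeometry CategoryTheory CategoryTheory.Limits Opposite TopologicalSpace

namespace Groth.Agent.PerfC.TildePush

variable {R S : CommRingCat.{u}} (φ : R ⟶ S)

lemma isIso_whisker : IsIso (Functor.whiskerLeft (tilde.functor S ⋙ Scheme.Modules.pushforward (Spec.map φ))
    (Scheme.Modules.fromTildeΓNatTrans (R := R))) := by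
  rw [NatTrans.isIso_iff_isIso_app]
  intro N
  have : IsIso ((tilde.functor S).obj N).fromTildeΓ := inferInstance
  exact isIso_fromTildeΓ_pushforward φ ((tilde.functor S).obj N)

/-- `f_* (N~) = (N_R)~` for `f = Spec φ`. -/
noncomputable def tildePushIso :
    tilde.functor S ⋙ Scheme.Modules.pushforward (Spec.map φ) ≅
      ModuleCat.restrictScalars φ.hom ⋙ tilde.functor R :=
  haveI := isIso_whisker φ
  (Functor.rightUnitor _).symm ≪≫
    (asIso (Functor.whiskerLeft (tilde.functor S ⋙ Scheme.Modules.pushforward (Spec.map φ))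
      (Scheme.Modules.fromTildeΓNatTrans (R := R)))).symm ≪≫
    (Functor.associator _ _ _) ≪≫
    Functor.isoWhiskerLeft (tilde.functor S)
      ((Functor.associator _ _ _).symm ≪≫
        Functor.isoWhiskerRight (Ega1.TildePullback.pushforwardCompΓIso φ) (tilde.functor R) ≪≫
          Functor.associator _ _ _) ≪≫
    (Functor.associator _ _ _).symm ≪≫
    Functor.isoWhiskerRight (tilde.toTildeΓNatIso (R := S)).symm
      (ModuleCat.restrictScalars φ.hom ⋙ tilde.functor R) ≪≫ Functor.leftUnitor _

end Groth.Agent.PerfC.TildePush
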