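import Groth.Agent.S1035
import Groth.Agent.S0028
import Groth.Agent.Dcoh.DerSch
import Groth.Agent.Ega4B.RpushCompare
import Groth.Agent.PerfC.TildePush
import Groth.Agent.PerfA.TildeMain

/-!
# `Rf_*` for affine morphisms, on complexes of quasi-coherent modules
-/

set_option autoImplicit false
universe u

open AlgebraicGeometry CategoryTheory CategoryTheory.Limits Opposite TopologicalSpace
attribute [local instance] HasDerivedCategory.standard

namespace Groth.Agent.PerfC.RpushAffine

open Dcoh.DerSch Dcoh.DerComp

variable {X Y : Scheme.{u}} (f : X ⟶ Y)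

/-- Quasi-coherent modules are acyclic for affine morphisms. -/
lemma isZero_Rpush [IsAffineHom f] [HasInjectiveResolutions X.Modules] (M : X.Modules)
    (hM : Coh.IsQCoh M) (i : ℕ) (hi : 0 < i) : IsZero ((Coh.Rpush f i).obj M) :=
  (Ega4B.RpushCompare.isZero_rpush_iff f M i).2 (S0028.result f M i hi)

/-- For `f` affine and `K` a complex of quasi-coherent modules, `Rf_* K = f_* K`. -/
noncomputable def rpushIsoOfQCoh [IsAffineHom f] [DCoh.HasRpush f]
    (K : CochainComplex X.Modules ℤ) (hK : ∀ n, Coh.IsQCoh (K.X n)) :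
    (DCoh.Rpush f).obj (DerivedCategory.Q.obj K) ≅
      DerivedCategory.Q.obj (((Scheme.Modules.pushforward f).mapHomologicalComplex
        (ComplexShape.up ℤ)).obj K) :=
  haveI := hasInjectiveResolutions X
  haveI : IsIso ((rpushUnit f).app ((HomotopyCategory.quotient _ _).obj K)) :=
    S1035.result f K hK (fun n i hi => isZero_Rpush f _ (hK n) i hi)
  haveI : IsIso ((rpushUnitQ f).app K) := isIso_unitQ_app _ _ _ _ this
  (asIso ((rpushUnitQ f).app K)).symm

section Spec

variable {R S : CommRingCat.{u}} (φ : R ⟶ S)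

instance additive_res : (ModuleCat.restrictScalars.{u} φ.hom).Additive := inferInstance
instance preservesFiniteLimits_res : PreservesFiniteLimits (ModuleCat.restrictScalars.{u} φ.hom) :=
  inferInstance
instance preservesFiniteColimits_res :
    PreservesFiniteColimits (ModuleCat.restrictScalars.{u} φ.hom) := inferInstance

/-- `N ↦ (N_R)~` for a ring map `R ⟶ S`. -/
noncomputable def resTilde : ModuleCat.{u} S ⥤ (Spec R).Modules :=
  ModuleCat.restrictScalars.{u} φ.hom ⋙ tilde.functor R

instance : (resTilde φ).Additive where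
  map_add := by
    intro M N f g
    change tilde.map ((ModuleCat.restrictScalars.{u} φ.hom).map (f + g)) = _
    rw [Functor.map_add, tilde.map_add]
    rfl

instance : PreservesFiniteLimits (resTilde φ) :=
  comp_preservesFiniteLimits (ModuleCat.restrictScalars.{u} φ.hom) (tilde.functor R)

instance : PreservesFiniteColimits (resTilde φ) :=
  comp_preservesFiniteColimits (ModuleCat.restrictScalars.{u} φ.hom) (tilde.functor R)

/-- `Rf_* (M~) = (M_R)~` for `f = Spec φ` and `M ∈ D(S)`. -/
theorem exists_iso_Rpush_tilde [DCoh.HasRpush (Spec.map φ)]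
    (M : DerivedCategory (ModuleCat.{u} S)) :
    Nonempty ((DCoh.Rpush (Spec.map φ)).obj ((tilde.functor S).mapDerivedCategory.obj M) ≅
      (resTilde φ).mapDerivedCategory.obj M) := by
  let K := DerivedCategory.Q.objPreimage M
  let e : DerivedCategory.Q.obj K ≅ M := DerivedCategory.Q.objObjPreimageIso M
  let T := ((tilde.functor S).mapHomologicalComplex (ComplexShape.up ℤ)).obj K
  have h1 : (tilde.functor S).mapDerivedCategory.obj M ≅ DerivedCategory.Q.obj T :=
    (tilde.functor S).mapDerivedCategory.mapIso e.symm ≪≫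
      (tilde.functor S).mapDerivedCategoryFactors.app K
  have h2 := rpushIsoOfQCoh (Spec.map φ) T (fun n => inferInstanceAs
    ((tilde.functor S).obj (K.X n)).IsQuasicoherent)
  have h3 : ((Scheme.Modules.pushforward (Spec.map φ)).mapHomologicalComplex
        (ComplexShape.up ℤ)).obj T ≅
      ((resTilde φ).mapHomologicalComplex (ComplexShape.up ℤ)).obj K :=
    (NatIso.mapHomologicalComplex (G := resTilde φ) (TildePush.tildePushIso φ)
      (ComplexShape.up ℤ)).app K
  exact ⟨(DCoh.Rpush (Spec.map φ)).mapIso h1 ≪≫ h2 ≪≫ DerivedCategory.Q.mapIso h3 ≪≫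
    (resTilde φ).mapDerivedCategoryFactors.symm.app K ≪≫
      (resTilde φ).mapDerivedCategory.mapIso e⟩

end Spec

end Groth.Agent.PerfC.RpushAffine
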