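import Groth.Agent.PerfC.SuppGen
import Groth.Agent.PerfA.OpenPush
import Groth.Agent.Dcoh.DerSch
import Groth.Agent.S0998

/-!
# Perfect generators of `D_{QCoh,T}(O_X)` on quasi-compact quasi-separated schemes
-/

set_option autoImplicit false
universe u
open CategoryTheory CategoryTheory.Limits CategoryTheory.Pretriangulated AlgebraicGeometry
attribute [local instance] HasDerivedCategory.standard
open scoped ZeroObject

namespace Groth.Agent.PerfC.SuppGen
open Groth.Agent.PerfA.Restrict Groth.Agent.PerfA.PerfLocal Groth.Agent.PerfA.AffModel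
open Groth.Agent.PerfC.Excision Groth.Agent.PerfC.Supp Groth.Agent.PerfA Groth.Agent.PerfA.PerfTri

/-- Stacks 0A9A. -/
theorem exists_sgen_of_cover (n : ℕ) : ∀ (X : Scheme.{u}) [CompactSpace X] [QuasiSeparatedSpace X]
    (W : Fin n → X.Opens), (∀ i, IsAffineOpen (W i)) → (⨆ i, W i) = ⊤ →
    ∀ (T : Set X), IsClosed T → IsCompact Tᶜ → SGen X T := by
  induction n with
  | zero =>
    intro X _ _ W hW hcov T hT hTc
    have hX : ∀ x : X, False := by
      intro x
      have h1 : x ∈ (⊤ : X.Opens) := trivial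
      rw [← hcov, TopologicalSpace.Opens.mem_iSup] at h1
      obtain ⟨i, -⟩ := h1
      exact i.elim0
    refine ⟨0, isPerfect_of_isZero (isZero_zero _), fun i x _ => (hX x).elim, fun E _ _ _ => ?_⟩
    rw [isZero_iff_suppP_empty]
    exact fun i x _ => (hX x).elim
  | succ n ih =>
    intro X _ _ W hW hcov T hT hTc
    let U : X.Opens := ⨆ i : Fin n, W i.castSucc
    let V : X.Opens := W (Fin.last n)
    have hV : IsAffineOpen V := hW _
    have hUV : U ⊔ V = ⊤ := by
      rw [eq_top_iff, ← hcov, iSup_le_iff]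
      intro i
      refine Fin.lastCases ?_ (fun i => ?_) i
      · exact le_sup_right
      · exact (le_iSup (fun i : Fin n => W i.castSucc) i).trans le_sup_left
    have hU : IsCompact (U : Set X) := by
      rw [TopologicalSpace.Opens.coe_iSup]
      exact isCompact_iUnion fun i => (hW _).isCompact
    have hcU : CompactSpace (U : Scheme.{u}) := isCompact_iff_compactSpace.1 hU
    have hqU : QuasiSeparatedSpace (U : Scheme.{u}) :=
      QuasiSeparatedSpace.of_isOpenEmbedding U.ι.isOpenEmbedding
    have hUT : IsCompact ((U : Set X) ∩ Tᶜ) :=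
      QuasiSeparatedSpace.inter_isCompact _ _ U.isOpen hU hT.isOpen_compl hTc
    have hVT : IsCompact ((V : Set X) ∩ (T ∩ (U : Set X)ᶜ)ᶜ) := by
      rw [Set.compl_inter, compl_compl, Set.inter_union_distrib_left]
      exact (QuasiSeparatedSpace.inter_isCompact _ _ V.isOpen hV.isCompact
        hT.isOpen_compl hTc).union
        (QuasiSeparatedSpace.inter_isCompact _ _ V.isOpen hV.isCompact U.isOpen hU)
    have hpre : ∀ (O : X.Opens) (S : Set X), IsCompact ((O : Set X) ∩ S) →
        IsCompact (O.ι ⁻¹' S) := by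
      intro O S hS
      have h1 : O.ι '' (O.ι ⁻¹' S) = (O : Set X) ∩ S := by
        rw [Set.image_preimage_eq_inter_range, Set.inter_comm]
        congr 1
        exact O.range_ι
      exact (O.ι.isOpenEmbedding.isEmbedding.isCompact_iff).2 (h1 ▸ hS)
    have hgU := ih (U : Scheme.{u}) (fun i => U.ι ⁻¹ᵁ W i.castSucc) (fun i =>
        (hW _).preimage_of_isOpenImmersion U.ι (by
          rw [Scheme.Opens.opensRange_ι]
          exact le_iSup (fun i : Fin n => W i.castSucc) i)) (by
        rw [← Scheme.Hom.preimage_iSup, eq_top_iff]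
        intro x _
        exact x.2) (U.ι ⁻¹' T) (hT.preimage U.ι.continuous) (hpre U _ hUT)
    have hVa : IsAffine (V : Scheme.{u}) := hV
    have hgV := sgen_of_isAffine (V : Scheme.{u}) (T := V.ι ⁻¹' (T ∩ (U : Set X)ᶜ))
      ((hT.inter U.isOpen.isClosed_compl).preimage V.ι.continuous) (hpre V _ hVT)
    have : DCoh.HasRpush U.ι := Groth.Agent.Dcoh.DerSch.hasRpush U.ι
    have : QuasiCompact U.ι := inferInstance
    exact sgen_step U V hUV hU T hT hTc (DCoh.Rpush U.ι)
      (Groth.Agent.PerfA.OpenPush.restrictRpushAdj U.ι) (fun K hK => Groth.Agent.S0998.result U.ι K hK) hgU hgV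

/-- Stacks 0A9A. -/
theorem sgen (X : Scheme.{u}) [CompactSpace X] [QuasiSeparatedSpace X] (T : Set X) (hT : IsClosed T)
    (hTc : IsCompact Tᶜ) : SGen X T := by
  obtain ⟨s, hs, hs'⟩ := (isCompact_and_isOpen_iff_finite_and_eq_biUnion_affineOpens
    (X := X) (U := Set.univ)).1 ⟨isCompact_univ, isOpen_univ⟩
  have := hs.to_subtype
  obtain ⟨n, ⟨e⟩⟩ := Finite.exists_equiv_fin s
  exact exists_sgen_of_cover n X (fun i => (e.symm i).1.1) (fun i => (e.symm i).1.2) (by
      refine top_unique fun x _ => ?_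
      have hx : x ∈ (Set.univ : Set X) := Set.mem_univ x
      rw [hs'] at hx
      simp only [Set.mem_iUnion] at hx
      obtain ⟨i, hi, hx⟩ := hx
      refine TopologicalSpace.Opens.mem_iSup.2 ⟨e ⟨i, hi⟩, ?_⟩
      simpa using hx) T hT hTc

end Groth.Agent.PerfC.SuppGen
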