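import Groth.Agent.Fdesc.PullbackStalk
import Groth.Agent.CycB.StalkExact
import Groth.Agent.PerfA.Restrict
import Mathlib.AlgebraicGeometry.Morphisms.Flat
import Mathlib.RingTheory.Flat.FaithfullyFlat.Algebra

/-!
# Pullback of modules along flat morphisms: exactness, faithfulness
-/

set_option autoImplicit false
set_option linter.style.haveILetI false
universe u
open CategoryTheory CategoryTheory.Limits AlgebraicGeometry TopologicalSpace

namespace Groth.Agent.PerfC.FlatExact
open AlgebraicGeometry.Scheme.Modules Groth.Agent.PerfA.Restrict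
open Groth.Agent.CycB.StalkExact Groth.Agent.Fdesc.PullbackStalk

variable {X Y : Scheme.{u}}

lemma isZero_iff_subsingleton_stalk (M : X.Modules) :
    IsZero M ↔ ∀ x : X, Subsingleton (M.presheaf.stalk x) := by
  rw [isZero_iff_stalk]
  exact forall_congr' fun x => AddCommGrpCat.isZero_iff_subsingleton

lemma mono_iff_stalkLin {M N : X.Modules} (φ : M ⟶ N) :
    Mono φ ↔ ∀ x : X, Function.Injective (stalkLin φ x) := by
  refine ⟨fun _ x => stalkLin_injective φ x, fun h => ?_⟩
  have h0 : IsZero (kernel φ) := by
    rw [isZero_iff_subsingleton_stalk]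
    intro x
    refine ⟨fun a b => ?_⟩
    have key : ∀ a : (kernel φ).presheaf.stalk x, a = 0 := by
      intro a
      apply stalkLin_injective (kernel.ι φ) x
      apply h x
      have : stalkLin φ x (stalkLin (kernel.ι φ) x a) = stalkLin (kernel.ι φ ≫ φ) x a := by
        rw [stalkLin_comp]; rfl
      rw [this, kernel.condition, map_zero, map_zero]
      change ((stalkFun x).map (0 : kernel φ ⟶ N)).hom a = 0
      rw [Functor.map_zero]
      rfl
    rw [key a, key b]
  exact Preadditive.mono_of_isZero_kernel φ h0

lemma epi_iff_stalkLin {M N : X.Modules} (φ : M ⟶ N) :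
    Epi φ ↔ ∀ x : X, Function.Surjective (stalkLin φ x) := by
  refine ⟨fun _ x => stalkLin_surjective φ x, fun h => ?_⟩
  have h0 : IsZero (cokernel φ) := by
    rw [isZero_iff_subsingleton_stalk]
    intro x
    refine ⟨fun a b => ?_⟩
    have key : ∀ a : (cokernel φ).presheaf.stalk x, a = 0 := by
      intro a
      obtain ⟨a, rfl⟩ := stalkLin_surjective (cokernel.π φ) x a
      obtain ⟨a, rfl⟩ := h x a
      have : stalkLin (cokernel.π φ) x (stalkLin φ x a) = stalkLin (φ ≫ cokernel.π φ) x a := by
        rw [stalkLin_comp]; rfl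
      rw [this, cokernel.condition]
      change ((stalkFun x).map (0 : M ⟶ cokernel φ)).hom a = 0
      rw [Functor.map_zero]
      rfl
    rw [key a, key b]
  exact Preadditive.epi_of_isZero_cokernel φ h0

section Flat

open TensorProduct

variable (f : X ⟶ Y)

lemma stalkLin_pullback {M N : Y.Modules} (φ : M ⟶ N) (x : X) :
    letI := stalkAlg f x
    ∀ t : X.presheaf.stalk x ⊗[Y.presheaf.stalk (f.base x)] M.presheaf.stalk (f.base x),
    stalkLin ((Scheme.Modules.pullback f).map φ) x (stalkPullbackEquiv f M x t) =
      stalkPullbackEquiv f N x ((stalkLin φ (f.base x)).lTensor _ t) := by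
  letI := stalkAlg f x
  intro t
  induction t using TensorProduct.induction_on with
  | zero => simp only [map_zero]
  | add a b ha hb => simp only [map_add, ha, hb]
  | tmul a m =>
    rw [LinearMap.lTensor_tmul, stalkPullbackEquiv_tmul, stalkPullbackEquiv_tmul,
      LinearMap.map_smul]
    congr 1
    exact stalkMap_pullback_canAdd f φ x m

variable [Flat f]

lemma flat_stalkAlg (x : X) :
    letI := stalkAlg f x
    Module.Flat (Y.presheaf.stalk (f.base x)) (X.presheaf.stalk x) :=
  Flat.stalkMap f x

lemma faithfullyFlat_stalkAlg (x : X) :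
    letI := stalkAlg f x
    Module.FaithfullyFlat (Y.presheaf.stalk (f.base x)) (X.presheaf.stalk x) :=
  letI := stalkAlg f x
  @Module.FaithfullyFlat.of_flat_of_isLocalHom _ _ _ _ _ _ _
      (Flat.stalkMap f x) (f.toLRSHom.prop x)

lemma mono_pullback_map {M N : Y.Modules} (φ : M ⟶ N) [Mono φ] :
    Mono ((Scheme.Modules.pullback f).map φ) := by
  rw [mono_iff_stalkLin]
  intro x
  letI := stalkAlg f x
  haveI := flat_stalkAlg f x
  intro a b hab
  obtain ⟨a, rfl⟩ := (stalkPullbackEquiv f M x).surjective a
  obtain ⟨b, rfl⟩ := (stalkPullbackEquiv f M x).surjective b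
  rw [stalkLin_pullback, stalkLin_pullback, EmbeddingLike.apply_eq_iff_eq] at hab
  congr 1
  exact Module.Flat.lTensor_preserves_injective_linearMap _
    (stalkLin_injective φ (f.base x)) hab

/-- Pullback along a flat morphism is exact. -/
theorem preservesFiniteLimits_pullback :
    PreservesFiniteLimits (Scheme.Modules.pullback f) := by
  have h := (Functor.preservesFiniteColimits_iff_forall_exact_map_and_epi
    (Scheme.Modules.pullback f)).1 inferInstance
  refine (Functor.preservesFiniteLimits_iff_forall_exact_map_and_mono
    (Scheme.Modules.pullback f)).2 fun S hS => ⟨(h S hS).1, ?_⟩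
  have := hS.mono_f
  exact mono_pullback_map f S.f

lemma subsingleton_stalk_of_pullback (M : Y.Modules) (x : X)
    (h : Subsingleton (((Scheme.Modules.pullback f).obj M).presheaf.stalk x)) :
    Subsingleton (M.presheaf.stalk (f.base x)) := by
  letI := stalkAlg f x
  haveI := faithfullyFlat_stalkAlg f x
  have : Subsingleton
      (X.presheaf.stalk x ⊗[Y.presheaf.stalk (f.base x)] M.presheaf.stalk (f.base x)) :=
    (stalkPullbackEquiv f M x).toEquiv.subsingleton
  exact Module.FaithfullyFlat.lTensor_reflects_triviality (Y.presheaf.stalk (f.base x))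
    (X.presheaf.stalk x) (M.presheaf.stalk (f.base x))

lemma subsingleton_stalk_pullback (f : X ⟶ Y) (M : Y.Modules) (x : X)
    (h : Subsingleton (M.presheaf.stalk (f.base x))) :
    Subsingleton (((Scheme.Modules.pullback f).obj M).presheaf.stalk x) := by
  letI := stalkAlg f x
  have : Subsingleton
      (X.presheaf.stalk x ⊗[Y.presheaf.stalk (f.base x)] M.presheaf.stalk (f.base x)) := by
    refine ⟨fun a b => ?_⟩
    have key : ∀ a : X.presheaf.stalk x ⊗[Y.presheaf.stalk (f.base x)]
        M.presheaf.stalk (f.base x), a = 0 := fun a => by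
      induction a using TensorProduct.induction_on with
      | zero => rfl
      | add a b ha hb => rw [ha, hb, add_zero]
      | tmul a m => rw [Subsingleton.elim m 0, TensorProduct.tmul_zero]
    rw [key a, key b]
  exact (stalkPullbackEquiv f M x).symm.toEquiv.subsingleton

/-- Pullback along a flat surjective morphism reflects zero objects. -/
lemma isZero_of_pullback [Surjective f] (M : Y.Modules)
    (h : IsZero ((Scheme.Modules.pullback f).obj M)) : IsZero M := by
  rw [isZero_iff_subsingleton_stalk] at h ⊢
  intro y
  obtain ⟨x, rfl⟩ := f.surjective y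
  exact subsingleton_stalk_of_pullback f M x (h x)

end Flat

end Groth.Agent.PerfC.FlatExact
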