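import Groth.Agent.PerfC.InjFlasque
import Groth.Agent.PerfB.QCohLocal
import Groth.Agent.PerfB.TildeExact
import Groth.Agent.PerfA.Restrict
import Groth.Agent.Ega1.QcqsPush

/-!
# Injective quasi-coherent modules on a Noetherian scheme

On a Noetherian scheme every quasi-coherent module embeds into a finite direct sum of modules
`j_* (I~)` with `j : Spec A ⟶ X` an affine open immersion and `I` an injective `A`-module.
-/

set_option autoImplicit false
universe u

open CategoryTheory CategoryTheory.Limits AlgebraicGeometry Opposite TopologicalSpace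

namespace Groth.Agent.PerfC.QCohInj

open Scheme.Modules InjFlasque

/-- A finite family of affine opens covering a quasi-compact scheme. -/
theorem exists_finite_affine_cover (X : Scheme.{u}) [CompactSpace X] :
    ∃ (ι : Type) (_ : Finite ι) (U : ι → X.affineOpens), ∀ x : X, ∃ i, x ∈ (U i).1 := by
  obtain ⟨s, hs, h⟩ := (isCompact_iff_finite_and_eq_biUnion_affineOpens (X := X) (U := ⊤)).1
    isCompact_univ
  have := hs.to_subtype
  obtain ⟨n, ⟨e⟩⟩ := Finite.exists_equiv_fin s
  refine ⟨Fin n, inferInstance, fun i => (e.symm i).1, fun x => ?_⟩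
  have hx : x ∈ (⊤ : X.Opens) := trivial
  rw [h] at hx
  simp only [Opens.mem_iSup] at hx
  obtain ⟨i, hi, hx⟩ := hx
  exact ⟨e ⟨i, hi⟩, by simpa using hx⟩

variable {X : Scheme.{u}}

section Local

variable {R : CommRingCat.{u}} (j : Spec R ⟶ X) [IsOpenImmersion j] (M : X.Modules)

/-- The module of sections of `M` over the affine open `j`. -/
noncomputable abbrev secMod : ModuleCat.{u} R := moduleSpecΓFunctor.obj (M.restrict j)

/-- `M|_{Spec R} ⟶ I~`, with `I` an injective hull of the module of sections. -/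
noncomputable def locInj (hM : Coh.IsQCoh M) :
    M.restrict j ⟶ (tilde.functor R).obj (Injective.under (secMod j M)) :=
  (PerfB.QCohLocal.tildeΓIso (M.restrict j) (PerfB.QCohLocal.isQCoh_restrict j M hM)).inv ≫
    (tilde.functor R).map (Injective.ι (secMod j M))

instance mono_locInj (hM : Coh.IsQCoh M) : Mono (locInj j M hM) := by
  have : Mono ((tilde.functor R).map (Injective.ι (secMod j M))) :=
    (tilde.functor R).map_mono _
  dsimp only [locInj]
  infer_instance

/-- The corresponding map `M ⟶ j_* (I~)`. -/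
noncomputable def toPush (hM : Coh.IsQCoh M) :
    M ⟶ (pushforward j).obj ((tilde.functor R).obj (Injective.under (secMod j M))) :=
  (restrictAdjunction j).homEquiv _ _ (locInj j M hM)

theorem restrict_map_toPush (hM : Coh.IsQCoh M) :
    (restrictFunctor j).map (toPush j M hM) ≫ (restrictAdjunction j).counit.app _ = locInj j M hM :=
  ((restrictAdjunction j).homEquiv_counit _ _ _).symm.trans (Equiv.symm_apply_apply _ _)

instance mono_restrict_toPush (hM : Coh.IsQCoh M) : Mono ((restrictFunctor j).map (toPush j M hM)) := by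
  have : Mono ((restrictFunctor j).map (toPush j M hM) ≫ (restrictAdjunction j).counit.app _) := by
    rw [restrict_map_toPush]; infer_instance
  exact mono_of_mono _ ((restrictAdjunction j).counit.app _)

end Local

/-- `j_* (M~)` is quasi-coherent. -/
theorem isQCoh_push {R : CommRingCat.{u}} (j : Spec R ⟶ X) [QuasiCompact j] (I : ModuleCat.{u} R) :
    Coh.IsQCoh ((pushforward j).obj ((tilde.functor R).obj I)) := by
  exact Ega1.QcqsPush.isQCoh_pushforward j _ (inferInstanceAs ((tilde.functor R).obj I).IsQuasicoherent)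

theorem baer_tilde {R : CommRingCat.{u}} (I : ModuleCat.{u} R) [Injective I] :
    Module.Baer R Γ(tilde I, ⊤) := by
  have h1 : Module.Injective R I :=
    @Module.injective_module_of_injective_object R I _ _ _ (inferInstanceAs (Injective I))
  have h2 : Module.Baer R I := Module.Baer.of_injective h1
  exact h2.of_equiv (tilde.isoTop I).toLinearEquiv

/-- `I~` is flasque for `I` injective over the Noetherian ring `R`. -/
theorem tilde_map_surjective {R : CommRingCat.{u}} [IsNoetherianRing R] (I : ModuleCat.{u} R) [Injective I]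
    {U V : (Spec R).Opens} (hUV : U ≤ V) :
    Function.Surjective ((tilde I).presheaf.map (homOfLE hUV).op) := by
  intro s
  obtain ⟨t, rfl⟩ := surjective_of_baer (tilde I) (baer_tilde I) U s
  exact ⟨res (tilde I) le_top t, res_res (tilde I) hUV le_top t⟩

/-- `j_* (I~)` is flasque for `I` injective over the Noetherian ring `R`. -/
theorem push_map_surjective {R : CommRingCat.{u}} (j : Spec R ⟶ X) [IsNoetherianRing R] (I : ModuleCat.{u} R)
    [Injective I] {U V : X.Opens} (hUV : U ≤ V) :
    Function.Surjective (((pushforward j).obj ((tilde.functor R).obj I)).presheaf.map (homOfLE hUV).op) :=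
  tilde_map_surjective I (Scheme.Hom.preimage_mono j hUV)

/-- A finite product of quasi-coherent modules is quasi-coherent. -/
theorem isQCoh_pi {ι : Type} [Finite ι] (M : ι → X.Modules) (hM : ∀ i, Coh.IsQCoh (M i)) :
    Coh.IsQCoh (∏ᶜ M) := by
  have : HasFiniteBiproducts X.Modules := Abelian.hasFiniteBiproducts
  refine PerfB.QCohLocal.isQCoh_of_iso (biproduct.isoProduct M) ?_
  refine PerfB.QCohLocal.isQCoh_of_iso (biproduct.isoCoproduct M).symm ?_
  exact PerfB.QCohLocal.isQCoh_of_isColimit (Discrete.functor M) (fun i => hM i.as) _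
    (coproductIsCoproduct M)

/-- On a Noetherian scheme, every quasi-coherent module `M` embeds in a finite direct sum (again
quasi-coherent) of modules `j_* (I~)`, `I` injective, `j` an affine open immersion. -/
theorem exists_embedding [IsNoetherian X] (M : X.Modules) (hM : Coh.IsQCoh M) :
    ∃ (ι : Type) (_ : Finite ι) (R : ι → CommRingCat.{u}) (j : ∀ i, Spec (R i) ⟶ X)
      (_ : ∀ i, IsOpenImmersion (j i)) (_ : ∀ i, IsNoetherianRing (R i))
      (I : ∀ i, ModuleCat.{u} (R i)) (_ : ∀ i, Injective (I i))
      (φ : M ⟶ ∏ᶜ fun i => (pushforward (j i)).obj ((tilde.functor (R i)).obj (I i))),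
      Mono φ ∧ Coh.IsQCoh (∏ᶜ fun i => (pushforward (j i)).obj ((tilde.functor (R i)).obj (I i))) := by
  obtain ⟨ι, hι, U, hU⟩ := exists_finite_affine_cover X
  have hq : ∀ i, Coh.IsQCoh ((pushforward (U i).2.fromSpec).obj
      ((tilde.functor Γ(X, (U i).1)).obj (Injective.under (secMod (U i).2.fromSpec M)))) :=
    fun i => isQCoh_push _ _
  refine ⟨ι, hι, fun i => Γ(X, (U i).1), fun i => (U i).2.fromSpec, fun i => inferInstance,
    fun i => IsLocallyNoetherian.component_noetherian (U i),
    fun i => Injective.under (secMod (U i).2.fromSpec M), fun i => inferInstance,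
    Pi.lift fun i => toPush (U i).2.fromSpec M hM, ?_, ?_⟩
  · rw [Preadditive.mono_iff_isZero_kernel]
    refine PerfA.Restrict.isZero_of_restrict _ fun x => ?_
    obtain ⟨i, hi⟩ := hU x
    refine ⟨_, (U i).2.fromSpec, inferInstance, ?_⟩
    obtain ⟨y, hy⟩ : ∃ y, (U i).2.fromSpec y = x := by
      have : x ∈ Set.range (U i).2.fromSpec := by
        rw [(U i).2.range_fromSpec]; exact hi
      exact this
    refine ⟨y, hy, ?_⟩
    set φ : M ⟶ _ := Pi.lift fun i => toPush (U i).2.fromSpec M hM with hφ
    have h1 : kernel.ι φ ≫ toPush (U i).2.fromSpec M hM = 0 := by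
      have : φ ≫ Pi.π _ i = toPush (U i).2.fromSpec M hM := by simp [hφ]
      rw [← this, kernel.condition_assoc, zero_comp]
    have h2 : (restrictFunctor (U i).2.fromSpec).map (kernel.ι φ) = 0 := by
      rw [← cancel_mono ((restrictFunctor (U i).2.fromSpec).map (toPush (U i).2.fromSpec M hM)),
        ← Functor.map_comp, h1, Functor.map_zero, zero_comp]
    have h3 : Mono ((restrictFunctor (U i).2.fromSpec).map (kernel.ι φ)) := by
      have := PerfA.Restrict.preservesLimits_restrictFunctor (U i).2.fromSpec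
      infer_instance
    rw [IsZero.iff_id_eq_zero, ← cancel_mono ((restrictFunctor (U i).2.fromSpec).map (kernel.ι φ)),
      h2, comp_zero, comp_zero]
  · exact isQCoh_pi _ hq

/-- Restriction maps of an injective object of `QCoh(X)`, `X` Noetherian, are surjective. -/
theorem surjective_of_injective [IsNoetherian X]
    (J : ObjectProperty.FullSubcategory (fun M : X.Modules => Coh.IsQCoh M)) (hJ : Injective J)
    {U V : X.Opens} (hUV : U ≤ V) : Function.Surjective (J.obj.presheaf.map (homOfLE hUV).op) := by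
  obtain ⟨ι, hι, R, j, hj, hR, I, hI, φ, hφ, hq⟩ := exists_embedding J.obj J.property
  have := Fintype.ofFinite ι
  let P : ObjectProperty.FullSubcategory (fun M : X.Modules => Coh.IsQCoh M) := ⟨_, hq⟩
  let φ' : J ⟶ P := ⟨φ⟩
  have hφ' : Mono φ' := by
    have : Mono ((ObjectProperty.ι (fun M : X.Modules => Coh.IsQCoh M)).map φ') := hφ
    exact Functor.mono_of_mono_map _ this
  let r : P ⟶ J := Injective.factorThru (𝟙 J) φ'
  have hr : φ' ≫ r = 𝟙 J := Injective.comp_factorThru _ _
  have hr' : φ ≫ r.hom = 𝟙 J.obj := congrArg (fun f : J ⟶ J => f.hom) hr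
  intro s
  let F := fun i => (pushforward (j i)).obj ((tilde.functor (R i)).obj (I i))
  have hs : ∀ i, ∃ t : Γ(F i, V), (F i).presheaf.map (homOfLE hUV).op t = (φ ≫ Pi.π F i).app U s :=
    fun i => push_map_surjective (j i) (I i) hUV _
  choose t ht using hs
  have : HasFiniteBiproducts X.Modules := Abelian.hasFiniteBiproducts
  let inj : ∀ i, F i ⟶ ∏ᶜ F := fun i => biproduct.ι F i ≫ (biproduct.isoProduct F).hom
  have hid : ∑ i, Pi.π F i ≫ inj i = 𝟙 (∏ᶜ F) := by
    have h1 : ∀ i, (biproduct.isoProduct F).inv ≫ biproduct.π F i = Pi.π F i := fun i => by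
      simp [biproduct.isoProduct_inv]
    have h2 : ∑ i, biproduct.π F i ≫ biproduct.ι F i = 𝟙 (⨁ F) := biproduct.total
    calc ∑ i, Pi.π F i ≫ inj i = (biproduct.isoProduct F).inv ≫
          (∑ i, biproduct.π F i ≫ biproduct.ι F i) ≫ (biproduct.isoProduct F).hom := by
          simp only [Preadditive.comp_sum, Preadditive.sum_comp, inj, ← h1, Category.assoc]
      _ = 𝟙 (∏ᶜ F) := by rw [h2, Category.id_comp, Iso.inv_hom_id]
  refine ⟨∑ i, (inj i ≫ r.hom).app V (t i), ?_⟩
  have hnat : ∀ i, J.obj.presheaf.map (homOfLE hUV).op ((inj i ≫ r.hom).app V (t i)) =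
      (φ ≫ Pi.π F i ≫ inj i ≫ r.hom).app U s := by
    intro i
    have h3 := congr($((inj i ≫ r.hom).mapPresheaf.naturality (homOfLE hUV).op) (t i))
    refine Eq.trans h3.symm ?_
    change (inj i ≫ r.hom).app U ((F i).presheaf.map (homOfLE hUV).op (t i)) = _
    rw [ht]
    rfl
  rw [map_sum]
  simp only [hnat]
  have h4 : ∑ i, φ ≫ Pi.π F i ≫ inj i ≫ r.hom = 𝟙 J.obj := by
    calc ∑ i, φ ≫ Pi.π F i ≫ inj i ≫ r.hom = φ ≫ (∑ i, Pi.π F i ≫ inj i) ≫ r.hom := by
          simp only [Preadditive.comp_sum, Preadditive.sum_comp, Category.assoc]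
      _ = 𝟙 J.obj := by rw [hid, Category.id_comp]; exact hr'
  have h5 : ∀ (S : Finset ι) (ψ : ι → (J.obj ⟶ J.obj)), (∑ i ∈ S, ψ i).app U s = ∑ i ∈ S, (ψ i).app U s := by
    classical
    intro S ψ
    induction S using Finset.induction_on with
    | empty => simp
    | insert a S ha ih => rw [Finset.sum_insert ha, Finset.sum_insert ha, Hom.add_app, ← ih]; rfl
  rw [← h5 Finset.univ, h4]
  rfl

end Groth.Agent.PerfC.QCohInj
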