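import Groth.Prelude.Def_DCoh2
import Groth.Agent.Etrest.RDer3
import Groth.Agent.S0476
import Groth.Agent.S0484

/-!
# `Rf_*` on `D(O_X)`: triangulated, left t-exact, long exact sequences

`Rf_*` (the frozen `DCoh.Rpush f`) is isomorphic to the triangulated functor `RDer3.TR (f_*)`.  Consequences:
distinguished triangles of `D(O_X)` give distinguished triangles (`exists_triangle`),
`Rf_*` maps `D^{≥ a}` to `D^{≥ a}` (`isGE_Rpush`), and a morphism which is an isomorphism on `H^i` for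
`i ≤ n` (with cone in `D^{≥ n+1}`) remains an isomorphism on `H^i` for `i ≤ n` (`isIso_HRpush`).
-/

set_option autoImplicit false

universe u

open CategoryTheory CategoryTheory.Limits AlgebraicGeometry Pretriangulated
attribute [local instance] HasDerivedCategory.standard

namespace Groth.Agent.PerfC.RpushTrunc

open Groth.Agent.Etrest

variable {X Y : Scheme.{u}}

variable (X) in
theorem isGrothendieckAbelian : IsGrothendieckAbelian.{u} X.Modules :=
  Groth.Agent.S0484.result _ X.ringCatSheaf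

variable (X) in
theorem hasKInj : RDer3.HasKInj X.Modules where
  out K := by
    have := isGrothendieckAbelian X
    obtain ⟨I, f, h1, h2, -⟩ := Groth.Agent.S0476.result K
    exact ⟨I, f, h1, h2⟩

variable (X) in
theorem enoughInjectives : EnoughInjectives X.Modules := by
  have := isGrothendieckAbelian X
  infer_instance

/-- The triangulated model of `Rf_*`. -/
noncomputable def RT (f : X ⟶ Y) : DCoh.D X ⥤ DCoh.D Y :=
  haveI := hasKInj X
  RDer3.TR (Scheme.Modules.pushforward f)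

noncomputable instance (f : X ⟶ Y) : (RT f).CommShift ℤ := by
  have := hasKInj X
  dsimp only [RT]
  infer_instance

instance (f : X ⟶ Y) : (RT f).IsTriangulated := by
  have := hasKInj X
  exact inferInstanceAs (RDer3.TR (Scheme.Modules.pushforward f)).IsTriangulated

/-- `Rf_* ≅ RT f`. -/
noncomputable def rpushIso (f : X ⟶ Y) [DCoh.HasRpush f] : DCoh.Rpush f ≅ RT f :=
  haveI := hasKInj X
  RDer3.TRIso (Scheme.Modules.pushforward f)

theorem isGE_of_iso {K L : DCoh.D X} (e : K ≅ L) (a : ℤ) [K.IsGE a] : L.IsGE a :=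
  @CategoryTheory.Triangulated.TStructure.isGE_of_iso _ _ _ _ _ _ _ DerivedCategory.TStructure.t
    _ _ e a inferInstance

/-- `Rf_*` maps `D^{≥ a}(O_X)` to `D^{≥ a}(O_Y)`. -/
theorem isGE_RT (f : X ⟶ Y) (K : DCoh.D X) (a : ℤ) [K.IsGE a] : ((RT f).obj K).IsGE a := by
  have := hasKInj X
  have := enoughInjectives X
  exact RDer3.TR_isGE (Scheme.Modules.pushforward f) K a

/-- `Rf_*` maps `D^{≥ a}(O_X)` to `D^{≥ a}(O_Y)`. -/
theorem isGE_Rpush (f : X ⟶ Y) [DCoh.HasRpush f] (K : DCoh.D X) (a : ℤ) [K.IsGE a] :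
    ((DCoh.Rpush f).obj K).IsGE a := by
  have := isGE_RT f K a
  exact isGE_of_iso ((rpushIso f).app K).symm a

/-- `Rf_*` maps distinguished triangles to distinguished triangles. -/
theorem exists_triangle (f : X ⟶ Y) [DCoh.HasRpush f] {A B C : DCoh.D X} (u : A ⟶ B) (v : B ⟶ C)
    (w : C ⟶ A⟦(1 : ℤ)⟧) (hT : Triangle.mk u v w ∈ distTriang (DCoh.D X)) :
    ∃ w' : (DCoh.Rpush f).obj C ⟶ ((DCoh.Rpush f).obj A)⟦(1 : ℤ)⟧,
      Triangle.mk ((DCoh.Rpush f).map u) ((DCoh.Rpush f).map v) w' ∈ distTriang (DCoh.D Y) := by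
  have h := (RT f).map_distinguished _ hT
  refine ⟨(rpushIso f).hom.app C ≫ (RT f).map w ≫ ((RT f).commShiftIso (1 : ℤ)).hom.app A ≫
    ((rpushIso f).inv.app A)⟦(1 : ℤ)⟧', ?_⟩
  refine isomorphic_distinguished _ h _ ?_
  refine Triangle.isoMk _ _ ((rpushIso f).app A) ((rpushIso f).app B) ((rpushIso f).app C) ?_ ?_ ?_
  · exact (rpushIso f).hom.naturality u
  · exact (rpushIso f).hom.naturality v
  · change ((rpushIso f).hom.app C ≫ (RT f).map w ≫ ((RT f).commShiftIso (1 : ℤ)).hom.app A ≫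
      ((rpushIso f).inv.app A)⟦(1 : ℤ)⟧') ≫ ((rpushIso f).hom.app A)⟦(1 : ℤ)⟧' =
      (rpushIso f).hom.app C ≫ (RT f).map w ≫ ((RT f).commShiftIso (1 : ℤ)).hom.app A
    have h1 : ((rpushIso f).inv.app A)⟦(1 : ℤ)⟧' ≫ ((rpushIso f).hom.app A)⟦(1 : ℤ)⟧' = 𝟙 _ := by
      rw [← Functor.map_comp, Iso.inv_hom_id_app, CategoryTheory.Functor.map_id]
    rw [Category.assoc, Category.assoc, Category.assoc, h1]
    erw [Category.comp_id]

/-- If `A → B → C` is a triangle with `C ∈ D^{≥ n + 1}` then `H^i(Rf_* A) → H^i(Rf_* B)` is an isomorphism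
for `i ≤ n`. -/
theorem isIso_HRpush (f : X ⟶ Y) [DCoh.HasRpush f] {A B C : DCoh.D X} (u : A ⟶ B) (v : B ⟶ C)
    (w : C ⟶ A⟦(1 : ℤ)⟧) (hT : Triangle.mk u v w ∈ distTriang (DCoh.D X)) (n : ℤ) [C.IsGE (n + 1)]
    (i : ℤ) (hi : i ≤ n) :
    IsIso ((DerivedCategory.homologyFunctor Y.Modules i).map ((DCoh.Rpush f).map u)) := by
  obtain ⟨w', hT'⟩ := exists_triangle f u v w hT
  have h0 := isGE_Rpush f C (n + 1)
  have h0' : ∀ j : ℤ, j < n + 1 →
      IsZero ((DerivedCategory.homologyFunctor Y.Modules j).obj ((DCoh.Rpush f).obj C)) :=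
    fun j hj => DerivedCategory.isZero_of_isGE _ (n + 1) j hj
  have h1 : Mono ((DerivedCategory.homologyFunctor Y.Modules i).map ((DCoh.Rpush f).map u)) :=
    (DerivedCategory.HomologySequence.mono_homologyMap_mor₁_iff _ hT' (i - 1) i (by lia)).2
      ((h0' (i - 1) (by lia)).eq_of_src _ _)
  have h2 : Epi ((DerivedCategory.homologyFunctor Y.Modules i).map ((DCoh.Rpush f).map u)) :=
    (DerivedCategory.HomologySequence.epi_homologyMap_mor₁_iff _ hT' i).2
      ((h0' i (by lia)).eq_of_tgt _ _)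
  exact isIso_of_mono_of_epi _

end Groth.Agent.PerfC.RpushTrunc
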