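import Groth.Agent.PerfC.ApproxStep

/-!
# Approximation by perfect complexes holds on quasi-compact quasi-separated schemes
-/

set_option autoImplicit false
universe u
open CategoryTheory CategoryTheory.Limits AlgebraicGeometry Pretriangulated
attribute [local instance] HasDerivedCategory.standard

namespace Groth.Agent.PerfC.ApproxMain
open Groth.Agent.PerfC.Supp Groth.Agent.PerfC Groth.Agent.PerfC.Approx

/-- Stacks 08ES. -/
theorem exists_appR_of_cover (n : ℕ) : ∀ (X : Scheme.{u}) [CompactSpace X] [QuasiSeparatedSpace X]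
    (W : Fin n → X.Opens), (∀ i, IsAffineOpen (W i)) → (⨆ i, W i) = ⊤ →
    ∀ (T : Set X), IsClosed T → IsCompact Tᶜ → ∃ r : ℕ, AppR X T r := by
  induction n with
  | zero =>
    intro X _ _ W hW hcov T hT hTc
    refine ⟨0, fun m E _ _ _ => app_of_isZero fun i _ => ?_⟩
    rw [← supp_eq_empty_iff, Set.eq_empty_iff_forall_notMem]
    intro x
    have h1 : x ∈ (⊤ : X.Opens) := trivial
    rw [← hcov, TopologicalSpace.Opens.mem_iSup] at h1
    obtain ⟨i, -⟩ := h1
    exact i.elim0
  | succ n ih =>
    intro X _ _ W hW hcov T hT hTc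
    let U : X.Opens := ⨆ i : Fin n, W i.castSucc
    let V : X.Opens := W (Fin.last n)
    have hV : IsAffineOpen V := hW _
    have hUV : U ⊔ V = ⊤ := by
      rw [eq_top_iff, ← hcov, iSup_le_iff]
      intro i
      refine Fin.lastCases ?_ (fun i => ?_) i
      · exact le_sup_right
      · exact (le_iSup (fun i : Fin n => W i.castSucc) i).trans le_sup_left
    have hU : IsCompact (U : Set X) := by
      rw [TopologicalSpace.Opens.coe_iSup]
      exact isCompact_iUnion fun i => (hW _).isCompact
    have hcU : CompactSpace (U : Scheme.{u}) := isCompact_iff_compactSpace.1 hU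
    have hqU : QuasiSeparatedSpace (U : Scheme.{u}) :=
      QuasiSeparatedSpace.of_isOpenEmbedding U.ι.isOpenEmbedding
    have hUT : IsCompact ((U : Set X) ∩ Tᶜ) :=
      QuasiSeparatedSpace.inter_isCompact _ _ U.isOpen hU hT.isOpen_compl hTc
    have hVT : IsCompact ((V : Set X) ∩ (T ∩ (U : Set X)ᶜ)ᶜ) := by
      rw [Set.compl_inter, compl_compl, Set.inter_union_distrib_left]
      exact (QuasiSeparatedSpace.inter_isCompact _ _ V.isOpen hV.isCompact
        hT.isOpen_compl hTc).union
        (QuasiSeparatedSpace.inter_isCompact _ _ V.isOpen hV.isCompact U.isOpen hU)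
    have hpre : ∀ (O : X.Opens) (S : Set X), IsCompact ((O : Set X) ∩ S) →
        IsCompact (O.ι ⁻¹' S) := by
      intro O S hS
      have h1 : O.ι '' (O.ι ⁻¹' S) = (O : Set X) ∩ S := by
        rw [Set.image_preimage_eq_inter_range, Set.inter_comm]
        congr 1
        exact O.range_ι
      exact (O.ι.isOpenEmbedding.isEmbedding.isCompact_iff).2 (h1 ▸ hS)
    -- the affine opens of `U`
    obtain ⟨rU, hrU⟩ := ih (U : Scheme.{u}) (fun i => U.ι ⁻¹ᵁ W i.castSucc) (fun i =>
        (hW _).preimage_of_isOpenImmersion U.ι (by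
          rw [Scheme.Opens.opensRange_ι]
          exact le_iSup (fun i : Fin n => W i.castSucc) i)) (by
        rw [← Scheme.Hom.preimage_iSup, eq_top_iff]
        intro x _
        exact x.2) (U.ι ⁻¹' T) (hT.preimage U.ι.continuous) (hpre U _ hUT)
    have hVa : IsAffine (V : Scheme.{u}) := hV
    obtain ⟨rV, hrV⟩ := ApproxAffine2.exists_appR_of_isAffine (X := (V : Scheme.{u}))
      (V.ι ⁻¹' (T ∩ (U : Set X)ᶜ)) ((hT.inter U.isOpen.isClosed_compl).preimage V.ι.continuous)
      (hpre V _ hVT)
    exact ⟨rU + rV, ApproxStep.step U V hUV hU hV T hT hTc rU rV hrU hrV⟩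

end Groth.Agent.PerfC.ApproxMain
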