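import Groth.Agent.PerfC.PcLocal
import Groth.Agent.PerfC.LpullFlat
import Mathlib.Algebra.Category.ModuleCat.Sheaf.PullbackFree

/-!
# Pullback and restriction to opens; exact pullbacks on `D(O_X)`
-/

set_option autoImplicit false
universe u
open CategoryTheory CategoryTheory.Limits AlgebraicGeometry
attribute [local instance] HasDerivedCategory.standard

namespace Groth.Agent.PerfC.PullRestrict
open AlgebraicGeometry.Scheme.Modules Groth.Agent.PerfA.Restrict Groth.Agent.PerfA
open Groth.Agent.PerfC.PcLocal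

variable {X Y U V : Scheme.{u}}

/-- `(f^* M)|_V = f'^* (M|_U)` for a commutative square `j' ≫ f = f' ≫ j` with `j`, `j'` open
immersions. -/
noncomputable def pullbackSquare {f : X ⟶ Y} {j : U ⟶ Y} {j' : V ⟶ X} {f' : V ⟶ U}
    [IsOpenImmersion j] [IsOpenImmersion j'] (h : j' ≫ f = f' ≫ j) :
    restrictFunctor j ⋙ Scheme.Modules.pullback f' ≅ Scheme.Modules.pullback f ⋙ restrictFunctor j' :=
  Functor.isoWhiskerRight (restrictFunctorIsoPullback j) _ ≪≫ pullbackComp f' j ≪≫
    pullbackCongr h.symm ≪≫ (pullbackComp j' f).symm ≪≫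
    Functor.isoWhiskerLeft _ (restrictFunctorIsoPullback j').symm

theorem final_opensMap {X Y : TopCat.{u}} (f : X ⟶ Y) :
    (TopologicalSpace.Opens.map f).Final where
  out d := by
    let t : StructuredArrow d (TopologicalSpace.Opens.map f) :=
      StructuredArrow.mk (Y := (⊤ : TopologicalSpace.Opens Y)) (homOfLE le_top)
    have : IsTerminal t := IsTerminal.ofUniqueHom
      (fun s => StructuredArrow.homMk (homOfLE le_top) (Subsingleton.elim _ _))
      (fun s m => by ext; exact Subsingleton.elim _ _)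
    exact isConnected_of_isTerminal _ this

/-- Pullback of the structure sheaf. -/
noncomputable def pullbackUnit (f : X ⟶ Y) :
    (Scheme.Modules.pullback f).obj (Coh.structureModule Y) ≅ Coh.structureModule X :=
  haveI : (TopologicalSpace.Opens.map f.base).Final := final_opensMap _
  haveI : IsIso (SheafOfModules.pullbackObjUnitToUnit f.toRingCatSheafHom) :=
    SheafOfModules.instIsIsoPullbackObjUnitToUnitOfFinal _
  let e := asIso (SheafOfModules.pullbackObjUnitToUnit f.toRingCatSheafHom)
  { hom := e.hom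
    inv := e.inv
    hom_inv_id := e.hom_inv_id
    inv_hom_id := e.inv_hom_id }

/-- Pullback of free modules. -/
noncomputable def pullbackFreeMod (f : X ⟶ Y) (n : ℕ) :
    (Scheme.Modules.pullback f).obj (FlatMod.freeMod Y n) ≅ FlatMod.freeMod X n :=
  PreservesCoproduct.iso (Scheme.Modules.pullback f) _ ≪≫ Limits.Sigma.mapIso fun _ => pullbackUnit f

lemma isFinLocFree_pullback (f : X ⟶ Y) {M : Y.Modules} (h : FlatMod.IsFinLocFree M) :
    FlatMod.IsFinLocFree ((Scheme.Modules.pullback f).obj M) := fun x => by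
  obtain ⟨V, n, hx, ⟨e⟩⟩ := h (f x)
  refine ⟨f ⁻¹ᵁ V, n, hx, ⟨?_⟩⟩
  exact (pullbackSquare (morphismRestrict_ι f V).symm).symm.app M ≪≫
    (Scheme.Modules.pullback (f ∣_ V)).mapIso e ≪≫ pullbackFreeMod (f ∣_ V) n

/-- Pullback of complexes. -/
noncomputable abbrev pullCx (f : X ⟶ Y) :
    CochainComplex Y.Modules ℤ ⥤ CochainComplex X.Modules ℤ :=
  (Scheme.Modules.pullback f).mapHomologicalComplex (ComplexShape.up ℤ)

lemma isStrictlyPerfect_pullback (f : X ⟶ Y)
    {E : CochainComplex Y.Modules ℤ} (hE : DCoh.IsStrictlyPerfect E) :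
    DCoh.IsStrictlyPerfect ((pullCx f).obj E) := by
  obtain ⟨⟨a, b, hab⟩, h⟩ := hE
  exact ⟨⟨a, b, fun i hi => (Scheme.Modules.pullback f).map_isZero (hab i hi)⟩,
    fun i => isFinLocFree_pullback f (h i)⟩

/-- `f^*` on derived categories, for exact `f^*`. -/
noncomputable abbrev pullD (f : X ⟶ Y) [PreservesFiniteLimits (Scheme.Modules.pullback f)] :
    DCoh.D Y ⥤ DCoh.D X := (Scheme.Modules.pullback f).mapDerivedCategory

/-- `f^*` on derived categories is computed termwise, for exact `f^*`. -/
noncomputable def pullDQ (f : X ⟶ Y) [PreservesFiniteLimits (Scheme.Modules.pullback f)]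
    (K : CochainComplex Y.Modules ℤ) :
    (pullD f).obj (DerivedCategory.Q.obj K) ≅ DerivedCategory.Q.obj ((pullCx f).obj K) :=
  (Scheme.Modules.pullback f).mapDerivedCategoryFactors.app K

/-- `H^i(f^*K) = f^*H^i(K)`, for exact `f^*`. -/
noncomputable def HDpull (f : X ⟶ Y) [PreservesFiniteLimits (Scheme.Modules.pullback f)] (K : DCoh.D Y) (i : ℤ) :
    DCoh.HD ((pullD f).obj K) i ≅ (Scheme.Modules.pullback f).obj (DCoh.HD K i) :=
  (ExactD.mapHomology (Scheme.Modules.pullback f) i).app K

/-- `(f^* K)|_V = f'^* (K|_U)` for a commutative square `j' ≫ f = f' ≫ j` with `j`, `j'` open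
immersions and `f`, `f'` with exact pullback functors. -/
noncomputable def pullDSquare {f : X ⟶ Y} {j : U ⟶ Y} {j' : V ⟶ X} {f' : V ⟶ U}
    [IsOpenImmersion j] [IsOpenImmersion j'] [PreservesFiniteLimits (Scheme.Modules.pullback f)]
    [PreservesFiniteLimits (Scheme.Modules.pullback f')] (h : j' ≫ f = f' ≫ j) :
    restrictD j ⋙ pullD f' ≅ pullD f ⋙ restrictD j' :=
  ExactD.mapDComp (pullbackSquare h) ≪≫ (ExactD.mapDComp (Iso.refl _)).symm

lemma epi_map_pullD (f : X ⟶ Y) [PreservesFiniteLimits (Scheme.Modules.pullback f)] {K L : DCoh.D Y} (α : K ⟶ L)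
    (i : ℤ) (h : Epi ((DerivedCategory.homologyFunctor _ i).map α)) :
    Epi ((DerivedCategory.homologyFunctor _ i).map ((pullD f).map α)) := by
  have := (ExactD.mapHomology (Scheme.Modules.pullback f) i).hom.naturality α
  rw [← cancel_mono ((ExactD.mapHomology (Scheme.Modules.pullback f) i).inv.app L)] at this
  simp only [Category.assoc, Iso.hom_inv_id_app, Category.comp_id, Functor.comp_obj,
    Functor.comp_map] at this
  rw [this]
  infer_instance

lemma isIso_map_pullD (f : X ⟶ Y) [PreservesFiniteLimits (Scheme.Modules.pullback f)] {K L : DCoh.D Y}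
    (α : K ⟶ L) (i : ℤ) (h : IsIso ((DerivedCategory.homologyFunctor _ i).map α)) :
    IsIso ((DerivedCategory.homologyFunctor _ i).map ((pullD f).map α)) :=
  (NatIso.isIso_map_iff (ExactD.mapHomology (Scheme.Modules.pullback f) i) α).2
    (by dsimp; infer_instance)

lemma hasApprox_pullD (f : X ⟶ Y) [PreservesFiniteLimits (Scheme.Modules.pullback f)] {m : ℤ} {K : DCoh.D Y}
    (h : HasApprox m K) : HasApprox m ((pullD f).obj K) := by
  obtain ⟨E, α, hE, h1, h2⟩ := h
  refine ⟨(pullCx f).obj E, (pullDQ f E).inv ≫ (pullD f).map α,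
    isStrictlyPerfect_pullback f hE, fun i hi => ?_, ?_⟩
  · have := isIso_map_pullD f α i (h1 i hi)
    rw [Functor.map_comp]
    infer_instance
  · have := epi_map_pullD f α m h2
    rw [Functor.map_comp]
    exact epi_comp _ _

end Groth.Agent.PerfC.PullRestrict
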