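import Groth.Agent.PerfC.RpushTrunc
import Groth.Agent.LoccohB.DQCohBasic

/-!
# `H^n(Rf_*(M[0])) = R^n f_* M`

Comparison of the frozen unbounded `DCoh.Rpush f` with the higher direct images `Coh.Rpush f n`
(right derived functors of `f_*`).
-/

set_option autoImplicit false

universe u

open CategoryTheory CategoryTheory.Limits AlgebraicGeometry Pretriangulated
attribute [local instance] HasDerivedCategory.standard

namespace Groth.Agent.PerfC.RpushSingle

open Groth.Agent.Etrest

variable {X Y : Scheme.{u}} (f : X ⟶ Y)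

/-- `H^n(Rf_*(M[0])) ≅ R^n f_* M`, naturally in `M`. -/
noncomputable def natIso [DCoh.HasRpush f] [HasInjectiveResolutions X.Modules] (n : ℕ) :
    DerivedCategory.singleFunctor X.Modules 0 ⋙ DCoh.Rpush f ⋙
      DerivedCategory.homologyFunctor Y.Modules (n : ℤ) ≅ Coh.Rpush f n :=
  haveI := RpushTrunc.hasKInj X
  haveI := RpushTrunc.enoughInjectives X
  Functor.isoWhiskerLeft (DerivedCategory.singleFunctor X.Modules 0)
    (Functor.isoWhiskerRight (RpushTrunc.rpushIso f) (DerivedCategory.homologyFunctor Y.Modules (n : ℤ))) ≪≫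
    RDer3.HTRsingle (Scheme.Modules.pushforward f) n

/-- `H^n(Rf_*(M[0])) ≅ R^n f_* M`. -/
noncomputable def iso [DCoh.HasRpush f] [HasInjectiveResolutions X.Modules] (n : ℕ) (M : X.Modules) :
    DCoh.HD ((DCoh.Rpush f).obj (DCoh.inD X M)) (n : ℤ) ≅ (Coh.Rpush f n).obj M :=
  (natIso f n).app M

theorem isZero_of_neg [DCoh.HasRpush f] (M : X.Modules) (n : ℤ) (hn : n < 0) :
    IsZero (DCoh.HD ((DCoh.Rpush f).obj (DCoh.inD X M)) n) := by
  have := RpushTrunc.isGE_Rpush f (DCoh.inD X M) 0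
  exact DerivedCategory.isZero_of_isGE _ 0 n hn

/-- `H^m(Rf_*(M[-i])) ≅ H^{m-i}(Rf_* (M[0]))`. -/
noncomputable def isoSingle [DCoh.HasRpush f] (M : X.Modules) (i m n : ℤ) (h : n + i = m) :
    DCoh.HD ((DCoh.Rpush f).obj ((DerivedCategory.singleFunctor X.Modules i).obj M)) m ≅
      DCoh.HD ((DCoh.Rpush f).obj (DCoh.inD X M)) n :=
  (LoccohB.DQCohBasic.HDRpushShiftIso f ((DerivedCategory.singleFunctor X.Modules i).obj M) i n m
    (by omega)).symm ≪≫
  (DerivedCategory.homologyFunctor Y.Modules n).mapIso ((DCoh.Rpush f).mapIso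
    (((DerivedCategory.singleFunctors X.Modules).shiftIso i 0 i (by simp)).app M))

end Groth.Agent.PerfC.RpushSingle
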