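import Groth.Prelude.Def_DCoh4
import Groth.Agent.PerfC.CxNat

/-!
# Symmetry of the tensor product of `O_X`-modules and of complexes of `O_X`-modules
-/

set_option autoImplicit false

universe u

open CategoryTheory CategoryTheory.Limits AlgebraicGeometry MonoidalCategory

namespace Groth.Agent.PerfC.TensFlip

open DCoh

variable {X : Scheme.{u}}

/-- The tensor product of `O_X`-modules is symmetric. -/
noncomputable def tensorBiFlip : (tensorBi (X := X)).flip ≅ tensorBi (X := X) :=
  NatIso.ofComponents (fun N => NatIso.ofComponents
      (fun M => (shP (X := X)).mapIso (β_ ((toP (X := X)).obj M) ((toP (X := X)).obj N)))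
      (fun {M M'} f => by
        have h : ((toP (X := X)).map f) ▷ ((toP (X := X)).obj N) ≫ (β_ ((toP (X := X)).obj M') ((toP (X := X)).obj N)).hom =
          (β_ ((toP (X := X)).obj M) ((toP (X := X)).obj N)).hom ≫ ((toP (X := X)).obj N) ◁ ((toP (X := X)).map f) :=
          BraidedCategory.braiding_naturality_left _ _
        exact ((shP (X := X)).map_comp _ _).symm.trans ((congrArg (shP (X := X)).map h).trans
          ((shP (X := X)).map_comp _ _))))
    (fun {N N'} g => by
      ext M : 2
      have h : ((toP (X := X)).obj M) ◁ ((toP (X := X)).map g) ≫ (β_ ((toP (X := X)).obj M) ((toP (X := X)).obj N')).hom =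
          (β_ ((toP (X := X)).obj M) ((toP (X := X)).obj N)).hom ≫ ((toP (X := X)).map g) ▷ ((toP (X := X)).obj M) :=
          BraidedCategory.braiding_naturality_right _ _
      exact ((shP (X := X)).map_comp _ _).symm.trans ((congrArg (shP (X := X)).map h).trans
          ((shP (X := X)).map_comp _ _)))

/-- The tensor product of complexes of `O_X`-modules is symmetric. -/
noncomputable def tensorCxFlip : (tensorCx (X := X)).flip ≅ tensorCx (X := X) :=
  CxNat.flipIso tensorBiFlip

/-- `K ⊗ L ≅ L ⊗ K`. -/
noncomputable def swapIso (K L : CochainComplex X.Modules ℤ) :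
    (tensorCx.obj K).obj L ≅ (tensorCx.obj L).obj K :=
  (tensorCxFlip.app L).app K

end Groth.Agent.PerfC.TensFlip
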