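import Groth.Agent.PerfB.FlatPull
import Groth.Agent.PerfA.ExactD
import Groth.Prelude.Def_DCoh3
import Groth.Agent.S0911
import Groth.Agent.S0959

/-!
# Derived pullback and restriction to open subschemes (conditional on S0911, S0959)

`nonempty_restrict_lpull`: for `g' ≫ j = i ≫ g` with `i`, `j` open immersions,
`(Lg^* K)|_W ≅ Lg'^* (K|_V)`.
-/

set_option autoImplicit false
universe u
open CategoryTheory CategoryTheory.Limits AlgebraicGeometry
attribute [local instance] HasDerivedCategory.standard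

namespace Groth.Agent.PerfC.LpullRestrict

open AlgebraicGeometry.Scheme.Modules Groth.Agent.PerfA

variable {X Y V W : Scheme.{u}}

/-- Restriction to an open subscheme is the derived pullback. -/
noncomputable def restrictIsoLpull (j : V ⟶ X) [IsOpenImmersion j] [DCoh.HasLpull j] :
    DCoh.restrictD j ≅ DCoh.Lpull j :=
  ExactD.mapDIso (restrictFunctorIsoPullback j) ≪≫ (PerfB.FlatPull.lpullIso j).symm

theorem nonempty_restrict_lpull {g : Y ⟶ X} [DCoh.HasLpull g] {g' : W ⟶ V} [DCoh.HasLpull g'] (j : V ⟶ X)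
    [IsOpenImmersion j] (i : W ⟶ Y) [IsOpenImmersion i] (w : g' ≫ j = i ≫ g) (K : DCoh.D X) :
    Nonempty ((DCoh.restrictD i).obj ((DCoh.Lpull g).obj K) ≅ (DCoh.Lpull g').obj ((DCoh.restrictD j).obj K)) := by
  have : DCoh.HasLpull j := S0959.result j
  have : DCoh.HasLpull i := S0959.result i
  have : DCoh.HasLpull (i ≫ g) := S0959.result _
  have : DCoh.HasLpull (g' ≫ j) := S0959.result _
  obtain ⟨e₁⟩ := S0911.result i g
  obtain ⟨e₂⟩ := S0911.result g' j
  have e₃ : DCoh.Lpull (i ≫ g) ≅ DCoh.Lpull (g' ≫ j) := eqToIso (by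
    have h : ∀ (a b : W ⟶ X) (_ : a = b) (ha : DCoh.HasLpull a) (hb : DCoh.HasLpull b),
        @DCoh.Lpull _ _ a ha = @DCoh.Lpull _ _ b hb := by
      intro a b hab ha hb
      subst hab
      rfl
    exact h _ _ w.symm _ _)
  exact ⟨(restrictIsoLpull i).app _ ≪≫ e₁.app K ≪≫ e₃.app K ≪≫ e₂.symm.app K ≪≫
    (DCoh.Lpull g').mapIso ((restrictIsoLpull j).symm.app K)⟩

end Groth.Agent.PerfC.LpullRestrict
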