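import Groth.Agent.PerfC.RelFlatLpull
import Groth.Agent.PerfC.LpullRestrict
import Groth.Agent.Dcoh.LocalD
import Groth.Agent.Dcoh.BddCx
import Groth.Agent.Dcoh.Spread

/-!
# Derived pullback of pseudo-coherent and of perfect complexes

* `homology_lpull_map`: if `H^i(α)` is an isomorphism for `i > m` and an epimorphism for `i = m`, so is `H^i(Lg^* α)`;
* `isPseudoCoherentD_lpull`, `isPerfect_lpull`.
-/

set_option autoImplicit false
universe u
open CategoryTheory CategoryTheory.Limits AlgebraicGeometry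
attribute [local instance] HasDerivedCategory.standard

namespace Groth.Agent.PerfC.LpullPC

open Groth.Agent.PerfC.RelFlatLpull Groth.Agent.Dcoh.LocalD DerivedCategory

variable {X Y : Scheme.{u}} {g : Y ⟶ X} {Pc : ObjectProperty (CochainComplex X.Modules ℤ)}

theorem homology_lpull_map (hA : PullData g Pc) [DCoh.HasLpull g] {K L : DCoh.D X} (α : K ⟶ L) (m : ℤ)
    (h1 : ∀ i : ℤ, m < i → IsIso ((homologyFunctor _ i).map α)) (h2 : Epi ((homologyFunctor _ m).map α)) :
    (∀ i : ℤ, m < i → IsIso ((homologyFunctor _ i).map ((DCoh.Lpull g).map α))) ∧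
      Epi ((homologyFunctor _ m).map ((DCoh.Lpull g).map α)) := by
  obtain ⟨C, β, γ, hT⟩ := Pretriangulated.distinguished_cocone_triangle α
  have hC : C.IsLE (m - 1) := by
    rw [isLE_iff]
    intro i hi
    refine Dcoh.BddCx.isZero_homology_obj₃ _ hT i (i + 1) rfl ?_ ?_
    · by_cases h : i = m
      · subst h; exact h2
      · have := h1 i (by omega)
        exact (inferInstance : Epi ((homologyFunctor _ i).map α))
    · have := h1 (i + 1) (by omega)
      exact (inferInstance : Mono ((homologyFunctor _ (i + 1)).map α))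
  have hLC := isLE_lpull hA C (m - 1)
  obtain ⟨T', hT', e₁, e₂, e₃, c1, -⟩ : ∃ (T' : Pretriangulated.Triangle (DCoh.D Y))
      (_ : T' ∈ Pretriangulated.distinguishedTriangles) (e₁ : (DCoh.Lpull g).obj K ≅ T'.obj₁)
      (e₂ : (DCoh.Lpull g).obj L ≅ T'.obj₂) (e₃ : (DCoh.Lpull g).obj C ≅ T'.obj₃),
        (DCoh.Lpull g).map α ≫ e₂.hom = e₁.hom ≫ T'.mor₁ ∧ (DCoh.Lpull g).map β ≫ e₃.hom = e₂.hom ≫ T'.mor₂ :=
    Dcoh.LDer.exists_triangle hA.adapted (DCoh.Lpull g)
      ((DCoh.pullKh g).totalLeftDerivedCounit DerivedCategory.Qh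
        (HomotopyCategory.quasiIso X.Modules (ComplexShape.up ℤ))) _ hT
  have hz : ∀ i : ℤ, m - 1 < i → IsZero ((homologyFunctor _ i).obj T'.obj₃) := fun i hi =>
    ((isLE_iff _ _).mp hLC i hi).of_iso ((homologyFunctor _ i).mapIso e₃.symm)
  have hepi : ∀ i : ℤ, m - 1 < i → Epi ((homologyFunctor _ i).map T'.mor₁) := fun i hi =>
    (HomologySequence.epi_homologyMap_mor₁_iff T' hT' i).2 ((hz i hi).eq_of_tgt _ _)
  have hmono : ∀ i : ℤ, m < i → Mono ((homologyFunctor _ i).map T'.mor₁) := fun i hi =>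
    (HomologySequence.mono_homologyMap_mor₁_iff T' hT' (i - 1) i (by omega)).2
      ((hz (i - 1) (by omega)).eq_of_src _ _)
  have hmap : (DCoh.Lpull g).map α = e₁.hom ≫ T'.mor₁ ≫ e₂.inv := by
    rw [← Category.assoc, ← c1, Category.assoc, Iso.hom_inv_id, Category.comp_id]
  rw [hmap]
  constructor
  · intro i hi
    have := hepi i (by omega)
    have := hmono i hi
    have : IsIso ((homologyFunctor _ i).map T'.mor₁) := isIso_of_mono_of_epi _
    rw [Functor.map_comp, Functor.map_comp]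
    infer_instance
  · have := hepi m (by omega)
    rw [Functor.map_comp, Functor.map_comp]
    exact epi_comp _ _

theorem strPC_lpull (hA : PullData g Pc) [DCoh.HasLpull g] {m : ℤ} {K : DCoh.D X} (h : StrPC m X K) :
    StrPC m Y ((DCoh.Lpull g).obj K) := by
  obtain ⟨E, α, hE, h1, h2⟩ := h
  obtain ⟨⟨a, b, hab⟩, hP⟩ := id hE
  obtain ⟨h3, h4⟩ := homology_lpull_map hA α m h1 h2
  refine ⟨_, (lpullIso hA E b (fun i hi => hab i (Or.inr hi))
    (fun i => Dcoh.Spread.isFlat_of_isFinLocFree (hP i))).inv ≫ (DCoh.Lpull g).map α,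
    PerfB.FlatPull.isStrictlyPerfect_pullback g hE, fun i hi => ?_, ?_⟩
  · have := h3 i hi
    rw [Functor.map_comp]
    infer_instance
  · rw [Functor.map_comp]
    exact epi_comp _ _

theorem strPerf_lpull (hA : PullData g Pc) [DCoh.HasLpull g] {K : DCoh.D X} (h : StrPerf X K) :
    StrPerf Y ((DCoh.Lpull g).obj K) := by
  obtain ⟨E, hE, ⟨e⟩⟩ := h
  obtain ⟨⟨a, b, hab⟩, hP⟩ := id hE
  exact ⟨_, PerfB.FlatPull.isStrictlyPerfect_pullback g hE, ⟨(DCoh.Lpull g).mapIso e ≪≫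
    lpullIso hA E b (fun i hi => hab i (Or.inr hi)) (fun i => Dcoh.Spread.isFlat_of_isFinLocFree (hP i))⟩⟩

theorem locally_lpull {P : PropD.{u}} (hP : IsStable P)
    (hP' : ∀ {X Y : Scheme.{u}} (g : Y ⟶ X) [DCoh.HasLpull g] (K : DCoh.D X), P X K → P Y ((DCoh.Lpull g).obj K))
    (g : Y ⟶ X) [DCoh.HasLpull g] {K : DCoh.D X} (h : Locally P X K) : Locally P Y ((DCoh.Lpull g).obj K) := by
  intro y
  obtain ⟨V, hV, h1⟩ := h (g y)
  refine ⟨g ⁻¹ᵁ V, hV, ?_⟩
  have : DCoh.HasLpull (g ∣_ V) := S0959.result _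
  obtain ⟨e⟩ := LpullRestrict.nonempty_restrict_lpull (g := g) (g' := g ∣_ V) V.ι (g ⁻¹ᵁ V).ι
    (morphismRestrict_ι g V) K
  exact hP.iso e.symm (hP' (g ∣_ V) _ h1)

section

variable (hA : ∀ (Y Z : Scheme.{u}) (h : Y ⟶ Z), ∃ Pc : ObjectProperty (CochainComplex Z.Modules ℤ), PullData h Pc)

include hA

theorem isPseudoCoherentD_lpull (g : Y ⟶ X) [DCoh.HasLpull g] (m : ℤ) {K : DCoh.D X}
    (h : DCoh.IsPseudoCoherentD m K) : DCoh.IsPseudoCoherentD m ((DCoh.Lpull g).obj K) := by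
  rw [isPseudoCoherentD_iff_locally] at h ⊢
  refine locally_lpull (isStable_strPC m) (fun g _ K hK => ?_) g h
  obtain ⟨Pc, hPc⟩ := hA _ _ g
  exact strPC_lpull hPc hK

theorem isPerfect_lpull (g : Y ⟶ X) [DCoh.HasLpull g] {K : DCoh.D X}
    (h : DCoh.IsPerfect K) : DCoh.IsPerfect ((DCoh.Lpull g).obj K) := by
  rw [isPerfect_iff_locally] at h ⊢
  refine locally_lpull isStable_strPerf (fun g _ K hK => ?_) g h
  obtain ⟨Pc, hPc⟩ := hA _ _ g
  exact strPerf_lpull hPc hK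

end

end Groth.Agent.PerfC.LpullPC
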