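import Groth.Agent.PerfC.RelFlatLpull
import Groth.Agent.PerfB.StalkKFlat
import Groth.Agent.S0951
import Groth.Agent.S0953
import Groth.Agent.S0955

/-!
# K-flat complexes compute the derived pullback
-/

set_option autoImplicit false
universe u
open CategoryTheory CategoryTheory.Limits AlgebraicGeometry
attribute [local instance] HasDerivedCategory.standard

namespace Groth.Agent.PerfC.PullKFlat

variable {X Y : Scheme.{u}}

theorem quasiIso_pullback (g : Y ⟶ X) {K L : CochainComplex X.Modules ℤ} (φ : K ⟶ L) (hK : DCoh.IsKFlat K)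
    (hL : DCoh.IsKFlat L) (hφ : QuasiIso φ) :
    QuasiIso (((Scheme.Modules.pullback g).mapHomologicalComplex (ComplexShape.up ℤ)).map φ) := by
  rw [AcyclicBdd.quasiIso_iff_acyclic_mappingCone] at hφ ⊢
  have h1 := PerfB.StalkKFlat.acyclic_pullback (f := g) _ ((S0951.result φ).1 hK hL) hφ
  intro i
  exact (h1 i).of_iso (CochainComplex.mappingCone.mapHomologicalComplexIso φ (Scheme.Modules.pullback g))

/-- K-flat complexes are adapted to every pullback. -/
theorem adapted (g : Y ⟶ X) : Dcoh.LDer.Adapted (Scheme.Modules.pullback g)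
    (fun K : CochainComplex X.Modules ℤ => DCoh.IsKFlat K) where
  exists_res G := by
    obtain ⟨K, q, h1, -, h2, -⟩ := S0955.result G
    exact ⟨K, q, h1, h2⟩
  inverts K L φ hK hL hφ := quasiIso_pullback g φ hK hL hφ
  cone K L φ hK hL := (S0951.result φ).1 hK hL

theorem pullData (g : Y ⟶ X) : RelFlatLpull.PullData g (fun K : CochainComplex X.Modules ℤ => DCoh.IsKFlat K) where
  adapted := adapted g
  flat K b hb hK := S0953.result K b (by
    rw [CochainComplex.isStrictlyLE_iff]
    exact hb) hK

theorem exists_pullData (Y Z : Scheme.{u}) (h : Y ⟶ Z) :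
    ∃ Pc : ObjectProperty (CochainComplex Z.Modules ℤ), RelFlatLpull.PullData h Pc := ⟨_, pullData h⟩

theorem hasLpull (g : Y ⟶ X) : DCoh.HasLpull g := Dcoh.LDer.hasLeftDerivedFunctor (adapted g)

end Groth.Agent.PerfC.PullKFlat
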