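import Groth.Agent.PerfC.RelPerfPt

/-!
# Relatively perfect complexes and fibres

`relPerf_iff`: the statement of Stacks 0GEH, given adapted classes for all pullbacks.
-/

set_option autoImplicit false
universe u
open CategoryTheory CategoryTheory.Limits AlgebraicGeometry
attribute [local instance] HasDerivedCategory.standard

namespace Groth.Agent.PerfC.RelPerf

open Groth.Agent.PerfC.RelFlatLpull Groth.Agent.Dcoh.LocalD Groth.Agent.PerfC.RelAmp

variable {X S U : Scheme.{u}} {f : X ⟶ S}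

theorem hasRelFlatAmplitudeIn_restrict (k : U ⟶ X) [IsOpenImmersion k] {a b : ℤ} {K : DCoh.D X}
    (h : DCoh.HasRelFlatAmplitudeIn f a b K) :
    DCoh.HasRelFlatAmplitudeIn (k ≫ f) a b ((DCoh.restrictD k).obj K) := by
  obtain ⟨E, h1, h2, ⟨e⟩⟩ := h
  refine ⟨((Scheme.Modules.restrictFunctor k).mapHomologicalComplex (ComplexShape.up ℤ)).obj E,
    fun i hi => (Scheme.Modules.restrictFunctor k).map_isZero (h1 i hi),
    fun i v => (Ega3B.FlatRestrict.isFlatOverAt_restrict_iff_comp f k _ v).mpr (h2 i _), ⟨?_⟩⟩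
  exact (QRestrict k E).symm ≪≫ (DCoh.restrictD k).mapIso e

theorem locHasFiniteRelTorDim_of_cover {K : DCoh.D X}
    (h : ∀ x : X, ∃ (U : Scheme.{u}) (j : U ⟶ X) (_ : IsOpenImmersion j) (a b : ℤ), x ∈ Set.range j ∧
      DCoh.HasRelFlatAmplitudeIn (j ≫ f) a b ((DCoh.restrictD j).obj K)) :
    DCoh.LocHasFiniteRelTorDim f K := by
  rw [locHasFiniteRelTorDim_iff]
  intro x
  obtain ⟨U, j, hj, a, b, hx, h⟩ := h x
  refine ⟨j.opensRange, a, b, hx, ?_⟩
  have w : j.isoOpensRange.inv ≫ j = j.opensRange.ι := by simp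
  have h1 := hasRelFlatAmplitudeIn_restrict j.isoOpensRange.inv h
  obtain ⟨E, e1, e2, ⟨e3⟩⟩ := h1
  refine ⟨E, e1, ?_, ⟨e3 ≪≫ (restrictCompEq w).app K⟩⟩
  rw [← Category.assoc, w] at e2
  exact e2

theorem relPerf_iff {X S : Scheme.{u}} (f : X ⟶ S) [Flat f] [LocallyOfFinitePresentation f]
    (hA : ∀ (Y Z : Scheme.{u}) (h : Y ⟶ Z), ∃ Pc : ObjectProperty (CochainComplex Z.Modules ℤ), PullData h Pc)
    [∀ s : S, DCoh.HasLpull (f.fiberι s)]
    (E : DCoh.D X) (hE : ∀ m : ℤ, DCoh.IsPseudoCoherentD m E) :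
    DCoh.LocHasFiniteRelTorDim f E ↔
      ((∀ x : X, ∃ (V : X.Opens) (a : ℤ), x ∈ V ∧ ((DCoh.restrictD V.ι).obj E).IsGE a) ∧
       ∀ (s : S) (y : ↥(f.fiber s)), ∃ (W : (f.fiber s).Opens) (a : ℤ), y ∈ W ∧
         ((DCoh.restrictD W.ι).obj ((DCoh.Lpull (f.fiberι s)).obj E)).IsGE a) := by
  constructor
  · intro h
    have key : ∀ {X' S' : Scheme.{u}} (f' : X' ⟶ S') {K : DCoh.D X'} (_ : DCoh.LocHasFiniteRelTorDim f' K) (x : X'),
        ∃ (V : X'.Opens) (a : ℤ), x ∈ V ∧ ((DCoh.restrictD V.ι).obj K).IsGE a := by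
      intro X' S' f' K hK x
      rw [locHasFiniteRelTorDim_iff] at hK
      obtain ⟨V, a, b, hx, h1⟩ := hK x
      exact ⟨V, a, hx, isGE_of_hasRelFlatAmplitudeIn h1⟩
    refine ⟨fun x => key f h x, fun s y => ?_⟩
    have H : IsPullback (f.fiberι s) (f.fiberToSpecResidueField s) f (S.fromSpecResidueField s) :=
      IsPullback.of_hasPullback _ _
    exact key _ (locHasFiniteRelTorDim_lpull hA H h) y
  · rintro ⟨h1, h2⟩
    apply locHasFiniteRelTorDim_of_cover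
    intro x
    let s := f x
    let y : f.fiber s := f.asFiber x
    have hy : f.fiberι s y = x := f.fiberι_asFiber x
    obtain ⟨V₁, a₁, hx₁, hE₁⟩ := h1 x
    obtain ⟨W₁, a₂, hy₁, hE₂⟩ := h2 s y
    -- `W₁` is the trace of an open subset of `X`
    obtain ⟨V₃, hV₃⟩ : ∃ V₃ : X.Opens, (f.fiberι s) ⁻¹ᵁ V₃ = W₁ := by
      obtain ⟨t, ht, ht'⟩ := (f.fiberι s).isEmbedding.isOpen_iff.mp W₁.isOpen
      exact ⟨⟨t, ht⟩, TopologicalSpace.Opens.ext ht'⟩
    let r := min a₁ a₂ - 1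
    obtain ⟨V₂, hx₂, hE₃⟩ := (isPseudoCoherentD_iff_locally (r - 1) E).mp (hE (r - 1)) x
    let V : X.Opens := V₁ ⊓ V₂ ⊓ V₃
    have hx₃ : x ∈ V₃ := by
      have : f.fiberι s y ∈ V₃ := by
        change y ∈ (f.fiberι s) ⁻¹ᵁ V₃
        rw [hV₃]
        exact hy₁
      rwa [hy] at this
    have hxV : x ∈ V := ⟨⟨hx₁, hx₂⟩, hx₃⟩
    have le₁ : V ≤ V₁ := inf_le_left.trans inf_le_left
    have le₂ : V ≤ V₂ := inf_le_left.trans inf_le_right
    have le₃ : V ≤ V₃ := inf_le_right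
    have isGE_restrict : ∀ {Z : Scheme.{u}} (K : DCoh.D Z) {A B : Z.Opens} (_ : A ≤ B) (n n' : ℤ) (_ : n' ≤ n)
        (_ : ((DCoh.restrictD B.ι).obj K).IsGE n), ((DCoh.restrictD A.ι).obj K).IsGE n' := by
      intro Z K A B hAB n n' hn hK
      have h0 : ((DCoh.restrictD B.ι ⋙ DCoh.restrictD (Z.homOfLE hAB)).obj K).IsGE n :=
        Dcoh.MapDer.isGE_map (n := n) (Scheme.Modules.restrictFunctor (Z.homOfLE hAB)) ((DCoh.restrictD B.ι).obj K)
      have h2 : ((DCoh.restrictD A.ι).obj K).IsGE n :=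
        DerivedCategory.TStructure.t.isGE_of_iso ((restrictCompEq (Z.homOfLE_ι hAB)).app K) n
      exact DerivedCategory.TStructure.t.isGE_of_ge _ n' n hn
    let g := f.fiberι s ∣_ V
    have sq : IsPullback g (((f.fiberι s) ⁻¹ᵁ V).ι ≫ f.fiberToSpecResidueField s) (V.ι ≫ f)
        (S.fromSpecResidueField s) :=
      ((isPullback_morphismRestrict (f.fiberι s) V).flip.paste_horiz (IsPullback.of_hasPullback _ _).flip).flip
    have : DCoh.HasLpull g := S0959.result _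
    obtain ⟨Pc, hPc⟩ := hA _ _ g
    have hy' : y ∈ (f.fiberι s) ⁻¹ᵁ V := by
      change f.fiberι s y ∈ V
      rw [hy]
      exact hxV
    obtain ⟨e⟩ := LpullRestrict.nonempty_restrict_lpull (g := f.fiberι s) (g' := g) V.ι ((f.fiberι s) ⁻¹ᵁ V).ι
      (morphismRestrict_ι _ V) E
    have hz : IsZero (DCoh.HD ((DCoh.Lpull g).obj ((DCoh.restrictD V.ι).obj E)) r) := by
      have h3 : ((DCoh.restrictD ((f.fiberι s) ⁻¹ᵁ V).ι).obj ((DCoh.Lpull (f.fiberι s)).obj E)).IsGE a₂ := by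
        refine isGE_restrict _ (B := W₁) ?_ a₂ a₂ le_rfl hE₂
        rw [← hV₃]
        exact fun z hz => le₃ hz
      have h4 := (DerivedCategory.isGE_iff _ a₂).mp h3 r (by
        have := min_le_right a₁ a₂
        omega)
      exact h4.of_iso ((DerivedCategory.homologyFunctor _ r).mapIso e).symm
    obtain ⟨O, b, hO, hamp⟩ := RelPerfPt.exists_open_hasRelFlatAmplitudeIn sq ⟨y, hy'⟩ hPc r
      ((DCoh.restrictD V.ι).obj E) ((isStable_strPC (r - 1)).restrict_le le₂ hE₃)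
      (isGE_restrict E le₁ a₁ (r + 1) (by
        have := min_le_left a₁ a₂
        omega) hE₁) hz
    refine ⟨O, O.ι ≫ V.ι, inferInstance, r + 1, b, ?_, ?_⟩
    · refine ⟨⟨g ⟨y, hy'⟩, hO⟩, ?_⟩
      have h5 : V.ι (g ⟨y, hy'⟩) = f.fiberι s y := by
        have := congr($(morphismRestrict_ι (f.fiberι s) V) ⟨y, hy'⟩)
        exact this
      exact h5.trans hy
    · obtain ⟨E', e1, e2, ⟨e3⟩⟩ := hamp
      refine ⟨E', e1, ?_, ⟨e3 ≪≫ (restrictCompEq rfl).app E⟩⟩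
      rw [Category.assoc]
      exact e2

end Groth.Agent.PerfC.RelPerf
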