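import Groth.Agent.CohtopA.RDerVanish
import Groth.Agent.CohqB.ToSheafExact
import Groth.Agent.PerfB.ModExact
import Groth.Agent.Ega3B.InjMod
import Groth.Prelude.Def_Coh

/-!
# Higher direct images of flasque `O_X`-modules vanish
-/

set_option autoImplicit false
universe u

open CategoryTheory CategoryTheory.Limits AlgebraicGeometry Opposite TopologicalSpace

namespace Groth.Agent.PerfC.FlasquePush

open Scheme.Modules

variable {X Y : Scheme.{u}} (f : X ⟶ Y)

/-- Flasque `O_X`-modules: the underlying abelian sheaf is flasque. -/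
def IsFlasqueMod (M : X.Modules) : Prop := TopCat.Sheaf.IsFlasque (X := X.toTopCat) (Coh.toAb M)

theorem isFlasqueMod_iff (M : X.Modules) :
    IsFlasqueMod M ↔ ∀ (U V : X.Opens) (h : U ≤ V), Function.Surjective (M.presheaf.map (homOfLE h).op) := by
  constructor
  · intro h U V hUV
    have := h.epi (homOfLE hUV).op
    exact (AddCommGrpCat.epi_iff_surjective _).1 this
  · intro h
    constructor
    intro U V i
    rw [AddCommGrpCat.epi_iff_surjective]
    exact h V.unop U.unop (leOfHom i.unop)

instance preservesFiniteLimits_pushforward : PreservesFiniteLimits (pushforward f) := by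
  have := (pullbackPushforwardAdjunction f).rightAdjoint_preservesLimits
  exact PreservesLimits.preservesFiniteLimits _

/-- `f_*` of a short exact sequence with flasque kernel is short exact. -/
theorem map_shortExact {S : ShortComplex X.Modules} (hS : S.ShortExact) (h : IsFlasqueMod S.X₁) :
    (S.map (pushforward f)).ShortExact := by
  have h1 := CohqB.ToSheafExact.shortExact_toAb hS
  have h2 : TopCat.Sheaf.IsFlasque (X := X.toTopCat) (S.map (CohqB.ToSheafExact.toAbF X)).X₁ := h
  have h3 : ∀ U : X.Opens, Function.Surjective (S.g.app U) := fun U =>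
    (AddCommGrpCat.epi_iff_surjective _).1 (TopCat.Sheaf.IsFlasque.epi_of_shortExact (U := U) h1)
  have := hS.mono_f
  have hm : Mono ((pushforward f).map S.f) := inferInstance
  exact { exact := hS.exact.map_of_mono_of_preservesKernel _ hS.mono_f inferInstance
          mono_f := hm
          epi_g := PerfB.ModExact.epi_of_locally_surjective _ (fun U y x hx => by
            obtain ⟨z, hz⟩ := h3 (f ⁻¹ᵁ U) y
            exact ⟨U, le_rfl, hx, z, hz.trans
              congr($(((S.map (pushforward f)).X₃.presheaf.map_id (op U)).symm) y)⟩) }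

/-- Higher direct images of flasque `O_X`-modules vanish. -/
theorem isZero_Rpush [HasInjectiveResolutions X.Modules] (M : X.Modules) (hM : IsFlasqueMod M)
    (i : ℕ) (hi : 0 < i) : IsZero ((Coh.Rpush f i).obj M) := by
  obtain ⟨q, rfl⟩ : ∃ q, i = q + 1 := ⟨i - 1, by omega⟩
  refine CohtopA.RDerVanish.isZero_rightDerived_succ_of_class (pushforward f) IsFlasqueMod ?_ hM q
  intro S hS h1 h2
  refine ⟨?_, map_shortExact f hS h1⟩
  have h3 : TopCat.Sheaf.IsFlasque (X := X.toTopCat) (S.map (CohqB.ToSheafExact.toAbF X)).X₁ := h1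
  have h4 : TopCat.Sheaf.IsFlasque (X := X.toTopCat) (S.map (CohqB.ToSheafExact.toAbF X)).X₂ :=
    Ega3B.InjMod.isFlasque_of_injective S.X₂
  exact TopCat.Sheaf.IsFlasque.of_shortExact_of_isFlasque₁₂ (CohqB.ToSheafExact.shortExact_toAb hS)

end Groth.Agent.PerfC.FlasquePush
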