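import Groth.Agent.S0028
import Groth.Agent.S1035
import Groth.Agent.Ega3B.RpushAbCmp
import Groth.Agent.Dcoh.DerSch
import Groth.Agent.PerfB.DQAdj

/-!
# `Rf_*` on complexes of quasi-coherent modules, `f` affine
-/

set_option autoImplicit false
universe u

open CategoryTheory CategoryTheory.Limits AlgebraicGeometry Opposite TopologicalSpace
attribute [local instance] HasDerivedCategory.standard

namespace Groth.Agent.PerfC.AffPushD

open Scheme.Modules Dcoh.DerSch

variable {X Y : Scheme.{u}}

/-- The unit `Q (f_* F) ⟶ Rf_* (Q F)` is an isomorphism if `F` is a complex of quasi-coherent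
`f_*`-acyclic modules. -/
theorem isIso_rpushUnitQ_of_acyclic (f : X ⟶ Y) [QuasiCompact f] [QuasiSeparated f] [HasInjectiveResolutions X.Modules]
    [DCoh.HasRpush f]
    (F : CochainComplex X.Modules ℤ) (hq : ∀ n : ℤ, Coh.IsQCoh (F.X n))
    (hac : ∀ (n : ℤ) (i : ℕ), 0 < i → IsZero ((Coh.Rpush f i).obj (F.X n))) :
    IsIso ((rpushUnitQ f).app F) :=
  Dcoh.DerComp.isIso_unitQ_app _ _ _ _ (S1035.result f F hq hac)

/-- `f_*` inverts a K-injective resolution of a complex of quasi-coherent `f_*`-acyclic modules. -/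
theorem quasiIso_push_of_isIso (f : X ⟶ Y) [DCoh.HasRpush f]
    (F : CochainComplex X.Modules ℤ) (hF : IsIso ((rpushUnitQ f).app F))
    {I : CochainComplex X.Modules ℤ} (t : F ⟶ I) [QuasiIso t] (hI : IsIso ((rpushUnitQ f).app I)) :
    QuasiIso (((pushforward f).mapHomologicalComplex (ComplexShape.up ℤ)).map t) := by
  have h4 := (rpushUnitQ f).naturality t
  have h3 : IsIso (DerivedCategory.Q.map t) := (DerivedCategory.isIso_Q_map_iff_quasiIso _ _).2 inferInstance
  rw [← DerivedCategory.isIso_Q_map_iff_quasiIso]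
  have h7 : IsIso (DerivedCategory.Q.map (((pushforward f).mapHomologicalComplex (ComplexShape.up ℤ)).map t) ≫
      (rpushUnitQ f).app I) := by
    refine (congrArg (fun x => IsIso x) h4).mpr ?_
    have h8 : IsIso ((DCoh.Rpush f).map (DerivedCategory.Q.map t)) := inferInstance
    exact IsIso.comp_isIso' hF h8
  exact IsIso.of_isIso_comp_right _ ((rpushUnitQ f).app I)

/-- Higher direct images of quasi-coherent modules along affine morphisms vanish. -/
theorem isZero_Rpush (f : X ⟶ Y) [IsAffineHom f] [HasInjectiveResolutions X.Modules] (M : X.Modules)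
    (hM : Coh.IsQCoh M) (i : ℕ) (hi : 0 < i) : IsZero ((Coh.Rpush f i).obj M) := by
  have : Coh.IsQCoh M := hM
  exact (Ega3B.RpushAbCmp.isZero_RpushAb_iff f M i).1 (S0028.result f M i hi)

/-- The unit `Q (f_* F) ⟶ Rf_* (Q F)` is an isomorphism if `F` is a complex of quasi-coherent modules and
`f` is affine. -/
theorem isIso_rpushUnitQ (f : X ⟶ Y) [IsAffineHom f] [DCoh.HasRpush f]
    (F : CochainComplex X.Modules ℤ) (hq : ∀ n : ℤ, Coh.IsQCoh (F.X n)) :
    IsIso ((rpushUnitQ f).app F) := by
  have := hasInjectiveResolutions X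
  exact isIso_rpushUnitQ_of_acyclic f F hq (fun n i hi => isZero_Rpush f _ (hq n) i hi)

/-- `f_*` inverts a K-injective resolution of a complex of quasi-coherent modules, `f` affine. -/
theorem quasiIso_push (f : X ⟶ Y) [IsAffineHom f]
    (F : CochainComplex X.Modules ℤ) (hq : ∀ n : ℤ, Coh.IsQCoh (F.X n))
    {I : CochainComplex X.Modules ℤ} (t : F ⟶ I) [QuasiIso t] (hI : I.IsKInjective) :
    QuasiIso (((pushforward f).mapHomologicalComplex (ComplexShape.up ℤ)).map t) := by
  have := hasRpush f
  exact quasiIso_push_of_isIso f F (isIso_rpushUnitQ f F hq) t (isIso_rpushUnitQ_app f I hI)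

/-- The case of a morphism of affine schemes. -/
theorem isIso_rpushUnitQ_affine [IsAffine X] [IsAffine Y] (f : X ⟶ Y) [DCoh.HasRpush f]
    (F : CochainComplex X.Modules ℤ) (hq : ∀ n : ℤ, Coh.IsQCoh (F.X n)) :
    IsIso ((rpushUnitQ f).app F) :=
  isIso_rpushUnitQ f F hq

end Groth.Agent.PerfC.AffPushD
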