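import Groth.Agent.PerfC.RelFlat
import Groth.Agent.Dcoh.LDer
import Groth.Agent.Dcoh.LeftRes
import Groth.Agent.Dcoh.FlatRes
import Groth.Prelude.Def_DDual2
import Mathlib.AlgebraicGeometry.Fiber

/-!
# Derived pullback of complexes of modules flat over the base

For a morphism `g : Y ⟶ X` and a class `Pc` of complexes of `O_X`-modules adapted to `g^*` and containing the
bounded above complexes of flat modules (`PullData g Pc`):

* `lpullIso`: `Lg^* (Q K) ≅ Q (g^* K)` for `K` bounded above with flat terms;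
* `isLE_lpull`: `Lg^*` is right t-exact;
* `lpullRelIso`: if `g` is the base change of a morphism `S' ⟶ S` along a flat `f : X ⟶ S`, then
  `Lg^* (Q K) ≅ Q (g^* K)` for `K` bounded above with terms flat over `S`.
-/

set_option autoImplicit false
universe u
open CategoryTheory CategoryTheory.Limits AlgebraicGeometry
attribute [local instance] HasDerivedCategory.standard

namespace Groth.Agent.PerfC.RelFlatLpull

variable {X Y : Scheme.{u}}

/-- A class of complexes computing `Lg^*`, containing the bounded above complexes of flat modules. -/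
structure PullData (g : Y ⟶ X) (Pc : ObjectProperty (CochainComplex X.Modules ℤ)) : Prop where
  adapted : Dcoh.LDer.Adapted (Scheme.Modules.pullback g) Pc
  flat : ∀ (K : CochainComplex X.Modules ℤ) (b : ℤ), (∀ i, b < i → IsZero (K.X i)) →
    (∀ i, FlatMod.IsFlat (K.X i)) → Pc K

/-- The class of flat modules is suitable for left resolutions. -/
theorem goodClass_flat : Dcoh.LeftRes.GoodClass (fun M : X.Modules => FlatMod.IsFlat M) where
  enough M := by
    obtain ⟨P, π, h1, h2⟩ := Dcoh.FlatRes.exists_flat_epi M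
    exact ⟨P, π, h1, h2⟩
  zero _ h := Dcoh.FlatRes.isFlat_of_isZero h
  biprod _ _ h1 h2 := Dcoh.FlatRes.isFlat_biprod h1 h2
  iso e h := Dcoh.FlatRes.isFlat_of_iso e h

variable {g : Y ⟶ X} {Pc : ObjectProperty (CochainComplex X.Modules ℤ)}

/-- The counit `Lg^* (Q K) ⟶ Q (g^* K)`. -/
noncomputable def counit (g : Y ⟶ X) [DCoh.HasLpull g] (K : CochainComplex X.Modules ℤ) :
    (DCoh.Lpull g).obj (DerivedCategory.Q.obj K) ⟶
      DerivedCategory.Q.obj (((Scheme.Modules.pullback g).mapHomologicalComplex (ComplexShape.up ℤ)).obj K) :=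
  Dcoh.LDer.counitQ (F := Scheme.Modules.pullback g) (DCoh.Lpull g)
    ((DCoh.pullKh g).totalLeftDerivedCounit DerivedCategory.Qh
      (HomotopyCategory.quasiIso X.Modules (ComplexShape.up ℤ))) K

@[reassoc]
lemma counit_naturality [DCoh.HasLpull g] {K L : CochainComplex X.Modules ℤ} (φ : K ⟶ L) :
    (DCoh.Lpull g).map (DerivedCategory.Q.map φ) ≫ counit g L =
      counit g K ≫ DerivedCategory.Q.map
        (((Scheme.Modules.pullback g).mapHomologicalComplex (ComplexShape.up ℤ)).map φ) :=
  Dcoh.LDer.counitQ_naturality _ _ φ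

theorem isIso_counit (hA : PullData g Pc) [DCoh.HasLpull g] {K : CochainComplex X.Modules ℤ} (hK : Pc K) :
    IsIso (counit g K) :=
  Dcoh.LDer.isIso_counitQ hA.adapted _ _ hK

/-- The counit is an isomorphism as soon as it is on a resolution which is preserved by `g^*`. -/
theorem isIso_counit_of_quasiIso (hA : PullData g Pc) [DCoh.HasLpull g] {K L : CochainComplex X.Modules ℤ}
    (hL : Pc L) (φ : L ⟶ K) [QuasiIso φ]
    [QuasiIso (((Scheme.Modules.pullback g).mapHomologicalComplex (ComplexShape.up ℤ)).map φ)] :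
    IsIso (counit g K) := by
  have h1 := isIso_counit hA hL
  have h2 := counit_naturality (g := g) φ
  have h3 : IsIso (DerivedCategory.Q.map φ) := inferInstance
  have h4 : IsIso (DerivedCategory.Q.map
        (((Scheme.Modules.pullback g).mapHomologicalComplex (ComplexShape.up ℤ)).map φ)) := inferInstance
  have h5 : IsIso ((DCoh.Lpull g).map (DerivedCategory.Q.map φ) ≫ counit g K) := by
    rw [h2]; infer_instance
  exact IsIso.of_isIso_comp_left ((DCoh.Lpull g).map (DerivedCategory.Q.map φ)) _

/-- `Lg^*` on bounded above complexes of flat modules. -/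
noncomputable def lpullIso (hA : PullData g Pc) [DCoh.HasLpull g] (K : CochainComplex X.Modules ℤ) (b : ℤ)
    (hb : ∀ i, b < i → IsZero (K.X i)) (hK : ∀ i, FlatMod.IsFlat (K.X i)) :
    (DCoh.Lpull g).obj (DerivedCategory.Q.obj K) ≅
      DerivedCategory.Q.obj (((Scheme.Modules.pullback g).mapHomologicalComplex (ComplexShape.up ℤ)).obj K) :=
  have := isIso_counit hA (hA.flat K b hb hK)
  asIso (counit g K)

/-- `Lg^*` is right t-exact. -/
theorem isLE_lpull (hA : PullData g Pc) [DCoh.HasLpull g] (K : DCoh.D X) (n : ℤ) [K.IsLE n] :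
    ((DCoh.Lpull g).obj K).IsLE n := by
  have h0 : (DerivedCategory.Q.objPreimage K).IsLE n := by
    rw [← DerivedCategory.isLE_Q_obj_iff]
    exact DerivedCategory.TStructure.t.isLE_of_iso (DerivedCategory.Q.objObjPreimageIso K).symm n
  obtain ⟨L, p, hL, hflat, hp⟩ := Dcoh.LeftRes.exists_resolution_of_isLE goodClass_flat
    (DerivedCategory.Q.objPreimage K) n
  have e : K ≅ DerivedCategory.Q.obj L :=
    (DerivedCategory.Q.objObjPreimageIso K).symm ≪≫ (asIso (DerivedCategory.Q.map p)).symm
  have e' := (DCoh.Lpull g).mapIso e ≪≫ lpullIso hA L n (fun i hi => L.isZero_of_isStrictlyLE n i hi) hflat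
  have h1 : CochainComplex.IsStrictlyLE
      (((Scheme.Modules.pullback g).mapHomologicalComplex (ComplexShape.up ℤ)).obj L) n := by
    rw [CochainComplex.isStrictlyLE_iff]
    intro i hi
    exact (Scheme.Modules.pullback g).map_isZero (L.isZero_of_isStrictlyLE n i hi)
  have h2 : (DerivedCategory.Q.obj
      (((Scheme.Modules.pullback g).mapHomologicalComplex (ComplexShape.up ℤ)).obj L)).IsLE n := by
    rw [DerivedCategory.isLE_Q_obj_iff]
    infer_instance
  exact DerivedCategory.TStructure.t.isLE_of_iso e'.symm n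

/-- If `T` is distinguished, `H^{n+1}(Lg^* T₂) = 0` and `H^n(Lg^* T₃) = 0`, then `H^{n+1}(Lg^* T₁) = 0`. -/
theorem isZero₁ (hA : PullData g Pc) [DCoh.HasLpull g] (T : Pretriangulated.Triangle (DCoh.D X))
    (hT : T ∈ Pretriangulated.distinguishedTriangles) (n : ℤ)
    (h₂ : IsZero ((DerivedCategory.homologyFunctor Y.Modules (n + 1)).obj ((DCoh.Lpull g).obj T.obj₂)))
    (h₃ : IsZero ((DerivedCategory.homologyFunctor Y.Modules n).obj ((DCoh.Lpull g).obj T.obj₃))) :
    IsZero ((DerivedCategory.homologyFunctor Y.Modules (n + 1)).obj ((DCoh.Lpull g).obj T.obj₁)) :=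
  Dcoh.LDer.isZero₁ hA.adapted (DCoh.Lpull g) ((DCoh.pullKh g).totalLeftDerivedCounit DerivedCategory.Qh
      (HomotopyCategory.quasiIso X.Modules (ComplexShape.up ℤ))) T hT n h₂ h₃

section RelFlat

variable {S S' : Scheme.{u}} {q : Y ⟶ S'} {f : X ⟶ S} {s : S' ⟶ S}

/-- The counit is an isomorphism on bounded above complexes of modules flat over the base. -/
theorem isIso_counit_rel (hA : PullData g Pc) [DCoh.HasLpull g] [Flat f] (H : IsPullback g q f s)
    (K : CochainComplex X.Modules ℤ) (b : ℤ) (hb : ∀ i, b < i → IsZero (K.X i))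
    (hK : ∀ i, FlatMod.IsFlatOver f (K.X i)) : IsIso (counit g K) := by
  have h0 : K.IsStrictlyLE b := by
    rw [CochainComplex.isStrictlyLE_iff]
    exact hb
  obtain ⟨L, p, hL, hflat, -, hp⟩ := Dcoh.LeftRes.exists_resolution_of_isStrictlyLE goodClass_flat K b
  have hbL : ∀ i, b < i → IsZero (L.X i) := fun i hi => L.isZero_of_isStrictlyLE b i hi
  have h1 : QuasiIso (((Scheme.Modules.pullback g).mapHomologicalComplex (ComplexShape.up ℤ)).map p) :=
    (RelFlat.adapted H).quasiIso_map (fun _ _ h h' => RelFlat.isFlatOver_biprod f h h') p b hbL hb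
      (fun i => RelFlat.isFlatOver_of_isFlat f (hflat i)) hK
  exact isIso_counit_of_quasiIso hA (hA.flat L b hbL hflat) p

/-- `Lg^*` on bounded above complexes of modules flat over the base. -/
noncomputable def lpullRelIso (hA : PullData g Pc) [DCoh.HasLpull g] [Flat f] (H : IsPullback g q f s)
    (K : CochainComplex X.Modules ℤ) (b : ℤ) (hb : ∀ i, b < i → IsZero (K.X i))
    (hK : ∀ i, FlatMod.IsFlatOver f (K.X i)) :
    (DCoh.Lpull g).obj (DerivedCategory.Q.obj K) ≅
      DerivedCategory.Q.obj (((Scheme.Modules.pullback g).mapHomologicalComplex (ComplexShape.up ℤ)).obj K) :=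
  have := isIso_counit_rel hA H K b hb hK
  asIso (counit g K)

end RelFlat

end Groth.Agent.PerfC.RelFlatLpull
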