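import Groth.Agent.PerfC.Excision
import Groth.Agent.PerfC.TildeProj
import Groth.Agent.PerfB.KoszulOrth
import Groth.Agent.PerfB.TildeExact

/-!
# Perfect generators with support on an affine scheme
-/

set_option autoImplicit false
universe u
open CategoryTheory CategoryTheory.Limits AlgebraicGeometry Pretriangulated
attribute [local instance] HasDerivedCategory.standard

namespace Groth.Agent.PerfC.Gen
open Groth.Agent.PerfA.Restrict Groth.Agent.PerfA Groth.Agent.PerfC.Supp
open Groth.Agent.PerfC.Excision Groth.Agent.PerfB.KoszulOrth Groth.Agent.PerfB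

/-- Vanishing on an open, in terms of supports. -/
lemma suppP_of_isZero_restrictD {X Y : Scheme.{u}} (j : Y ⟶ X) [IsOpenImmersion j] {K : DCoh.D X}
    (h : IsZero ((restrictD j).obj K)) : suppP (Set.range j)ᶜ K := by
  rintro i x hx ⟨y, rfl⟩
  have h1 : y ∈ supp ((restrictD j).obj K) i := (supp_restrictD j K i).symm ▸ hx
  rw [supp_zero h] at h1
  exact h1

lemma isZero_restrictD_of_suppP {X Y : Scheme.{u}} (j : Y ⟶ X) [IsOpenImmersion j] {K : DCoh.D X}
    (h : suppP (Set.range j)ᶜ K) : IsZero ((restrictD j).obj K) := by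
  rw [isZero_iff_suppP_empty]
  refine suppP_mono ?_ (suppP_restrictD j h)
  rintro y hy
  exact hy ⟨y, rfl⟩

theorem exists_affGen (A : Type u) [CommRing A] (Z : Set (Spec (CommRingCat.of A)))
    (hZ : IsClosed Z) (hZc : IsCompact Zᶜ) :
    ∃ K : DCoh.D (Spec (CommRingCat.of A)), DCoh.IsPerfect K ∧ suppP Z K ∧
      (∀ E, DCoh.IsQCohD E → suppP Z E → orth K E → IsZero E) ∧
      (∀ E, DCoh.IsQCohD E → orth K E → ∀ (C : DCoh.D (Spec (CommRingCat.of A)))
        (_ : suppP Z C) (φ : C ⟶ E), φ = 0) := by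
  obtain ⟨s, hs⟩ := (PrimeSpectrum.isCompact_isOpen_iff (R := A)).1 ⟨hZc, hZ.isOpen_compl⟩
  let fs : List A := s.toList
  have hr : (Set.range (punct fs).ι)ᶜ = Z := by
    rw [Scheme.Opens.range_ι, ← compl_compl Z, ← hs]
    congr 1
    change (PrimeSpectrum.zeroLocus (R := A) (Ideal.span {a | a ∈ fs} : Set A))ᶜ = _
    rw [PrimeSpectrum.zeroLocus_span]
    congr 2
    ext a
    simp [fs]
  have hpres : PreservesFiniteLimits (tilde.functor (CommRingCat.of A)) :=
    TildeExact.preservesFiniteLimits_tilde _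
  have hQp : DCoh.HasRpush (punct fs).ι := OpenAdj.hasRpush _
  refine ⟨(DCoh.tildeD (CommRingCat.of A)).obj (DerivedCategory.Q.obj (Koszul.koszul A fs)),
    ?_, ?_, ?_, ?_⟩
  · obtain ⟨⟨a, b, h1⟩, h2⟩ := (isBddFP_single (A := A) (ModuleCat.of A A) fp_self 0).kosOn fs
    rw [KoszulOn.kosOn_single_eq] at h1 h2
    exact TildeProj.isPerfect_tildeD (CommRingCat.of A) _
      ⟨Koszul.koszul A fs, a, b, h1, fun i => ⟨(h2 i).1,
        (IsProjective.iff_projective (R := A) _).2 (h2 i).2⟩, ⟨Iso.refl _⟩⟩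
  · rw [← hr]
    exact suppP_of_isZero_restrictD _ (isZero_restrictD_koszul fs)
  · intro E hE hEs h
    exact isZero_of_orth fs E hE (isZero_restrictD_of_suppP _ (hr ▸ hEs)) h
  · intro E hE h C hC φ
    have := isIso_unit_of_orth fs E hE h
    rw [← cancel_mono ((OpenAdj.openAdj (punct fs).ι).unit.app E), zero_comp]
    apply ((OpenAdj.openAdj (punct fs).ι).homEquiv _ _).symm.injective
    exact (isZero_restrictD_of_suppP _ (hr ▸ hC)).eq_of_src _ _

end Groth.Agent.PerfC.Gen
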