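import Groth.Agent.CohtopB.DModLoc
import Groth.Agent.PerfA.AffModel
import Groth.Agent.CohtopA.ExactDer
import Groth.Agent.Dcoh.LocalD
import Groth.Agent.PerfB.ModExactCoprod

/-!
# `D_QCoh` of an affine scheme is generated by the structure sheaf as a localizing subcategory
-/

set_option autoImplicit false

universe u

open CategoryTheory CategoryTheory.Limits AlgebraicGeometry Pretriangulated

attribute [local instance] HasDerivedCategory.standard

namespace Groth.Agent.PerfC.AffGen291

open Groth.Agent.PerfA.AffModel Groth.Agent.PerfA.Restrict Groth.Agent.CohtopB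

variable (V : Scheme.{u}) [IsAffine V]

/-- The functor `D(Γ(V, O)) ⥤ D(O_V)` maps the ring to the structure sheaf. -/
theorem modelD_one : Nonempty ((modelD V).obj ((DerivedCategory.singleFunctor _ 0).obj
    (ModuleCat.of Γ(V, ⊤) Γ(V, ⊤))) ≅
      (DerivedCategory.singleFunctor V.Modules 0).obj (Coh.structureModule V)) := by
  let F := tilde.functor Γ(V, ⊤)
  let G := Scheme.Modules.restrictFunctor V.isoSpec.hom
  let e1 : (F.mapDerivedCategory).obj ((DerivedCategory.singleFunctor _ 0).obj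
      (ModuleCat.of Γ(V, ⊤) Γ(V, ⊤))) ≅ (DerivedCategory.singleFunctor _ 0).obj
        (F.obj (ModuleCat.of Γ(V, ⊤) Γ(V, ⊤))) :=
    (F.mapDerivedCategorySingleFunctor 0).app _
  let e2 : (G.mapDerivedCategory).obj ((DerivedCategory.singleFunctor _ 0).obj
        (F.obj (ModuleCat.of Γ(V, ⊤) Γ(V, ⊤)))) ≅ (DerivedCategory.singleFunctor _ 0).obj
          (G.obj (F.obj (ModuleCat.of Γ(V, ⊤) Γ(V, ⊤)))) :=
    (G.mapDerivedCategorySingleFunctor 0).app _
  let e3 : G.obj (F.obj (ModuleCat.of Γ(V, ⊤) Γ(V, ⊤))) ≅ Coh.structureModule V :=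
    G.mapIso (tildeSelf (R := Γ(V, ⊤))) ≪≫ Scheme.Modules.restrictUnitIso V.isoSpec.hom
  exact ⟨(G.mapDerivedCategory).mapIso e1 ≪≫ e2 ≪≫ (DerivedCategory.singleFunctor _ 0).mapIso e3⟩

/-- `D(Γ(V, O)) ⥤ D(O_V)` preserves coproducts. -/
theorem preservesCoproducts_modelD (J : Type u) :
    PreservesColimitsOfShape (Discrete J) (modelD V) := by
  have h1 : PreservesColimitsOfShape (Discrete J) (DCoh.tildeD Γ(V, ⊤)) :=
    CohtopA.ExactDer.preservesCoproducts_mapDerivedCategory _ J
  have h2 : PreservesColimitsOfShape (Discrete J) (restrictD V.isoSpec.hom) :=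
    CohtopA.ExactDer.preservesCoproducts_mapDerivedCategory _ J
  exact Limits.comp_preservesColimitsOfShape _ _

/-- A property of objects of `D(O_V)`, `V` affine, which defines a triangulated subcategory closed
under coproducts of objects with quasi-coherent cohomology and which holds for `O_V` holds for all
the objects with quasi-coherent cohomology. -/
theorem prop_of_isQCohD (P : ObjectProperty (DCoh.D V)) [P.IsTriangulated]
    [P.IsClosedUnderIsomorphisms]
    (hcop : ∀ (J : Type u) (X : J → DCoh.D V) (c : Cofan X) (_ : IsColimit c),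
      (∀ j, DCoh.IsQCohD (X j)) → (∀ j, P (X j)) → P c.pt)
    (h1 : P ((DerivedCategory.singleFunctor V.Modules 0).obj (Coh.structureModule V)))
    (N : DCoh.D V) (hN : DCoh.IsQCohD N) : P N := by
  obtain ⟨M, ⟨e⟩⟩ := exists_iso_modelD V hN
  refine P.prop_of_iso e ?_
  have hsh : ∀ n : ℤ, P ((modelD V).obj (DModLoc.sg Γ(V, ⊤) n)) := by
    intro n
    obtain ⟨e1⟩ := modelD_one V
    let e2 : DModLoc.sg Γ(V, ⊤) n ≅ ((DerivedCategory.singleFunctor _ 0).obj
        (ModuleCat.of Γ(V, ⊤) Γ(V, ⊤)))⟦(-n : ℤ)⟧ :=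
      DerivedCategory.Q.mapIso (((CochainComplex.singleFunctors (ModuleCat.{u} Γ(V, ⊤))).shiftIso
        (-n) n 0 (by simp)).app (ModuleCat.of Γ(V, ⊤) Γ(V, ⊤))).symm ≪≫
      (DerivedCategory.Q.commShiftIso (-n : ℤ)).app _ ≪≫
      (shiftFunctor _ (-n : ℤ)).mapIso
        ((DerivedCategory.singleFunctorIsoCompQ (ModuleCat.{u} Γ(V, ⊤)) 0).symm.app _)
    refine P.prop_of_iso ((modelD V).mapIso e2.symm) ?_
    refine P.prop_of_iso (((modelD V).commShiftIso (-n : ℤ)).symm.app _) ?_
    exact P.le_shift (-n) _ (P.prop_of_iso e1.symm h1)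
  refine DModLoc.prop_of_single Γ(V, ⊤) (fun M => P ((modelD V).obj M)) ?_ ?_ ?_ hsh M
  · intro Y Y' e hY
    exact P.prop_of_iso ((modelD V).mapIso e) hY
  · intro J X hX
    have := preservesCoproducts_modelD V J
    exact hcop J (fun j => (modelD V).obj (X j))
      (Cofan.mk _ (fun j => (modelD V).map (Sigma.ι X j)))
      (isColimitCofanMkObjOfIsColimit (modelD V) X _ (coproductIsCoproduct X))
      (fun j => isQCohD_modelD V _) hX
  · intro T hT h1 h2
    exact P.ext_of_isTriangulatedClosed₃ _ ((modelD V).map_distinguished T hT) h1 h2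

end Groth.Agent.PerfC.AffGen291
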