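import Groth.Agent.PerfC.Supp
import Groth.Agent.PerfC.PerfLocal
import Groth.Agent.S0887
import Groth.Agent.S0889

/-!
# Approximation by perfect complexes: formal part

`App T E m` is the approximation property of Stacks 08EM in "cone form".
-/

set_option autoImplicit false
universe u
open CategoryTheory CategoryTheory.Limits AlgebraicGeometry Pretriangulated
attribute [local instance] HasDerivedCategory.standard

namespace Groth.Agent.PerfC.Approx
open Groth.Agent.PerfA.Restrict Groth.Agent.PerfA Groth.Agent.PerfC.Supp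
open Groth.Agent.PerfC.PerfLocal ZeroObject

variable {X : Scheme.{u}}

/-- There is a perfect object `P` supported on `T` and a morphism `P ⟶ E` whose cone has vanishing
cohomology in degrees `≥ m`. -/
def App (T : Set X) (E : DCoh.D X) (m : ℤ) : Prop :=
  ∃ (P C : DCoh.D X) (α : P ⟶ E) (g : E ⟶ C) (h : C ⟶ P⟦(1 : ℤ)⟧),
    Triangle.mk α g h ∈ distinguishedTriangles ∧ DCoh.IsPerfect P ∧
      (∀ i : ℤ, supp P i ⊆ T) ∧ ∀ i : ℤ, m ≤ i → IsZero (DCoh.HD C i)

lemma App.mono_set {T T' : Set X} (h : T ⊆ T') {E : DCoh.D X} {m : ℤ} (H : App T E m) :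
    App T' E m := by
  obtain ⟨P, C, α, g, k, hT, hP, hs, hC⟩ := H
  exact ⟨P, C, α, g, k, hT, hP, fun i => (hs i).trans h, hC⟩

lemma App.out {T : Set X} {E : DCoh.D X} {m : ℤ} (H : App T E m) :
    ∃ (P : DCoh.D X) (α : P ⟶ E), DCoh.IsPerfect P ∧
      (∀ i : ℤ, CohB1.support (DCoh.HD P i) ⊆ T) ∧
      (∀ i : ℤ, m < i → IsIso ((DerivedCategory.homologyFunctor X.Modules i).map α)) ∧
        Epi ((DerivedCategory.homologyFunctor X.Modules m).map α) := by
  obtain ⟨P, C, α, g, k, hT, hP, hs, hC⟩ := H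
  have hepi : ∀ i : ℤ, m ≤ i → Epi ((DerivedCategory.homologyFunctor X.Modules i).map α) := by
    intro i hi
    exact (DerivedCategory.HomologySequence.epi_homologyMap_mor₁_iff _ hT i).2
      ((hC i hi).eq_of_tgt _ _)
  refine ⟨P, α, hP, hs, fun i hi => ?_, hepi m le_rfl⟩
  have h1 := hepi i hi.le
  have h2 : Mono ((DerivedCategory.homologyFunctor X.Modules i).map α) :=
    (DerivedCategory.HomologySequence.mono_homologyMap_mor₁_iff _ hT (i - 1) i (by lia)).2
      ((hC (i - 1) (by lia)).eq_of_src _ _)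
  exact isIso_of_mono_of_epi _

lemma app_of_isZero {T : Set X} {E : DCoh.D X} {m : ℤ}
    (h : ∀ i : ℤ, m ≤ i → IsZero (DCoh.HD E i)) : App T E m := by
  refine ⟨0, E, 0, 𝟙 E, 0, ?_, perf_of_isZero (isZero_zero _), fun i => ?_, h⟩
  · exact contractible_distinguished₁ E
  · rw [supp_zero (isZero_zero _)]; exact Set.empty_subset _

lemma App.of_iso {T : Set X} {E E' : DCoh.D X} {m : ℤ} (e : E ≅ E') (H : App T E m) :
    App T E' m := by
  obtain ⟨P, C, α, g, k, hT, hP, hs, hC⟩ := H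
  refine ⟨P, C, α ≫ e.hom, e.inv ≫ g, k, isomorphic_distinguished _ hT _ ?_, hP, hs, hC⟩
  refine Triangle.isoMk _ _ (Iso.refl P) e.symm (Iso.refl C) ?_ ?_ ?_
  · exact (Category.assoc _ _ _).trans ((congrArg (α ≫ ·) e.hom_inv_id).trans
      ((Category.comp_id _).trans (Category.id_comp α).symm))
  · exact Category.comp_id (e.inv ≫ g)
  · exact (congrArg (k ≫ ·) (CategoryTheory.Functor.map_id _ P)).trans
      ((Category.comp_id k).trans (Category.id_comp k).symm)

/-- If `Q ⟶ E ⟶ E' ⟶ Q[1]` is distinguished with `Q` perfect supported on `T`, then an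
approximation of `E'` gives one of `E`. -/
lemma App.of_cone {T : Set X} {Q E E' : DCoh.D X} {m : ℤ} {f : Q ⟶ E} {g : E ⟶ E'}
    {h : E' ⟶ Q⟦(1 : ℤ)⟧} (hT : Triangle.mk f g h ∈ distinguishedTriangles)
    (hQ : DCoh.IsPerfect Q) (hQT : ∀ i : ℤ, supp Q i ⊆ T) (H : App T E' m) : App T E m := by
  obtain ⟨P', C, α, g', k, hT', hP', hs', hC⟩ := H
  obtain ⟨P, β, w, hP⟩ := distinguished_cocone_triangle₁ (g ≫ g')
  -- octahedral axiom for `g`, `g'`
  have o := Triangulated.someOctahedron (show g ≫ g' = _ from rfl)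
    (rot_of_distTriang _ hT) (rot_of_distTriang _ hT') (rot_of_distTriang _ hP)
  have h3 := o.mem
  have hPerf : DCoh.IsPerfect (P⟦(1 : ℤ)⟧) :=
    (Groth.Agent.S0887.result _ h3).2.1 (perf_shift hQ 1) (perf_shift hP' 1)
  have hPerf' : DCoh.IsPerfect P :=
    perf_of_iso ((shiftEquiv _ (1 : ℤ)).unitIso.symm.app P) (perf_shift hPerf (-1))
  refine ⟨P, C, β, g ≫ g', w, hP, hPerf', fun i => ?_, hC⟩
  have h4 := supp_obj₂ _ h3 (i - 1)
  change supp (P⟦(1 : ℤ)⟧) (i - 1) ⊆ supp (Q⟦(1 : ℤ)⟧) (i - 1) ∪ supp (P'⟦(1 : ℤ)⟧) (i - 1) at h4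
  rw [supp_shift _ _ _ i (by lia), supp_shift _ _ _ i (by lia), supp_shift _ _ _ i (by lia)] at h4
  exact h4.trans (Set.union_subset (hQT i) (hs' i))

/-- The approximation property of Stacks 08EN for a given closed subset and integer. -/
def AppR (X : Scheme.{u}) (T : Set X) (r : ℤ) : Prop :=
  ∀ (m : ℤ) (E : DCoh.D X), DCoh.IsQCohD E → DCoh.IsPseudoCoherentD (m - r) E →
      (∀ i : ℤ, m - r ≤ i → supp E i ⊆ T) → App T E m

end Groth.Agent.PerfC.Approx
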