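import Groth.Agent.PerfC.KosFactor

/-!
# Elements of `H^t(M)` come from morphisms `A[-t] ⟶ M`
-/

set_option autoImplicit false
universe u
open CategoryTheory CategoryTheory.Limits Pretriangulated
attribute [local instance] HasDerivedCategory.standard

namespace Groth.Agent.PerfC.HomOne
open Groth.Agent.PerfC.KosFactor

variable {A : Type u} [CommRing A]

set_option backward.isDefEq.respectTransparency false in
lemma exists_chainMap (F : CochainComplex (ModuleCat.{u} A) ℤ) (x : F.homology 0) :
    ∃ (φ : (CochainComplex.singleFunctor (ModuleCat.{u} A) 0).obj (ModuleCat.of A A) ⟶ F)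
      (y : ((CochainComplex.singleFunctor (ModuleCat.{u} A) 0).obj (ModuleCat.of A A)).homology 0),
      HomologicalComplex.homologyMap φ 0 y = x := by
  obtain ⟨z, rfl⟩ := (ModuleCat.epi_iff_surjective (F.homologyπ 0)).1 inferInstance x
  let a : ModuleCat.of A A ⟶ F.cycles 0 := ModuleCat.ofHom (LinearMap.toSpanSingleton A _ z)
  let φ : (CochainComplex.singleFunctor (ModuleCat.{u} A) 0).obj (ModuleCat.of A A) ⟶ F :=
    HomologicalComplex.mkHomFromSingle (a ≫ F.iCycles 0) (by
      intro k _
      rw [Category.assoc, HomologicalComplex.iCycles_d, comp_zero])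
  let e : ((CochainComplex.singleFunctor (ModuleCat.{u} A) 0).obj (ModuleCat.of A A)).X 0 ≅
      ModuleCat.of A A := HomologicalComplex.singleObjXSelf (ComplexShape.up ℤ) 0 _
  have hd : ((CochainComplex.singleFunctor (ModuleCat.{u} A) 0).obj (ModuleCat.of A A)).d 0 1 = 0 := by
    apply HomologicalComplex.single_obj_d
  have hcyc0 : e.inv ≫
      ((CochainComplex.singleFunctor (ModuleCat.{u} A) 0).obj (ModuleCat.of A A)).d 0 1 = 0 := by
    rw [hd, Limits.comp_zero]
  let c := ((CochainComplex.singleFunctor (ModuleCat.{u} A) 0).obj (ModuleCat.of A A)).liftCycles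
    e.inv 1 (by simp) hcyc0
  refine ⟨φ, (c ≫ HomologicalComplex.homologyπ _ 0) (1 : A), ?_⟩
  have h1 : c ≫ HomologicalComplex.cyclesMap φ 0 = a := by
    rw [← cancel_mono (F.iCycles 0), Category.assoc, HomologicalComplex.cyclesMap_i,
      HomologicalComplex.liftCycles_i_assoc]
    simp [φ, e, HomologicalComplex.mkHomFromSingle_f]
  have h2 : (c ≫ HomologicalComplex.homologyπ _ 0) ≫ HomologicalComplex.homologyMap φ 0 =
      a ≫ F.homologyπ 0 := by
    rw [Category.assoc, HomologicalComplex.homologyπ_naturality, ← Category.assoc, h1]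
  have h3 := congrArg (fun ψ => ψ (1 : A)) h2
  refine h3.trans ?_
  change F.homologyπ 0 ((1 : A) • z) = _
  rw [one_smul]

/-- Every element of `H^0(M)` is in the image of `H^0(φ)` for some `φ : A[0] ⟶ M`. -/
lemma exists_hom_zero (M : Dual.D A)
    (x : (DerivedCategory.homologyFunctor (ModuleCat.{u} A) 0).obj M) :
    ∃ (φ : one A ⟶ M) (y : (DerivedCategory.homologyFunctor (ModuleCat.{u} A) 0).obj (one A)),
      (DerivedCategory.homologyFunctor (ModuleCat.{u} A) 0).map φ y = x := by
  obtain ⟨F, ⟨e⟩⟩ :=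
    (inferInstance : (DerivedCategory.Q (C := ModuleCat.{u} A)).EssSurj).mem_essImage M
  let H := DerivedCategory.homologyFunctor (ModuleCat.{u} A) 0
  let η := DerivedCategory.homologyFunctorFactors (ModuleCat.{u} A) 0
  obtain ⟨φ, y, hy⟩ := exists_chainMap F (η.hom.app F (H.map e.inv x))
  have h1 := DerivedCategory.homologyFunctorFactors_hom_naturality φ 0
  have h2 : H.map (DerivedCategory.Q.map φ) (η.inv.app _ y) = H.map e.inv x := by
    have h3 := congrArg (fun ψ => ψ (η.inv.app _ y)) h1
    have h4 : η.hom.app F (H.map (DerivedCategory.Q.map φ) (η.inv.app _ y)) =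
        η.hom.app F (H.map e.inv x) := by
      refine h3.trans (Eq.trans ?_ hy)
      change HomologicalComplex.homologyMap φ 0 ((η.inv.app _ ≫ η.hom.app _) y) = _
      rw [Iso.inv_hom_id_app]
      rfl
    have h5 := congrArg (η.inv.app F) h4
    have h6 : ∀ z, η.inv.app F (η.hom.app F z) = z := fun z => by
      change (η.hom.app F ≫ η.inv.app F) z = z
      rw [Iso.hom_inv_id_app]; rfl
    rw [h6, h6] at h5
    exact h5
  have key : H.map (DerivedCategory.Q.map φ ≫ e.hom) (η.inv.app _ y) = x := by
    rw [Functor.map_comp]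
    change H.map e.hom (H.map (DerivedCategory.Q.map φ) (η.inv.app _ y)) = x
    rw [h2]
    change (H.map e.inv ≫ H.map e.hom) x = x
    rw [← Functor.map_comp, Iso.inv_hom_id, CategoryTheory.Functor.map_id]
    rfl
  exact ⟨DerivedCategory.Q.map φ ≫ e.hom, η.inv.app _ y, key⟩

end Groth.Agent.PerfC.HomOne
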