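import Groth.Agent.PerfC.Approx
import Groth.Agent.PerfC.HomOne
import Groth.Agent.PerfA.TildeSupp
import Groth.Agent.Ega1.FTAffine
import Groth.Agent.S0890
import Groth.Agent.S0997

/-!
# Approximation by perfect complexes on affine schemes (Stacks 08EQ)
-/

set_option autoImplicit false
universe u
open CategoryTheory CategoryTheory.Limits AlgebraicGeometry Pretriangulated
attribute [local instance] HasDerivedCategory.standard

namespace Groth.Agent.PerfC.ApproxAffine
open Groth.Agent.PerfA.Restrict Groth.Agent.PerfA Groth.Agent.PerfC.Supp Groth.Agent.PerfC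
open Groth.Agent.PerfC.PerfLocal Groth.Agent.PerfC.KosFactor Groth.Agent.PerfC.Approx
open Groth.Agent.PerfA.TildeSupp Groth.Agent.CohqB

variable {R : CommRingCat.{u}}

/-- `D(A) ⥤ D(O_{Spec A})`. -/
noncomputable abbrev tD (R : CommRingCat.{u}) : DerivedCategory (ModuleCat.{u} R) ⥤ DCoh.D (Spec R) :=
  DCoh.tildeD R

lemma isFinLocFree_structureModule (X : Scheme.{u}) :
    FlatMod.IsFinLocFree (Coh.structureModule X) := by
  refine PcLocal.isFinLocFree_of_iso ?_ (PcLocal.isFinLocFree_freeMod (X := X) 1)
  exact (Limits.coproductUniqueIso (fun _ : Fin 1 => Coh.structureModule X))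

lemma isStrictlyPerfect_tilde_single :
    DCoh.IsStrictlyPerfect (((tilde.functor R).mapHomologicalComplex (ComplexShape.up ℤ)).obj
      ((CochainComplex.singleFunctor (ModuleCat.{u} R) 0).obj (ModuleCat.of R R))) := by
  have h0 : ∀ i : ℤ, i ≠ 0 → IsZero ((((tilde.functor R).mapHomologicalComplex
      (ComplexShape.up ℤ)).obj ((CochainComplex.singleFunctor (ModuleCat.{u} R) 0).obj
        (ModuleCat.of R R))).X i) := fun i hi =>
    (tilde.functor R).map_isZero
      (HomologicalComplex.isZero_single_obj_X (ComplexShape.up ℤ) 0 (ModuleCat.of R R) i hi)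
  refine ⟨⟨0, 0, fun i hi => h0 i (by rintro rfl; simp at hi)⟩, fun i => ?_⟩
  by_cases hi : i = 0
  · subst hi
    refine PcLocal.isFinLocFree_of_iso ?_ (isFinLocFree_structureModule (Spec R))
    exact (tildeSelf (R := R)).symm ≪≫ (tilde.functor R).mapIso
      (HomologicalComplex.singleObjXSelf (ComplexShape.up ℤ) 0 (ModuleCat.of R R)).symm
  · exact PcLocal.isFinLocFree_of_isZero (h0 i hi)

/-- `O_X[0]` is perfect. -/
lemma isPerfect_tD_one : DCoh.IsPerfect ((tD R).obj (one R)) := by
  refine perf_of_iso ?_ (isPerfect_Q isStrictlyPerfect_tilde_single)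
  exact ((tilde.functor R).mapDerivedCategoryFactors.app _).symm

lemma isPerfect_tD_of_isKos (l : List R) : ∀ (K : Dual.D R), IsKos l K →
    DCoh.IsPerfect ((tD R).obj K) := by
  induction l with
  | nil =>
    rintro K ⟨e⟩
    exact perf_of_iso ((tD R).mapIso e.symm) isPerfect_tD_one
  | cons g l ih =>
    rintro K ⟨K', n, a, b, hK', hT⟩
    exact (Groth.Agent.S0887.result _ ((tD R).map_distinguished _ hT)).1 (ih K' hK') (ih K' hK')

/-- The closed subset defined by a list. -/
abbrev ZL (l : List R) : Set (Spec R) :=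
  PrimeSpectrum.zeroLocus {a | a ∈ l}

lemma not_mem_supp_iff (M : Dual.D R) (i : ℤ) (x : Spec R) :
    x ∉ supp ((tD R).obj M) i ↔ VanAt ((DerivedCategory.homologyFunctor (ModuleCat.{u} R) i).obj M) x := by
  have h1 : supp ((tD R).obj M) i = CohB1.support (tilde
      ((DerivedCategory.homologyFunctor (ModuleCat.{u} R) i).obj M)) :=
    DevSupport.support_congr (HDtilde M i)
  rw [h1]
  exact (DevSupport.not_mem_support_iff_isZero _ _).trans (isZero_stalk_tilde_iff _ x)

lemma supp_subset_iff (l : List R) (M : Dual.D R) (i : ℤ) :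
    supp ((tD R).obj M) i ⊆ ZL l ↔ ∀ f ∈ l, Tors f M i := by
  constructor
  · intro h f hf
    refine (forall_vanAt_iff _ f).1 fun x hx => ?_
    refine (not_mem_supp_iff M i x).1 fun hx' => ?_
    exact hx (h hx' hf)
  · intro h x hx
    intro f hf
    by_contra hfx
    exact (not_mem_supp_iff M i x).2 ((forall_vanAt_iff _ f).2 (h f hf) x hfx) hx

lemma isZero_HD_tD {M : Dual.D R} {i : ℤ}
    (h : IsZero ((DerivedCategory.homologyFunctor (ModuleCat.{u} R) i).obj M)) :
    IsZero (DCoh.HD ((tD R).obj M) i) :=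
  ((tilde.functor R).map_isZero h).of_iso (HDtilde M i)

/-- Shifted form of the factorization through Koszul type objects. -/
lemma exists_factor_shift (l : List R) (M : Dual.D R) (t : ℤ)
    (h : ∀ f ∈ l, ∀ i : ℤ, t - (l.length : ℤ) < i → i ≤ t → Tors f M i)
    (x : (DerivedCategory.homologyFunctor (ModuleCat.{u} R) t).obj M) :
    ∃ (Q : Dual.D R) (b : Q ⟶ M) (y : (DerivedCategory.homologyFunctor (ModuleCat.{u} R) t).obj Q),
      (DerivedCategory.homologyFunctor (ModuleCat.{u} R) t).map b y = x ∧
      DCoh.IsPerfect ((tD R).obj Q) ∧ (∀ f ∈ l, ∀ i : ℤ, Tors f Q i) ∧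
      ∀ i : ℤ, t < i → IsZero ((DerivedCategory.homologyFunctor (ModuleCat.{u} R) i).obj Q) := by
  let x' := (HDshift M t 0 t (by simp)).inv x
  obtain ⟨φ, y', hy'⟩ := HomOne.exists_hom_zero (M⟦t⟧) x'
  obtain ⟨K, a, b', hK, rfl⟩ := exists_factor l (M⟦t⟧) (fun f hf i hi hi' =>
    (tors_shift_iff M t i (t + i) rfl).2 (h f hf (t + i) (by lia) (by lia))) φ
  let Q : Dual.D R := K⟦(-t)⟧
  let e : Q⟦t⟧ ≅ K := (shiftEquiv (Dual.D R) t).counitIso.app K
  obtain ⟨b, hb⟩ := (shiftFunctor (Dual.D R) t).map_surjective (e.hom ≫ b')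
  let H0 := DerivedCategory.homologyFunctor (ModuleCat.{u} R) 0
  let w' : H0.obj (Q⟦t⟧) := H0.map e.inv (H0.map a y')
  refine ⟨Q, b, (HDshift Q t 0 t (by simp)).hom w', ?_, ?_, ?_, ?_⟩
  · have h1 : H0.map (b⟦t⟧') w' = x' := by
      rw [← hy', hb]
      change (H0.map e.inv ≫ H0.map (e.hom ≫ b')) (H0.map a y') = H0.map (a ≫ b') y'
      rw [← Functor.map_comp, Iso.inv_hom_id_assoc, Functor.map_comp]
      rfl
    have h2 : (HDshift Q t 0 t (by simp)).hom ≫
        (DerivedCategory.homologyFunctor (ModuleCat.{u} R) t).map b =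
        H0.map (b⟦t⟧') ≫ (HDshift M t 0 t (by simp)).hom :=
      ((H0.shiftIso t 0 t (by simp)).hom.naturality b).symm
    have h3 := congrArg (fun ψ => ψ w') h2
    refine h3.trans ?_
    change (HDshift M t 0 t (by simp)).hom (H0.map (b⟦t⟧') w') = x
    rw [h1]
    change ((HDshift M t 0 t (by simp)).inv ≫ (HDshift M t 0 t (by simp)).hom) x = x
    rw [Iso.inv_hom_id]
    rfl
  · exact perf_of_iso (((tD R).commShiftIso (-t)).app K).symm
      (perf_shift (isPerfect_tD_of_isKos l K hK) (-t))
  · intro f hf i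
    exact (tors_shift_iff K (-t) i (-t + i) rfl).2 (tors_of_isKos l K hK f hf _)
  · intro i hi
    exact (isZero_of_isKos l K hK (-t + i) (by lia)).of_iso (HDshift K (-t) i (-t + i) rfl)

theorem approx_tD (l : List R) (m : ℤ) (k : ℕ) : ∀ (M : Dual.D R),
    DCoh.IsPseudoCoherentD (m - l.length) ((tD R).obj M) →
    (∀ i : ℤ, m + k ≤ i → IsZero ((DerivedCategory.homologyFunctor (ModuleCat.{u} R) i).obj M)) →
    (∀ f ∈ l, ∀ i : ℤ, m - l.length ≤ i → Tors f M i) → App (ZL l) ((tD R).obj M) m := by
  induction k with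
  | zero =>
    intro M _ h0 _
    exact app_of_isZero fun i hi => isZero_HD_tD (h0 i (by simpa using hi))
  | succ k ih =>
    -- inner induction on the number of generators of the top cohomology
    have key : ∀ (N : ℕ) (M : Dual.D R),
        DCoh.IsPseudoCoherentD (m - l.length) ((tD R).obj M) →
        (∀ i : ℤ, m + k < i → IsZero ((DerivedCategory.homologyFunctor (ModuleCat.{u} R) i).obj M)) →
        (∀ f ∈ l, ∀ i : ℤ, m - l.length ≤ i → Tors f M i) →
        (∃ s : Fin N → (DerivedCategory.homologyFunctor (ModuleCat.{u} R) (m + k)).obj M,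
          Submodule.span R (Set.range s) = ⊤) → App (ZL l) ((tD R).obj M) m := by
      intro N
      induction N with
      | zero =>
        rintro M hpc h0 ht ⟨s, hs⟩
        refine ih M hpc (fun i hi => ?_) ht
        rcases hi.eq_or_lt with rfl | hi
        · refine @ModuleCat.isZero_of_subsingleton _ _ _ ?_
          rw [Set.range_eq_empty, Submodule.span_empty] at hs
          exact (Submodule.subsingleton_iff R).1 (subsingleton_iff_bot_eq_top.1 hs)
        · exact h0 i hi
      | succ N ihN =>
        rintro M hpc h0 ht ⟨s, hs⟩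
        obtain ⟨Q, b, y, hy, hQ, hQt, hQ0⟩ := exists_factor_shift l M (m + k)
          (fun f hf i hi _ => ht f hf i (by lia)) (s 0)
        obtain ⟨M', g, h, hT⟩ := distinguished_cocone_triangle b
        refine App.of_cone ((tD R).map_distinguished _ hT) hQ
          (fun i => (supp_subset_iff l Q i).2 fun f hf => hQt f hf i) (ihN M' ?_ ?_ ?_ ?_)
        · exact (Groth.Agent.S0889.result _ _ ((tD R).map_distinguished _ hT)).1
            (pc_of_perf hQ _) hpc
        · intro i hi
          exact (DerivedCategory.HomologySequence.exact₃ _ hT i (i + 1) rfl).isZero_of_both_zeros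
            ((h0 i hi).eq_of_src _ _) ((hQ0 (i + 1) (by lia)).eq_of_tgt _ _)
        · intro f hf i hi
          exact tors_obj₃ _ hT i (i + 1) rfl (ht f hf i hi) (hQt f hf _)
        · let Hk := DerivedCategory.homologyFunctor (ModuleCat.{u} R) (m + k)
          have hsurj : Function.Surjective (Hk.map g) := by
            refine (ModuleCat.epi_iff_surjective _).1 ?_
            exact (DerivedCategory.HomologySequence.epi_homologyMap_mor₂_iff _ hT (m + k)
              (m + k + 1) rfl).2 ((hQ0 _ (by lia)).eq_of_tgt _ _)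
          refine ⟨fun j => Hk.map g (s j.succ), ?_⟩
          have h1 : (Submodule.span R (Set.range s)).map (Hk.map g).hom = ⊤ := by
            rw [hs, Submodule.map_top, LinearMap.range_eq_top]
            exact hsurj
          rw [eq_top_iff, ← h1, Submodule.map_span, Submodule.span_le]
          rintro _ ⟨_, ⟨j, rfl⟩, rfl⟩
          refine Fin.cases ?_ (fun j => ?_) j
          · have h2 : Hk.map g (s 0) = 0 := by
              rw [← hy]
              change (Hk.map b ≫ Hk.map g) y = 0
              have h3 : b ≫ g = 0 := comp_distTriang_mor_zero₁₂ _ hT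
              rw [← Functor.map_comp, h3, Functor.map_zero]
              rfl
            change Hk.map g (s 0) ∈ _
            rw [h2]
            exact Submodule.zero_mem _
          · exact Submodule.subset_span ⟨j, rfl⟩
    intro M hpc h0 ht
    have h0' : ∀ i : ℤ, m + k < i →
        IsZero ((DerivedCategory.homologyFunctor (ModuleCat.{u} R) i).obj M) := fun i hi =>
      h0 i (by push_cast; lia)
    have hft : CohB1.IsFT (DCoh.HD ((tD R).obj M) (m + k)) :=
      (Groth.Agent.S0890.result (m + k) _
        (PcLocal.pc_mono (by lia) hpc)).1 fun i hi => isZero_HD_tD (h0' i hi)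
    have hfin : Module.Finite R
        ((DerivedCategory.homologyFunctor (ModuleCat.{u} R) (m + k)).obj M) :=
      Groth.Agent.Ega1.FTAffine.finite_of_isFiniteType _ (HDtilde M (m + k)) hft
    obtain ⟨N, s, hs⟩ := Module.Finite.exists_fin (R := R)
      (M := (DerivedCategory.homologyFunctor (ModuleCat.{u} R) (m + k)).obj M)
    exact key N M hpc h0' ht ⟨s, hs⟩

end Groth.Agent.PerfC.ApproxAffine
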