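import Groth.Agent.PerfC.ApproxAffine
import Groth.Agent.PerfA.QCohSerre

/-!
# Approximation by perfect complexes on affine schemes, continued; transfer along isomorphisms
-/

set_option autoImplicit false
universe u
open CategoryTheory CategoryTheory.Limits AlgebraicGeometry Pretriangulated
attribute [local instance] HasDerivedCategory.standard

namespace Groth.Agent.PerfC.ApproxAffine2
open Groth.Agent.PerfA.Restrict Groth.Agent.PerfA Groth.Agent.PerfC.Supp Groth.Agent.PerfC
open Groth.Agent.PerfC.PerfLocal Groth.Agent.PerfC.KosFactor Groth.Agent.PerfC.Approx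
open Groth.Agent.PerfA.TildeSupp Groth.Agent.CohqB Groth.Agent.PerfC.ApproxAffine
open Groth.Agent.PerfC.PcLocal AlgebraicGeometry.Scheme.Modules

variable {X Y : Scheme.{u}}

lemma isQCohD_restrictD (j : Y ⟶ X) [IsOpenImmersion j] {K : DCoh.D X} (h : DCoh.IsQCohD K) :
    DCoh.IsQCohD ((restrictD j).obj K) := fun i =>
  QCohSerre.isQCoh_of_iso (HDrestrict j K i).symm (QCohSerre.isQCoh_restrict j (h i))

lemma isQCohD_of_iso {K L : DCoh.D X} (e : K ≅ L) (h : DCoh.IsQCohD K) : DCoh.IsQCohD L := fun i =>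
  QCohSerre.isQCoh_of_iso ((DerivedCategory.homologyFunctor _ i).mapIso e) (h i)

lemma App.restrict (j : Y ⟶ X) [IsOpenImmersion j] {T : Set X} {E : DCoh.D X} {m : ℤ}
    (H : App T E m) : App (j ⁻¹' T) ((restrictD j).obj E) m := by
  obtain ⟨P, C, α, g, k, hT, hP, hs, hC⟩ := H
  refine ⟨_, _, _, _, _, (restrictD j).map_distinguished _ hT, perf_restrict j hP, fun i => ?_,
    fun i hi => ?_⟩
  · change supp ((restrictD j).obj P) i ⊆ _
    rw [supp_restrictD]
    exact Set.preimage_mono (hs i)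
  · exact ((restrictFunctor j).map_isZero (hC i hi)).of_iso (HDrestrict j C i)

/-- Restriction along an isomorphism is essentially surjective. -/
noncomputable def restrictInvIso (j : Y ⟶ X) [IsIso j] (E : DCoh.D Y) :
    (restrictD j).obj ((restrictD (inv j)).obj E) ≅ E :=
  (restrictDComp j (inv j)).app E ≪≫ (restrictDCongr (IsIso.hom_inv_id j)).app E ≪≫
    (ExactD.mapDIso restrictFunctorId).app E ≪≫ (ExactD.mapDId _).app E

lemma appR_of_isIso (j : Y ⟶ X) [IsIso j] {T : Set X} {r : ℤ} (h : AppR X T r) :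
    AppR Y (j ⁻¹' T) r := by
  intro m E hQ hpc hs
  refine App.of_iso (restrictInvIso j E) (App.restrict j (h m _ (isQCohD_restrictD _ hQ)
    (pc_restrict _ hpc) fun i hi => ?_))
  rw [supp_restrictD]
  intro x hx
  have h1 := hs i hi hx
  have h2 : j ((inv j) x) = x := by
    change ((inv j) ≫ j) x = x
    rw [IsIso.inv_hom_id]; rfl
  rwa [Set.mem_preimage, h2] at h1

/-- A pseudo-coherent object on a quasi-compact scheme is bounded above. -/
lemma exists_bound_of_pc [CompactSpace X] {m : ℤ} {E : DCoh.D X}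
    (h : DCoh.IsPseudoCoherentD m E) : ∃ b : ℤ, ∀ i : ℤ, b < i → IsZero (DCoh.HD E i) := by
  have key : ∀ x : X, ∃ (V : X.Opens) (b : ℤ), x ∈ V ∧ ∀ i : ℤ, b < i →
      IsZero (DCoh.HD ((restrictD V.ι).obj E) i) := by
    intro x
    obtain ⟨V, hx, F, α, hF, h1, -⟩ := (pc_iff m E).1 h x
    obtain ⟨a, b, -, hb⟩ := exists_bounds_of_isStrictlyPerfect F hF
    refine ⟨V, max b m, hx, fun i hi => ?_⟩
    have := h1 i ((le_max_right _ _).trans_lt hi)
    exact (DerivedCategory.isZero_of_isLE _ b i ((le_max_left _ _).trans_lt hi)).of_iso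
      (asIso ((DerivedCategory.homologyFunctor _ i).map α)).symm
  choose V b hxV hb using key
  obtain ⟨t, ht⟩ := CompactSpace.elim_nhds_subcover (fun x => (V x : Set X))
    (fun x => (V x).isOpen.mem_nhds (hxV x))
  obtain ⟨B, hB⟩ : ∃ B : ℤ, ∀ x ∈ t, b x ≤ B := by
    obtain ⟨B, hB⟩ := (t.finite_toSet.image b).bddAbove
    exact ⟨B, fun x hx => hB ⟨x, hx, rfl⟩⟩
  refine ⟨B, fun i hi => isZero_of_restrict_opens _ fun y => ?_⟩
  have : y ∈ (⊤ : Set X) := trivial
  rw [← ht] at this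
  obtain ⟨x, hx, hy⟩ : ∃ x ∈ t, y ∈ V x := by simpa using this
  exact ⟨V x, hy, (hb x i ((hB x hx).trans_lt hi)).of_iso (HDrestrict _ E i).symm⟩

variable {R : CommRingCat.{u}}

theorem appR_spec (l : List R) : AppR (Spec R) (ZL l) l.length := by
  intro m E hQ hpc hs
  obtain ⟨M, ⟨e⟩⟩ := ((Groth.Agent.S0997.result R).2.2 E).1 hQ
  obtain ⟨b, hb⟩ := exists_bound_of_pc hpc
  refine App.of_iso e (approx_tD l m (b + 1 - m).toNat M (pc_of_iso e.symm hpc) ?_ ?_)
  · intro i hi
    have h1 : IsZero ((tilde.functor R).obj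
        ((DerivedCategory.homologyFunctor (ModuleCat.{u} R) i).obj M)) :=
      (hb i (by lia)).of_iso ((HDtilde M i).symm ≪≫
        (DerivedCategory.homologyFunctor _ i).mapIso e)
    rw [IsZero.iff_id_eq_zero] at h1 ⊢
    apply (tilde.functor R).map_injective
    rw [CategoryTheory.Functor.map_id, h1, Functor.map_zero]
  · intro f hf i hi
    refine (supp_subset_iff l M i).1 ?_ f hf
    have h1 := hs i hi
    rwa [supp_congr e.symm i] at h1

/-- Approximation by perfect complexes on affine schemes. -/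
theorem exists_appR_of_isAffine [IsAffine X] (T : Set X) (hT : IsClosed T) (hTc : IsCompact Tᶜ) :
    ∃ r : ℕ, AppR X T r := by
  let e : X ⟶ Spec Γ(X, ⊤) := X.isoSpec.hom
  let T' : Set (Spec Γ(X, ⊤)) := (inv e) ⁻¹' T
  have he : ∀ x, (inv e) (e x) = x := fun x => by
    change (e ≫ inv e) x = x
    rw [IsIso.hom_inv_id]; rfl
  have he' : ∀ x, e ((inv e) x) = x := fun x => by
    change (inv e ≫ e) x = x
    rw [IsIso.inv_hom_id]; rfl
  have h0 : T'ᶜ = e '' Tᶜ := by
    ext x
    constructor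
    · intro hx
      exact ⟨(inv e) x, hx, he' x⟩
    · rintro ⟨y, hy, rfl⟩
      change (inv e) (e y) ∉ T
      rwa [he]
  have h1 : IsOpen T'ᶜ ∧ IsCompact T'ᶜ :=
    ⟨(hT.preimage (inv e).continuous).isOpen_compl, h0 ▸ hTc.image e.continuous⟩
  obtain ⟨t, ht⟩ := (PrimeSpectrum.isCompact_isOpen_iff (s := T'ᶜ)).1 ⟨h1.2, h1.1⟩
  refine ⟨t.toList.length, ?_⟩
  have h2 := appR_of_isIso e (appR_spec t.toList)
  have h3 : (ZL t.toList : Set (Spec Γ(X, ⊤))) = T' := by
    have h4 := compl_injective ht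
    rw [← h4]
    change PrimeSpectrum.zeroLocus {a | a ∈ t.toList} = _
    congr 1
    ext a
    simp
  have h5 : e ⁻¹' T' = T := by
    ext x
    change (inv e) (e x) ∈ T ↔ _
    rw [he]
  rwa [h3, h5] at h2

end Groth.Agent.PerfC.ApproxAffine2
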