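import Groth.Agent.PerfC.Approx
import Groth.Agent.PerfC.ExtZeroD

/-!
# Extension by zero of approximations (Stacks 08EP)
-/

set_option autoImplicit false
universe u
open CategoryTheory CategoryTheory.Limits AlgebraicGeometry Pretriangulated
attribute [local instance] HasDerivedCategory.standard

namespace Groth.Agent.PerfC.ApproxExt
open Groth.Agent.PerfA.Restrict Groth.Agent.PerfA Groth.Agent.PerfC.Supp Groth.Agent.PerfC
open Groth.Agent.PerfC.PerfLocal Groth.Agent.PerfC.Approx Groth.Agent.PerfC.ExtZeroD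
open Groth.Agent.PerfC.PcLocal AlgebraicGeometry.Scheme.Modules

variable {X Y : Scheme.{u}}

lemma isZero_of_supp_empty {K : DCoh.D X} (h : ∀ i, supp K i = ∅) : IsZero K := by
  rw [ExactD.isZero_iff]
  exact fun i => (supp_eq_empty_iff K i).1 (h i)

/-- `j_! P` is perfect if `P` is, provided the supports of `j_! P` are contained in a closed subset
contained in the range of `j`. -/
lemma isPerfect_shriekD (j : Y ⟶ X) [IsOpenImmersion j] {P : DCoh.D Y} (hP : DCoh.IsPerfect P)
    (T : Set X) (hT : IsClosed T) (hTj : T ⊆ Set.range j) (hs : ∀ i, supp P i ⊆ j ⁻¹' T) :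
    DCoh.IsPerfect ((shriekD j).obj P) := by
  refine perf_of_cover _ fun x => ?_
  by_cases hx : x ∈ Set.range j
  · obtain ⟨y, rfl⟩ := hx
    exact ⟨Y, j, inferInstance, y, rfl, perf_of_iso (unitIso j P) hP⟩
  · let W : X.Opens := ⟨Tᶜ, hT.isOpen_compl⟩
    refine ⟨W, W.ι, inferInstance, ⟨x, fun h => hx (hTj h)⟩, rfl, perf_of_isZero ?_⟩
    refine isZero_of_supp_empty fun i => ?_
    rw [supp_restrictD, supp_shriekD, Set.eq_empty_iff_forall_notMem]
    rintro ⟨w, hw⟩ ⟨y, hy, hyw⟩
    have h1 : j y ∈ T := hs i hy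
    have h2 : j y = w := hyw
    rw [h2] at h1
    exact hw h1

/-- Stacks 08EP. -/
theorem App.extend (j : Y ⟶ X) [IsOpenImmersion j] {T : Set X} (hT : IsClosed T)
    (hTj : T ⊆ Set.range j) {E : DCoh.D X} {m : ℤ} (hE : ∀ i, m ≤ i → supp E i ⊆ T)
    (H : App (j ⁻¹' T) ((restrictD j).obj E) m) : App T E m := by
  obtain ⟨P, C, α, g, k, hTr, hP, hs, hC⟩ := H
  let R := (shriekD j).obj P
  let β : R ⟶ E := ((adjunction j).homEquiv P E).symm α
  have hβ : (unitIso j P).hom ≫ (restrictD j).map β = α := by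
    have h1 := (adjunction j).homEquiv_unit (f := β)
    rw [Equiv.apply_symm_apply] at h1
    exact h1.symm
  obtain ⟨C', g', k', hT'⟩ := distinguished_cocone_triangle β
  have hR : ∀ i, supp R i ⊆ T := fun i => by
    rw [supp_shriekD]
    rintro _ ⟨y, hy, rfl⟩
    exact hs i hy
  refine ⟨R, C', β, g', k', hT', isPerfect_shriekD j hP T hT hTj hs, hR, fun i hi => ?_⟩
  rw [← supp_eq_empty_iff, Set.eq_empty_iff_forall_notMem]
  intro x hx
  by_cases hxj : x ∈ Set.range j
  · obtain ⟨y, rfl⟩ := hxj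
    have e : Triangle.mk α g k ≅ (restrictD j).mapTriangle.obj (Triangle.mk β g' k') :=
      isoTriangleOfIso₁₂ _ _ hTr ((restrictD j).map_distinguished _ hT') (unitIso j P)
        (Iso.refl _) ((Category.comp_id _).trans hβ.symm)
    have e3 : C ≅ (restrictD j).obj C' := Triangle.π₃.mapIso e
    have h2 : y ∈ supp C i := by
      rw [supp_congr e3, supp_restrictD]
      exact hx
    rw [(supp_eq_empty_iff C i).2 (hC i hi)] at h2
    exact h2
  · rcases supp_obj₃ _ hT' i (i + 1) rfl hx with h | h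
    · exact hxj (hTj (hE i hi h))
    · exact hxj (hTj (hR _ h))

end Groth.Agent.PerfC.ApproxExt
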