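import Groth.Agent.PerfC.ApproxExt
import Groth.Agent.PerfC.ApproxAffine2
import Groth.Agent.PerfC.ExtendMap
import Groth.Agent.PerfA.QCohD

/-!
# Approximation by perfect complexes: the induction step (Stacks 08ER)
-/

set_option autoImplicit false
universe u
open CategoryTheory CategoryTheory.Limits AlgebraicGeometry Pretriangulated
attribute [local instance] HasDerivedCategory.standard

namespace Groth.Agent.PerfC.ApproxStep
open Groth.Agent.PerfA.Restrict Groth.Agent.PerfA Groth.Agent.PerfC.Supp Groth.Agent.PerfC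
open Groth.Agent.PerfC.PerfLocal Groth.Agent.PerfC.Approx Groth.Agent.PerfC.ExtZeroD
open Groth.Agent.PerfC.PcLocal AlgebraicGeometry.Scheme.Modules Groth.Agent.PerfC.ApproxAffine2

variable {X : Scheme.{u}}

lemma isZero_HD_biprod {K L : DCoh.D X} {i : ℤ} (h₁ : IsZero (DCoh.HD K i))
    (h₂ : IsZero (DCoh.HD L i)) : IsZero (DCoh.HD (K ⊞ L) i) := by
  have hT := binaryBiproductTriangle_distinguished K L
  exact (DerivedCategory.HomologySequence.exact₂ _ hT i).isZero_of_both_zeros
    (h₁.eq_of_src _ _) (h₂.eq_of_tgt _ _)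

theorem step [CompactSpace X] [QuasiSeparatedSpace X] (U V : X.Opens) (hUV : U ⊔ V = ⊤)
    (hU : IsCompact (U : Set X)) (hV : IsAffineOpen V) (T : Set X) (hT : IsClosed T)
    (hTc : IsCompact Tᶜ) (rU rV : ℕ) (hrU : AppR (U : Scheme.{u}) (U.ι ⁻¹' T) rU)
    (hrV : AppR (V : Scheme.{u}) (V.ι ⁻¹' (T ∩ (U : Set X)ᶜ)) rV) :
    AppR X T ((rU + rV : ℕ) : ℤ) := by
  intro m E hQ hpc hs
  have hcpt : CompactSpace (U : Scheme.{u}) := isCompact_iff_compactSpace.1 hU
  obtain ⟨b, hb⟩ := exists_bound_of_pc (pc_restrict U.ι hpc)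
  have key : ∀ (N : ℕ) (E : DCoh.D X), DCoh.IsQCohD E →
      DCoh.IsPseudoCoherentD (m - ((rU + rV : ℕ) : ℤ)) E →
      (∀ i : ℤ, m - ((rU + rV : ℕ) : ℤ) ≤ i → supp E i ⊆ T) →
      (∀ i : ℤ, m - rV + N ≤ i → IsZero (DCoh.HD ((restrictD U.ι).obj E) i)) → App T E m := by
    intro N
    induction N with
    | zero =>
      intro E hQ hpc hs h0
      have hE : ∀ i : ℤ, m - rV ≤ i → supp E i ⊆ T ∩ (U : Set X)ᶜ := by
        intro i hi x hx
        refine ⟨hs i (by push_cast; lia) hx, fun hxU => ?_⟩
        have h1 := (supp_eq_empty_iff _ i).2 (h0 i (by simpa using hi))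
        rw [supp_restrictD] at h1
        have h2 : (⟨x, hxU⟩ : U) ∈ U.ι ⁻¹' supp E i := hx
        rw [h1] at h2
        exact h2
      refine App.mono_set Set.inter_subset_left (ApproxExt.App.extend V.ι
        (hT.inter U.isOpen.isClosed_compl) ?_ (fun i hi => hE i (by lia))
        (hrV m _ (isQCohD_restrictD _ hQ) (pc_mono (by push_cast; lia) (pc_restrict _ hpc)) ?_))
      · rintro x ⟨-, hxU⟩
        have : x ∈ (U ⊔ V : X.Opens) := by rw [hUV]; trivial
        rcases this with h | h
        · exact absurd h hxU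
        · exact ⟨⟨x, h⟩, rfl⟩
      · intro i hi
        rw [supp_restrictD]
        exact Set.preimage_mono (hE i hi)
    | succ N ih =>
      intro E hQ hpc hs h0
      obtain ⟨P, C, α, g, k, hTr, hP, hPs, hC⟩ := hrU (m - rV) ((restrictD U.ι).obj E)
        (isQCohD_restrictD _ hQ)
        (pc_mono (by push_cast; lia) (pc_restrict _ hpc)) (fun i hi => by
          rw [supp_restrictD]
          exact Set.preimage_mono (hs i (by push_cast; lia)))
      obtain ⟨R, β, e, hR, hRs, hβ⟩ := ExtendMap.extendMap_of_affine U V hUV hU hV T hT hTc E hQ P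
        hP hPs α
      obtain ⟨E', g', k', hT'⟩ := distinguished_cocone_triangle β
      refine App.of_cone hT' hR hRs (ih E' ?_ ?_ ?_ ?_)
      · exact QCohD.isQCohD_ext₃ _ hT' (QCohD.isQCohD_of_isPerfect R hR) hQ
      · exact (Groth.Agent.S0889.result _ _ hT').1 (pc_of_perf hR _) hpc
      · intro i hi
        exact (supp_obj₃ _ hT' i (i + 1) rfl).trans
          (Set.union_subset (hs i hi) (hRs _))
      · intro i hi
        have hP0 : ∀ j : ℤ, m - rV + N + 1 ≤ j → IsZero (DCoh.HD P j) := fun j hj =>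
          (DerivedCategory.HomologySequence.exact₁ _ hTr (j - 1) j (by lia)).isZero_of_both_zeros
            ((hC (j - 1) (by lia)).eq_of_src _ _) ((h0 j (by push_cast; lia)).eq_of_tgt _ _)
        have hR0 : IsZero (DCoh.HD ((restrictD U.ι).obj R) (i + 1)) := by
          refine IsZero.of_iso ?_ ((DerivedCategory.homologyFunctor _ (i + 1)).mapIso e)
          exact isZero_HD_biprod (hP0 _ (by lia))
            ((hP0 (i + 2) (by lia)).of_iso (HDshift P 1 (i + 1) (i + 2) (by lia)))
        have hT2 := (restrictD U.ι).map_distinguished _ hT'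
        have hepi : Epi ((DerivedCategory.homologyFunctor _ i).map ((restrictD U.ι).map β)) := by
          have h1 : Epi ((DerivedCategory.homologyFunctor _ i).map α) :=
            (DerivedCategory.HomologySequence.epi_homologyMap_mor₁_iff _ hTr i).2
              ((hC i (by lia)).eq_of_tgt _ _)
          have h2 : (restrictD U.ι).map β = e.hom ≫ biprod.fst ≫ α := hβ
          rw [h2, Functor.map_comp, Functor.map_comp]
          infer_instance
        refine (DerivedCategory.HomologySequence.exact₃ _ hT2 i (i + 1) rfl).isZero_of_both_zeros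
          ?_ (hR0.eq_of_tgt _ _)
        exact (DerivedCategory.HomologySequence.epi_homologyMap_mor₁_iff _ hT2 i).1 hepi
  refine key (b + 1 - (m - rV)).toNat E hQ hpc hs fun i hi => hb i (by lia)

end Groth.Agent.PerfC.ApproxStep
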