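import Mathlib.Algebra.Homology.BifunctorShift
import Mathlib.Algebra.Homology.GrothendieckAbelian
import Mathlib.CategoryTheory.Abelian.Subobject
import Mathlib.CategoryTheory.Adjunction.AdjointFunctorTheorems

/-!
# Total complexes of bifunctors: preservation of colimits, right adjoints

`G : C₁ ⥤ C₂ ⥤ D`.  If the partial functors `G.flip.obj (K.X q)` preserve colimits of shape `J` then
so does `G.map₂CochainComplex.flip.obj K` (and similarly for the other variable).  By the special
adjoint functor theorem these functors have right adjoints when the source is Grothendieck abelian.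
-/

set_option autoImplicit false
set_option backward.defeqAttrib.useBackward true
set_option backward.isDefEq.respectTransparency false

universe v v₁ v₂ v₃ u₁ u₂ u₃ w w'

open CategoryTheory CategoryTheory.Limits

namespace Groth.Agent.PerfC.BifAdj

open HomologicalComplex

section Colim

variable {C₁ : Type u₁} {C₂ : Type u₂} {D : Type u₃} [Category.{v₁} C₁] [Category.{v₂} C₂]
  [Category.{v₃} D] [Preadditive C₁] [Preadditive C₂] [Preadditive D]
  (F : C₁ ⥤ C₂ ⥤ D) [F.Additive] [∀ (X₁ : C₁), (F.obj X₁).Additive]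
  [∀ (K₁ : CochainComplex C₁ ℤ) (K₂ : CochainComplex C₂ ℤ), CochainComplex.HasMapBifunctor K₁ K₂ F]
  {J : Type w} [Category.{w'} J]

section First

variable (K₂ : CochainComplex C₂ ℤ)
  [∀ q, PreservesColimitsOfShape J (F.flip.obj (K₂.X q))]
  {R : J ⥤ CochainComplex C₁ ℤ} {c : Cocone R}

/-- Auxiliary cocone. -/
noncomputable abbrev cocone₁ (n : ℤ)
    (s : Cocone ((R ⋙ F.map₂CochainComplex.flip.obj K₂) ⋙ eval D (ComplexShape.up ℤ) n))
    (p q : ℤ) (h : p + q = n) :
    Cocone ((R ⋙ eval C₁ (ComplexShape.up ℤ) p) ⋙ F.flip.obj (K₂.X q)) where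
  pt := s.pt
  ι :=
    { app := fun j => CochainComplex.ιMapBifunctor (R.obj j) K₂ F p q n h ≫ s.ι.app j
      naturality := fun i j f => by
        have := s.w f
        dsimp at this ⊢
        rw [← this]
        simp }

/-- `- ⊗ K₂` preserves a colimit degreewise. -/
noncomputable def isColimit₁ (hc : IsColimit c)
    [∀ p, PreservesColimitsOfShape J (eval C₁ (ComplexShape.up ℤ) p)] (n : ℤ) :
    IsColimit (((F.map₂CochainComplex.flip.obj K₂) ⋙ eval D (ComplexShape.up ℤ) n).mapCocone c) where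
  desc s := mapBifunctorDesc (K₁ := c.pt) (K₂ := K₂) (F := F) (c := ComplexShape.up ℤ)
    (fun p q h => (isColimitOfPreserves (F.flip.obj (K₂.X q))
      (isColimitOfPreserves (eval C₁ (ComplexShape.up ℤ) p) hc)).desc (cocone₁ F K₂ n s p q h))
  fac s j := by
    refine mapBifunctor.hom_ext (fun p q h => ?_)
    have := (isColimitOfPreserves (F.flip.obj (K₂.X q))
      (isColimitOfPreserves (eval C₁ (ComplexShape.up ℤ) p) hc)).fac (cocone₁ F K₂ n s p q h) j
    dsimp at this ⊢
    simp [this]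
  uniq s m hm := by
    refine mapBifunctor.hom_ext (fun p q h => ?_)
    refine (isColimitOfPreserves (F.flip.obj (K₂.X q))
      (isColimitOfPreserves (eval C₁ (ComplexShape.up ℤ) p) hc)).hom_ext (fun j => ?_)
    have := (isColimitOfPreserves (F.flip.obj (K₂.X q))
      (isColimitOfPreserves (eval C₁ (ComplexShape.up ℤ) p) hc)).fac (cocone₁ F K₂ n s p q h) j
    have h2 := hm j
    dsimp at this h2 ⊢
    simp [this, ← h2]

include F in
lemma preservesColimitsOfShape_flip_obj [HasColimitsOfShape J C₁] :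
    PreservesColimitsOfShape J (F.map₂CochainComplex.flip.obj K₂) :=
  preservesColimitsOfShape_of_eval _ (fun n =>
    ⟨fun {R} => ⟨fun hc => ⟨isColimit₁ F K₂ (R := R) hc n⟩⟩⟩)

end First

section Second

variable (K₁ : CochainComplex C₁ ℤ)
  [∀ p, PreservesColimitsOfShape J (F.obj (K₁.X p))]
  {R : J ⥤ CochainComplex C₂ ℤ} {c : Cocone R}

/-- Auxiliary cocone. -/
noncomputable abbrev cocone₂ (n : ℤ)
    (s : Cocone ((R ⋙ F.map₂CochainComplex.obj K₁) ⋙ eval D (ComplexShape.up ℤ) n))
    (p q : ℤ) (h : p + q = n) :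
    Cocone ((R ⋙ eval C₂ (ComplexShape.up ℤ) q) ⋙ F.obj (K₁.X p)) where
  pt := s.pt
  ι :=
    { app := fun j => CochainComplex.ιMapBifunctor K₁ (R.obj j) F p q n h ≫ s.ι.app j
      naturality := fun i j f => by
        have := s.w f
        dsimp at this ⊢
        rw [← this]
        simp }

/-- `K₁ ⊗ -` preserves a colimit degreewise. -/
noncomputable def isColimit₂ (hc : IsColimit c)
    [∀ p, PreservesColimitsOfShape J (eval C₂ (ComplexShape.up ℤ) p)] (n : ℤ) :
    IsColimit (((F.map₂CochainComplex.obj K₁) ⋙ eval D (ComplexShape.up ℤ) n).mapCocone c) where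
  desc s := mapBifunctorDesc (K₁ := K₁) (K₂ := c.pt) (F := F) (c := ComplexShape.up ℤ)
    (fun p q h => (isColimitOfPreserves (F.obj (K₁.X p))
      (isColimitOfPreserves (eval C₂ (ComplexShape.up ℤ) q) hc)).desc (cocone₂ F K₁ n s p q h))
  fac s j := by
    refine mapBifunctor.hom_ext (fun p q h => ?_)
    have := (isColimitOfPreserves (F.obj (K₁.X p))
      (isColimitOfPreserves (eval C₂ (ComplexShape.up ℤ) q) hc)).fac (cocone₂ F K₁ n s p q h) j
    dsimp at this ⊢
    simp [this]
  uniq s m hm := by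
    refine mapBifunctor.hom_ext (fun p q h => ?_)
    refine (isColimitOfPreserves (F.obj (K₁.X p))
      (isColimitOfPreserves (eval C₂ (ComplexShape.up ℤ) q) hc)).hom_ext (fun j => ?_)
    have := (isColimitOfPreserves (F.obj (K₁.X p))
      (isColimitOfPreserves (eval C₂ (ComplexShape.up ℤ) q) hc)).fac (cocone₂ F K₁ n s p q h) j
    have h2 := hm j
    dsimp at this h2 ⊢
    simp [this, ← h2]

include F in
lemma preservesColimitsOfShape_obj [HasColimitsOfShape J C₂] :
    PreservesColimitsOfShape J (F.map₂CochainComplex.obj K₁) :=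
  preservesColimitsOfShape_of_eval _ (fun n =>
    ⟨fun {R} => ⟨fun hc => ⟨isColimit₂ F K₁ (R := R) hc n⟩⟩⟩)

end Second

end Colim

section Adj

/-- Adjoint functor theorem for a Grothendieck abelian category (with morphisms in `Type v`). -/
lemma isLeftAdjoint_of_preservesColimits {C : Type u₁} [Category.{v} C] [Abelian C]
    [IsGrothendieckAbelian.{v} C] {D : Type u₂} [Category.{v} D] (T : C ⥤ D)
    [PreservesColimitsOfSize.{v, v} T] : T.IsLeftAdjoint :=
  isLeftAdjoint_of_preservesColimits_of_isSeparating (isSeparator_separator C) T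

variable {C₁ : Type u₁} {C₂ : Type u₂} {D : Type u₃} [Category.{v} C₁] [Category.{v₂} C₂]
  [Category.{v} D] [Abelian C₁] [IsGrothendieckAbelian.{v} C₁]
  [Preadditive C₂] [Preadditive D]
  (F : C₁ ⥤ C₂ ⥤ D) [F.Additive] [∀ (X₁ : C₁), (F.obj X₁).Additive]
  [∀ (K₁ : CochainComplex C₁ ℤ) (K₂ : CochainComplex C₂ ℤ), CochainComplex.HasMapBifunctor K₁ K₂ F]

/-- `- ⊗ K₂` is a left adjoint on complexes if each `- ⊗ K₂^q` preserves colimits. -/
theorem isLeftAdjoint_flip_obj (K₂ : CochainComplex C₂ ℤ)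
    [∀ q, PreservesColimitsOfSize.{v, v} (F.flip.obj (K₂.X q))] :
    (F.map₂CochainComplex.flip.obj K₂).IsLeftAdjoint := by
  have : PreservesColimitsOfSize.{v, v} (F.map₂CochainComplex.flip.obj K₂) :=
    ⟨fun {J} _ => preservesColimitsOfShape_flip_obj F K₂⟩
  exact isLeftAdjoint_of_preservesColimits _

end Adj

section Adj'

variable {C₁ : Type u₁} {C₂ : Type u₂} {D : Type u₃} [Category.{v₁} C₁] [Category.{v} C₂]
  [Category.{v} D] [Abelian C₂] [IsGrothendieckAbelian.{v} C₂]
  [Preadditive C₁] [Preadditive D]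
  (F : C₁ ⥤ C₂ ⥤ D) [F.Additive] [∀ (X₁ : C₁), (F.obj X₁).Additive]
  [∀ (K₁ : CochainComplex C₁ ℤ) (K₂ : CochainComplex C₂ ℤ), CochainComplex.HasMapBifunctor K₁ K₂ F]

/-- `K₁ ⊗ -` is a left adjoint on complexes if each `K₁^p ⊗ -` preserves colimits. -/
theorem isLeftAdjoint_obj (K₁ : CochainComplex C₁ ℤ)
    [∀ p, PreservesColimitsOfSize.{v, v} (F.obj (K₁.X p))] :
    (F.map₂CochainComplex.obj K₁).IsLeftAdjoint := by
  have : PreservesColimitsOfSize.{v, v} (F.map₂CochainComplex.obj K₁) :=
    ⟨fun {J} _ => preservesColimitsOfShape_obj F K₁⟩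
  exact isLeftAdjoint_of_preservesColimits _

end Adj'

end Groth.Agent.PerfC.BifAdj
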