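import Groth.Agent.PerfC.DInd
import Groth.Agent.PerfB.CoprodDerived

/-!
# Induced functors on derived categories and coproducts
-/

set_option autoImplicit false

universe w w₁ w₂ v₁ v₂ v₃ u₁ u₂ u₃

open CategoryTheory Category Limits

namespace Groth.Agent.PerfC.DIndCoprod

open Groth.Agent.Dcoh.CxFun Groth.Agent.PerfC.DInd Groth.Agent.PerfB.CoprodDerived

variable {A : Type u₁} [Category.{v₁} A] [Abelian A] [HasDerivedCategory.{w₁} A]
  {B : Type u₂} [Category.{v₂} B] [Abelian B] [HasDerivedCategory.{w₂} B]
  {E : Type u₃} [Category.{v₃} E]
  (J : Type w) [HasCoproductsOfShape J A] [HasExactColimitsOfShape (Discrete J) A]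
  [HasCoproductsOfShape J B] [HasExactColimitsOfShape (Discrete J) B]

/-- `Q` preserves exact coproducts. -/
instance preservesCoproducts_Q :
    PreservesColimitsOfShape (Discrete J) (DerivedCategory.Q (C := A)) := by
  suffices ∀ K : J → CochainComplex A ℤ,
      PreservesColimit (Discrete.functor K) (DerivedCategory.Q (C := A)) from
    preservesColimitsOfShape_of_discrete _
  intro K
  refine preservesColimit_of_preserves_colimit_cocone (coproductIsCoproduct K) ?_
  exact (isColimitMapCoconeCofanMkEquiv DerivedCategory.Q K (Sigma.ι K)).symm (isColimitQCofan K)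

omit [HasCoproductsOfShape J B] [HasExactColimitsOfShape (Discrete J) B] [Abelian B] [HasDerivedCategory.{w₂} B] [Category.{v₂} B] in
/-- A functor on the derived category preserves coproducts if it does so on complexes. -/
theorem preservesCoproducts_of_comp (F : DerivedCategory A ⥤ E)
    [PreservesColimitsOfShape (Discrete J) (DerivedCategory.Q ⋙ F)] :
    PreservesColimitsOfShape (Discrete J) F := by
  suffices ∀ K : J → DerivedCategory A, PreservesColimit (Discrete.functor K) F from
    preservesColimitsOfShape_of_discrete _
  intro K
  let K' : J → CochainComplex A ℤ := fun j => DerivedCategory.Q.objPreimage (K j)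
  let e : Discrete.functor K' ⋙ DerivedCategory.Q ≅ Discrete.functor K :=
    Discrete.natIso fun j => DerivedCategory.Q.objObjPreimageIso (K j.as)
  suffices PreservesColimit (Discrete.functor K' ⋙ DerivedCategory.Q) F from
    preservesColimit_of_iso_diagram F e
  exact preservesColimit_of_preserves_colimit_cocone
    (isColimitOfPreserves DerivedCategory.Q (coproductIsCoproduct K'))
    (isColimitOfPreserves (DerivedCategory.Q ⋙ F) (coproductIsCoproduct K'))

instance preservesCoproducts_ind (G : CochainComplex A ℤ ⥤ CochainComplex B ℤ) [HtpyFunctor G]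
    [PresQis G] [PreservesColimitsOfShape (Discrete J) G] :
    PreservesColimitsOfShape (Discrete J) (ind G) := by
  have : PreservesColimitsOfShape (Discrete J) (DerivedCategory.Q ⋙ ind G) :=
    preservesColimitsOfShape_of_natIso (indFactors G).symm
  exact preservesCoproducts_of_comp J (ind G)

end Groth.Agent.PerfC.DIndCoprod
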