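import Groth.Agent.PerfC.DBif
import Groth.Agent.PerfC.IsoLocus
import Groth.Agent.PerfC.DIndCoprod

/-!
# The derived bifunctor is triangulated and preserves coproducts in each variable
-/

set_option autoImplicit false

universe w w₁ w₂ w₃ v₁ v₂ v₃ u₁ u₂ u₃

open CategoryTheory Category Limits

namespace Groth.Agent.PerfC.DBif

open Groth.Agent.Dcoh.CxFun Groth.Agent.PerfC.DInd Groth.Agent.Dcoh.DerAbs Groth.Agent.PerfC.IsoLocus
  Groth.Agent.PerfC.DIndCoprod

variable {A : Type u₁} [Category.{v₁} A] [Abelian A] [HasDerivedCategory.{w₁} A]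
  {B : Type u₂} [Category.{v₂} B] [Abelian B] [HasDerivedCategory.{w₂} B]
  {C : Type u₃} [Category.{v₃} C] [Abelian C] [HasDerivedCategory.{w₃} C]
  {G : CochainComplex A ℤ ⥤ CochainComplex B ℤ ⥤ CochainComplex C ℤ}
  {P : ObjectProperty (CochainComplex A ℤ)} (h : BifData G P) [HasLT G]

omit [HasDerivedCategory A] [HasDerivedCategory B] [HasDerivedCategory C] [HasLT G] in
include h in
lemma BifData.presQis_obj {K : CochainComplex A ℤ} (hK : P K) : PresQis (G.obj K) where
  quasiIso_map f hf := h.quasiIso_obj K hK f hf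

section first

variable [∀ K : CochainComplex A ℤ, HtpyFunctor (G.obj K)]

/-- Every `K ⊗ᴸ -` is isomorphic to an induced functor. -/
lemma exists_LT_obj_iso (X : DerivedCategory A) : ∃ (K : CochainComplex A ℤ) (_ : PresQis (G.obj K)),
    P K ∧ Nonempty (ind (G.obj K) ≅ (LT h).obj X) := by
  obtain ⟨K, w, hK, hw⟩ := h.exists_res (DerivedCategory.Q.objPreimage X)
  have i' : IsIso (DerivedCategory.Q.map w) := (DerivedCategory.isIso_Q_map_iff_quasiIso A _).2 hw
  let u : DerivedCategory.Q.obj K ≅ X :=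
    asIso (DerivedCategory.Q.map w) ≪≫ DerivedCategory.Q.objObjPreimageIso X
  have := h.presQis_obj hK
  exact ⟨K, this, hK, ⟨(LTP h K hK).symm ≪≫ (LT h).mapIso u⟩⟩

lemma isTriang_LT_obj [∀ K : CochainComplex A ℤ, (G.obj K).CommShift ℤ]
    [∀ K : CochainComplex A ℤ, (G.obj K).PreservesZeroMorphisms]
    [∀ K : CochainComplex A ℤ, SplitTriFunctor (G.obj K)] (X : DerivedCategory A) :
    IsTriang ((LT h).obj X) := by
  obtain ⟨K, _, hK, ⟨e⟩⟩ := exists_LT_obj_iso h X
  exact (IsTriang.mk' (ind (G.obj K))).of_iso e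

lemma preservesCoproducts_LT_obj (J : Type w)
    [HasCoproductsOfShape J B] [HasExactColimitsOfShape (Discrete J) B]
    [HasCoproductsOfShape J C] [HasExactColimitsOfShape (Discrete J) C]
    [∀ K : CochainComplex A ℤ, PreservesColimitsOfShape (Discrete J) (G.obj K)]
    (X : DerivedCategory A) :
    PreservesColimitsOfShape (Discrete J) ((LT h).obj X) := by
  obtain ⟨K, _, hK, ⟨e⟩⟩ := exists_LT_obj_iso h X
  exact preservesColimitsOfShape_of_natIso e

end first

section second

include h in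
omit [HasDerivedCategory A] [HasDerivedCategory B] [HasDerivedCategory C] [HasLT G] in
lemma BifData.htpy_flip' (E : CochainComplex B ℤ) : HtpyFunctor (G.flip.obj E) := h.htpy_flip E

/-- `- ⊗ᴸ E` is induced by `- ⊗ E` when the latter preserves quasi-isomorphisms. -/
noncomputable def LTfP (E : CochainComplex B ℤ) [HtpyFunctor (G.flip.obj E)]
    [PresQis (G.flip.obj E)] : (LTf h).obj (DerivedCategory.Q.obj E) ≅ ind (G.flip.obj E) :=
  letI : Localization.Lifting DerivedCategory.Q
      (HomologicalComplex.quasiIso A (ComplexShape.up ℤ)) (G.flip.obj E ⋙ DerivedCategory.Q)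
      ((LTf h).obj (DerivedCategory.Q.obj E)) :=
    ⟨NatIso.ofComponents (fun K => @asIso _ _ _ _ (κ h K E) (isIso_κ' h K E))
      (fun w => κ_nat₁ h w E)⟩
  Localization.liftNatIso DerivedCategory.Q (HomologicalComplex.quasiIso A (ComplexShape.up ℤ))
    (G.flip.obj E ⋙ DerivedCategory.Q) (G.flip.obj E ⋙ DerivedCategory.Q) _ _ (Iso.refl _)

variable (hE : ∀ E : CochainComplex B ℤ, ∃ (E' : CochainComplex B ℤ) (w : E' ⟶ E),
  PresQis (G.flip.obj E') ∧ QuasiIso w)

include hE in
lemma exists_LTf_obj_iso (Y : DerivedCategory B) : ∃ (E : CochainComplex B ℤ)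
    (_ : HtpyFunctor (G.flip.obj E)) (_ : PresQis (G.flip.obj E)),
    Nonempty (ind (G.flip.obj E) ≅ (LTf h).obj Y) := by
  obtain ⟨E, w, hE, hw⟩ := hE (DerivedCategory.Q.objPreimage Y)
  have i' : IsIso (DerivedCategory.Q.map w) := (DerivedCategory.isIso_Q_map_iff_quasiIso B _).2 hw
  let u : DerivedCategory.Q.obj E ≅ Y :=
    asIso (DerivedCategory.Q.map w) ≪≫ DerivedCategory.Q.objObjPreimageIso Y
  have := h.htpy_flip E
  exact ⟨E, this, hE, ⟨(LTfP h E).symm ≪≫ (LTf h).mapIso u⟩⟩

include hE in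
lemma isTriang_LTf_obj [∀ E : CochainComplex B ℤ, (G.flip.obj E).CommShift ℤ]
    [∀ E : CochainComplex B ℤ, (G.flip.obj E).PreservesZeroMorphisms]
    [∀ E : CochainComplex B ℤ, SplitTriFunctor (G.flip.obj E)] (Y : DerivedCategory B) :
    IsTriang ((LTf h).obj Y) := by
  obtain ⟨E, _, _, ⟨e⟩⟩ := exists_LTf_obj_iso h hE Y
  exact (IsTriang.mk' (ind (G.flip.obj E))).of_iso e

include hE in
lemma preservesCoproducts_LTf_obj (J : Type w)
    [HasCoproductsOfShape J A] [HasExactColimitsOfShape (Discrete J) A]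
    [HasCoproductsOfShape J C] [HasExactColimitsOfShape (Discrete J) C]
    [∀ E : CochainComplex B ℤ, PreservesColimitsOfShape (Discrete J) (G.flip.obj E)]
    (Y : DerivedCategory B) :
    PreservesColimitsOfShape (Discrete J) ((LTf h).obj Y) := by
  obtain ⟨E, _, _, ⟨e⟩⟩ := exists_LTf_obj_iso h hE Y
  exact preservesColimitsOfShape_of_natIso e

end second

end Groth.Agent.PerfC.DBif
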