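import Groth.Agent.PerfC.ExtZeroD
import Groth.Agent.PerfC.PerfLocal
import Groth.Agent.PerfA.QCohD
import Mathlib.CategoryTheory.Triangulated.Subcategory

/-!
# Extension by zero of perfect objects supported on a closed subset of the ambient scheme
-/

set_option autoImplicit false
universe u
open CategoryTheory CategoryTheory.Limits AlgebraicGeometry Pretriangulated
attribute [local instance] HasDerivedCategory.standard
open scoped ZeroObject

namespace Groth.Agent.PerfC.Excision
open Groth.Agent.PerfA.Restrict Groth.Agent.PerfA Groth.Agent.CohqB Groth.Agent.PerfC.Supp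
open Groth.Agent.PerfC.PcLocal AlgebraicGeometry.Scheme.Modules Groth.Agent.PerfC.ExtZeroD
open Groth.Agent.PerfC.PerfLocal

section

variable {X : Scheme.{u}}

/-- The objects of `D(O_X)` whose cohomology sheaves are supported on `T`. -/
def suppP (T : Set X) : ObjectProperty (DCoh.D X) := fun K => ∀ i, supp K i ⊆ T

instance (T : Set X) : (suppP T).IsClosedUnderIsomorphisms :=
  ⟨fun e h i => (supp_congr e i).symm.trans_subset (h i)⟩

instance (T : Set X) : (suppP T).IsTriangulated where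
  exists_zero := ⟨0, isZero_zero _, fun i => (supp_zero (isZero_zero _) i).trans_subset
    (Set.empty_subset _)⟩
  isStableUnderShiftBy a := { le_shift := fun _ hP i =>
    (supp_shift _ a i (a + i) rfl).trans_subset (hP _) }
  ext₂' T' hT h₁ h₃ := ObjectProperty.le_isoClosure _ _ fun i =>
    (supp_obj₂ T' hT i).trans (Set.union_subset (h₁ i) (h₃ i))

lemma suppP_shift {T : Set X} {K : DCoh.D X} (h : suppP T K) (n : ℤ) : suppP T (K⟦n⟧) :=
  fun i => (supp_shift _ n i (n + i) rfl).trans_subset (h _)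

lemma suppP_mono {T T' : Set X} (hT : T ⊆ T') {K : DCoh.D X} (h : suppP T K) : suppP T' K :=
  fun i => (h i).trans hT

lemma suppP_obj₃ {T : Set X} (Δ : Triangle (DCoh.D X)) (hΔ : Δ ∈ distinguishedTriangles)
    (h₁ : suppP T Δ.obj₁) (h₂ : suppP T Δ.obj₂) : suppP T Δ.obj₃ :=
  fun i => (supp_obj₃ Δ hΔ i (i + 1) rfl).trans (Set.union_subset (h₂ _) (h₁ _))

lemma suppP_obj₁ {T : Set X} (Δ : Triangle (DCoh.D X)) (hΔ : Δ ∈ distinguishedTriangles)
    (h₂ : suppP T Δ.obj₂) (h₃ : suppP T Δ.obj₃) : suppP T Δ.obj₁ :=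
  fun i => (supp_obj₁ Δ hΔ (i - 1) i (by lia)).trans (Set.union_subset (h₃ _) (h₂ _))

lemma suppP_restrictD {Y : Scheme.{u}} (j : Y ⟶ X) [IsOpenImmersion j] {T : Set X} {K : DCoh.D X}
    (h : suppP T K) : suppP (j ⁻¹' T) ((restrictD j).obj K) :=
  fun i => (supp_restrictD j K i).trans_subset (Set.preimage_mono (h i))

lemma isZero_iff_suppP_empty (K : DCoh.D X) : IsZero K ↔ suppP ∅ K := by
  rw [ExactD.isZero_iff]
  refine forall_congr' fun i => ?_
  rw [Set.subset_empty_iff, supp_eq_empty_iff]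

end

variable {X Y : Scheme.{u}} (j : Y ⟶ X) [IsOpenImmersion j]

lemma suppP_shriekD {A : DCoh.D Y} {T : Set X} (hA : suppP (j ⁻¹' T) A) :
    suppP T ((shriekD j).obj A) := by
  intro i
  rw [supp_shriekD]
  exact (Set.image_mono (hA i)).trans (Set.image_preimage_subset _ _)

/-- The open complement of a closed subset. -/
def compl {T : Set X} (hT : IsClosed T) : X.Opens := ⟨Tᶜ, hT.isOpen_compl⟩

lemma isZero_restrictD_compl {T : Set X} (hT : IsClosed T) {K : DCoh.D X} (hK : suppP T K) :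
    IsZero ((restrictD (compl hT).ι).obj K) := by
  rw [isZero_iff_suppP_empty]
  refine suppP_mono ?_ (suppP_restrictD _ hK)
  rintro ⟨x, hx⟩ hx'
  exact hx hx'

/-- If `A` is perfect and supported on a subset of `Y` closed in `X` then `j_! A` is perfect. -/
lemma perf_shriekD {A : DCoh.D Y} (hA : DCoh.IsPerfect A) {T : Set X} (hT : IsClosed T)
    (hTY : T ⊆ Set.range j) (hAT : suppP (j ⁻¹' T) A) : DCoh.IsPerfect ((shriekD j).obj A) := by
  refine perf_of_cover _ fun x => ?_
  by_cases hx : x ∈ T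
  · obtain ⟨y, rfl⟩ := hTY hx
    exact ⟨Y, j, inferInstance, y, rfl, perf_of_iso (unitIso j A) hA⟩
  · exact ⟨(compl hT : X.Opens), (compl hT).ι, inferInstance, ⟨x, hx⟩, rfl,
      perf_of_isZero (isZero_restrictD_compl hT (suppP_shriekD j hAT))⟩

lemma isQCohD_shriekD {A : DCoh.D Y} (hA : DCoh.IsQCohD A) {T : Set X} (hT : IsClosed T)
    (hTY : T ⊆ Set.range j) (hAT : suppP (j ⁻¹' T) A) : DCoh.IsQCohD ((shriekD j).obj A) := by
  refine QCohD.isQCohD_of_restrictD _ fun x => ?_
  by_cases hx : x ∈ T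
  · obtain ⟨y, rfl⟩ := hTY hx
    exact ⟨Y, j, inferInstance, y, rfl, QCohD.isQCohD_of_iso (unitIso j A) hA⟩
  · exact ⟨(compl hT : X.Opens), (compl hT).ι, inferInstance, ⟨x, hx⟩, rfl,
      QCohD.isQCohD_of_isPerfect _
        (perf_of_isZero (isZero_restrictD_compl hT (suppP_shriekD j hAT)))⟩

/-- Transposition for `j_! ⊣ j^*`. -/
lemma exists_transpose (A : DCoh.D Y) (E : DCoh.D X) (f : A ⟶ (restrictD j).obj E) :
    ∃ g : (shriekD j).obj A ⟶ E, (unitIso j A).hom ≫ (restrictD j).map g = f := by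
  obtain ⟨g, hg⟩ := ((adjunction j).homEquiv A E).surjective f
  exact ⟨g, by rw [← hg, Adjunction.homEquiv_unit]; rfl⟩

end Groth.Agent.PerfC.Excision
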