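import Groth.Agent.PerfC.FlatExact
import Groth.Agent.PerfC.PullRestrict
import Groth.Agent.CohqA.FTStalk
import Groth.Agent.CohqB.FiniteType
import Mathlib.RingTheory.Finiteness.Descent

/-!
# Finite type modules: stalks, descent along flat open morphisms
-/

set_option autoImplicit false
set_option linter.style.haveILetI false
universe u
open CategoryTheory CategoryTheory.Limits AlgebraicGeometry TopologicalSpace

namespace Groth.Agent.PerfC.FTDesc
open AlgebraicGeometry.Scheme.Modules Groth.Agent.PerfA.Restrict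
open Groth.Agent.CycB.StalkExact Groth.Agent.Fdesc.PullbackStalk Groth.Agent.Fdesc.Skyscraper
open Groth.Agent.CohqA.FTStalk Groth.Agent.CohqB.FiniteType
open Groth.Agent.PerfC.FlatExact Groth.Agent.PerfC.PullRestrict

variable {X Y : Scheme.{u}}

/-- The germs of generating sections generate the stalk. -/
lemma span_germ_eq_top {N : X.Modules}
    (G : SheafOfModules.GeneratingSections (R := X.ringCatSheaf) N) (x : X) :
    Submodule.span (X.presheaf.stalk x)
      (Set.range fun i => N.presheaf.germ ⊤ x trivial ((G.s i).val (.op ⊤))) = ⊤ := by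
  set S := Submodule.span (X.presheaf.stalk x)
      (Set.range fun i => N.presheaf.germ ⊤ x trivial ((G.s i).val (.op ⊤))) with hS
  have h0 : toSky S.mkQ = 0 := by
    have hepi : Epi (C := X.Modules) (Y := N) G.π := G.epi
    rw [← cancel_epi (C := X.Modules) (Y := N) G.π, comp_zero]
    apply (SheafOfModules.freeHomEquiv (R := X.ringCatSheaf) (sky x _)).injective
    funext i
    apply PresheafOfModules.sections_ext
    intro U
    have e1 : (SheafOfModules.freeHomEquiv (R := X.ringCatSheaf) (sky x _)
        (G.π ≫ toSky S.mkQ) i) = SheafOfModules.sectionsMap (toSky S.mkQ) (G.s i) := by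
      erw [SheafOfModules.freeHomEquiv_comp_apply]
      congr 1
      exact congrFun ((SheafOfModules.freeHomEquiv (R := X.ringCatSheaf) N).apply_symm_apply G.s) i
    erw [e1]
    refine (funext fun h => ?_ : (_ : Sec x _ U.unop) = _)
    change S.mkQ (N.presheaf.germ U.unop x h.down ((G.s i).val U)) = 0
    have e2 : N.presheaf.germ U.unop x h.down ((G.s i).val U) =
        N.presheaf.germ ⊤ x trivial ((G.s i).val (.op ⊤)) := by
      have h3 : N.presheaf.map (homOfLE (le_top (a := U.unop))).op ((G.s i).val (.op ⊤)) =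
        (G.s i).val U := (G.s i).property (homOfLE (le_top (a := U.unop))).op
      rw [← h3]
      exact TopCat.Presheaf.germ_res_apply N.presheaf _ x h.down _
    rw [e2, Submodule.mkQ_apply, Submodule.Quotient.mk_eq_zero]
    exact Submodule.subset_span ⟨i, rfl⟩
  have h1 : S.mkQ = 0 := by
    rw [← ofSky_toSky S.mkQ, h0]
    ext t
    obtain ⟨U, hU, s, rfl⟩ := TopCat.Presheaf.exists_germ_eq N.presheaf t
    rw [ofSky_germ]
    rfl
  exact (Submodule.ker_mkQ S).symm.trans (by rw [h1, LinearMap.ker_zero])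

/-- Finiteness of a stalk descends along flat morphisms. -/
lemma finite_stalk_of_pullback (f : X ⟶ Y) [Flat f] (M : Y.Modules) (x : X)
    (h : Module.Finite (X.presheaf.stalk x)
      (((Scheme.Modules.pullback f).obj M).presheaf.stalk x)) :
    Module.Finite (Y.presheaf.stalk (f.base x)) (M.presheaf.stalk (f.base x)) := by
  letI := stalkAlg f x
  haveI := faithfullyFlat_stalkAlg f x
  haveI : Module.Finite (X.presheaf.stalk x)
      (TensorProduct (Y.presheaf.stalk (f.base x)) (X.presheaf.stalk x)
        (M.presheaf.stalk (f.base x))) :=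
    Module.Finite.equiv (stalkPullbackEquiv f M x).symm
  exact Module.Finite.of_finite_tensorProduct_of_faithfullyFlat (X.presheaf.stalk x)

/-- The stalks of a finite type module are finite. -/
lemma finite_stalk_of_isFT {N : X.Modules} (h : CohB1.IsFT N) (x : X) :
    Module.Finite (X.presheaf.stalk x) (N.presheaf.stalk x) := by
  obtain ⟨U, hx, G, hG⟩ := exists_generatingSections N h x
  have hI : Finite G.I := SheafOfModules.GeneratingSections.IsFiniteType.finite
  have h1 : Module.Finite ((U : Scheme.{u}).presheaf.stalk ⟨x, hx⟩)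
      ((N.restrict U.ι).presheaf.stalk ⟨x, hx⟩) :=
    ⟨⟨(Set.range _).toFinite.toFinset, by
      rw [Set.Finite.coe_toFinset]; exact span_germ_eq_top G ⟨x, hx⟩⟩⟩
  have h2 : Module.Finite ((U : Scheme.{u}).presheaf.stalk ⟨x, hx⟩)
      (((Scheme.Modules.pullback U.ι).obj N).presheaf.stalk ⟨x, hx⟩) :=
    Module.Finite.equiv (stalkLinEquiv ((restrictFunctorIsoPullback U.ι).app N) ⟨x, hx⟩)
  exact finite_stalk_of_pullback U.ι N ⟨x, hx⟩ h2

/-- The section of the sheaf of modules attached to a global section. -/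
noncomputable def secOf (N : X.Modules) (s : Γ(N, ⊤)) :
    SheafOfModules.sections (R := X.ringCatSheaf) N :=
  PresheafOfModules.sectionsMk (fun U => N.presheaf.map (homOfLE (le_top (a := U.unop))).op s)
      (by
        intro U V f
        change N.presheaf.map f (N.presheaf.map (homOfLE (le_top (a := U.unop))).op s) = _
        rw [← ConcreteCategory.comp_apply, ← Functor.map_comp]
        rfl)

/-- The free module on a type. -/
noncomputable def freeM (X : Scheme.{u}) (I : Type u) : X.Modules :=
  SheafOfModules.free (R := X.ringCatSheaf) I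

/-- The map out of a free module attached to a family of global sections. -/
noncomputable def freeTo (N : X.Modules) {I : Type u} (s : I → Γ(N, ⊤)) : freeM X I ⟶ N :=
  (SheafOfModules.freeHomEquiv (R := X.ringCatSheaf) N).symm fun i => secOf N (s i)

lemma hasFinGen_freeM (I : Type u) [Finite I] : HasFinGen (freeM X I) := by
  refine ⟨⟨I, SheafOfModules.freeSection (R := X.ringCatSheaf), ?_⟩, ⟨inferInstance⟩⟩
  have : (SheafOfModules.freeHomEquiv (R := X.ringCatSheaf) (SheafOfModules.free I)).symm
      SheafOfModules.freeSection = 𝟙 (SheafOfModules.free I) := by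
    rw [Equiv.symm_apply_eq]
  change Epi ((SheafOfModules.freeHomEquiv (R := X.ringCatSheaf) (SheafOfModules.free I)).symm
      SheafOfModules.freeSection)
  rw [this]
  infer_instance

lemma germ_mem_range_freeTo (N : X.Modules) {I : Type u} (s : I → Γ(N, ⊤)) (i : I) (x : X) :
    N.presheaf.germ ⊤ x trivial (s i) ∈ LinearMap.range (stalkLin (freeTo N s) x) := by
  refine ⟨(freeM X I).presheaf.germ ⊤ x trivial
    ((SheafOfModules.freeSection (R := X.ringCatSheaf) i).val (.op ⊤)), ?_⟩
  rw [stalkLin_germ]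
  congr 1
  have h := SheafOfModules.sectionsMap_freeHomEquiv_symm_freeSection (R := X.ringCatSheaf)
    (M := N) (fun i => secOf N (s i)) i
  have h2 : (freeTo N s).app ⊤ ((SheafOfModules.freeSection (R := X.ringCatSheaf) i).val (.op ⊤)) =
      (secOf N (s i)).val (.op ⊤) := congrArg (fun t => t.val (.op ⊤)) h
  rw [h2]
  change N.presheaf.map (homOfLE (le_top (a := (⊤ : X.Opens)))).op (s i) = s i
  rw [show (homOfLE (le_top (a := (⊤ : X.Opens)))).op = 𝟙 _ from rfl, N.presheaf.map_id]
  rfl

/-- Images of generators generate the stalk of the pullback. -/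
lemma span_canAdd_eq_top (f : X ⟶ Y) (M : Y.Modules) (x : X) {I : Type*}
    (t : I → M.presheaf.stalk (f.base x))
    (ht : Submodule.span (Y.presheaf.stalk (f.base x)) (Set.range t) = ⊤) :
    Submodule.span (X.presheaf.stalk x) (Set.range fun i => canAdd f M x (t i)) = ⊤ := by
  rw [eq_top_iff, ← span_range_canAdd f M x, Submodule.span_le]
  rintro _ ⟨m, rfl⟩
  have hm : m ∈ Submodule.span (Y.presheaf.stalk (f.base x)) (Set.range t) := by
    rw [ht]; trivial
  induction hm using Submodule.span_induction with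
  | mem m hm =>
    obtain ⟨i, rfl⟩ := hm
    exact Submodule.subset_span ⟨i, rfl⟩
  | zero =>
    rw [map_zero]
    exact Submodule.zero_mem _
  | add a b _ _ ha hb =>
    rw [map_add]
    exact Submodule.add_mem _ ha hb
  | smul r a _ ha =>
    rw [canAdd_smul]
    exact Submodule.smul_mem _ _ ha

/-- The canonical map from the stalk, for a restriction. -/
lemma canAdd_germ_restrict (j : X ⟶ Y) [IsOpenImmersion j] (M : Y.Modules) (x : X) (V : Y.Opens)
    (hV : j.base x ∈ V) (s : Γ(M, V)) :
    canAdd j M x (M.presheaf.germ V (j.base x) hV s) =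
      stalkLin ((restrictFunctorIsoPullback j).hom.app M) x
        ((M.restrict j).presheaf.germ (j ⁻¹ᵁ V) x hV
          (M.presheaf.map (homOfLE (j.image_preimage_le V)).op s)) := by
  rw [canAdd_germ, stalkLin_germ]
  congr 1
  have h := Adjunction.unit_leftAdjointUniq_hom_app (restrictAdjunction j)
    (pullbackPushforwardAdjunction j) M
  exact (ConcreteCategory.congr_hom (congrArg (fun k => Scheme.Modules.Hom.app k V) h) s).symm

/-- A finitely generated stalk: generators extend to a neighbourhood. -/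
lemma exists_free_of_finite_stalk (M : X.Modules) (x : X)
    (h : Module.Finite (X.presheaf.stalk x) (M.presheaf.stalk x)) :
    ∃ (V : X.Opens) (hx : x ∈ V) (E : (V : Scheme.{u}).Modules) (φ : E ⟶ M.restrict V.ι),
      HasFinGen E ∧ Function.Surjective (stalkLin φ ⟨x, hx⟩) := by
  obtain ⟨S, hS⟩ := h.fg_top
  let I : Type u := S
  have H : ∀ i : I, ∃ (U : X.Opens) (hU : x ∈ U) (s : Γ(M, U)),
      M.presheaf.germ U x hU s = i.1 := fun i => TopCat.Presheaf.exists_germ_eq M.presheaf i.1
  choose U hU s hs using H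
  let V : X.Opens := ⟨⋂ i, (U i : Set X), isOpen_iInter_of_finite fun i => (U i).isOpen⟩
  have hVx : x ∈ V := Set.mem_iInter.mpr hU
  have hVU : ∀ i, V ≤ U i := fun i => Set.iInter_subset (fun i => (U i : Set X)) i
  have hle : V.ι ''ᵁ ⊤ ≤ V := by simp
  let s' : I → Γ(M.restrict V.ι, ⊤) := fun i =>
    M.presheaf.map (homOfLE (hle.trans (hVU i))).op (s i)
  refine ⟨V, hVx, freeM V I, freeTo (M.restrict V.ι) s', hasFinGen_freeM I, ?_⟩
  let γ := (restrictFunctorIsoPullback V.ι).hom.app M
  let y : (V : Scheme.{u}) := ⟨x, hVx⟩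
  let t : I → M.presheaf.stalk (V.ι.base y) := fun i =>
    M.presheaf.germ (U i) (V.ι.base y) (hU i) (s i)
  have hspan : Submodule.span (X.presheaf.stalk (V.ι.base y)) (Set.range t) = ⊤ := by
    have e : Submodule.span (X.presheaf.stalk x)
        (Set.range fun i : I => M.presheaf.germ (U i) x (hU i) (s i)) = ⊤ := by
      refine Eq.trans ?_ hS
      congr 1
      refine (congrArg Set.range (funext hs)).trans ?_
      exact Subtype.range_coe
    exact e
  have hγ : Function.Bijective (stalkLin γ y) :=
    (stalkLinEquiv ((restrictFunctorIsoPullback V.ι).app M) y).bijective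
  have h1 : LinearMap.range (stalkLin (freeTo (M.restrict V.ι) s') y) = ⊤ := by
    apply Submodule.map_injective_of_injective hγ.1
    rw [Submodule.map_top, LinearMap.range_eq_top.2 hγ.2]
    rw [eq_top_iff, ← span_canAdd_eq_top V.ι M y t hspan, Submodule.span_le]
    rintro _ ⟨i, rfl⟩
    refine ⟨_, germ_mem_range_freeTo (M.restrict V.ι) s' i y, ?_⟩
    have h2 := canAdd_germ_restrict V.ι M y (U i) (hU i) (s i)
    refine Eq.trans ?_ h2.symm
    refine congrArg (stalkLin γ y) ?_
    have h3 := TopCat.Presheaf.germ_res_apply (M.restrict V.ι).presheaf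
      (homOfLE (show (⊤ : V.toScheme.Opens) ≤ V.ι ⁻¹ᵁ (U i) from fun z _ => hVU i z.2)) y trivial
      (M.presheaf.map (homOfLE (V.ι.image_preimage_le (U i))).op (s i))
    refine Eq.trans ?_ h3
    refine congrArg ((M.restrict V.ι).presheaf.germ ⊤ y trivial) ?_
    have h4 := ConcreteCategory.comp_apply
      (M.presheaf.map (homOfLE (V.ι.image_preimage_le (U i))).op)
      (M.presheaf.map (homOfLE (hle.trans fun z hz => ⟨⟨z, hz⟩, hVU i hz, rfl⟩ :
        V.ι ''ᵁ ⊤ ≤ V.ι ''ᵁ (V.ι ⁻¹ᵁ (U i)))).op) (s i)
    rw [← Functor.map_comp] at h4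
    exact h4
  exact LinearMap.range_eq_top.1 h1

lemma subsingleton_stalk_cokernel {M N : X.Modules} (φ : M ⟶ N) (x : X)
    (h : Function.Surjective (stalkLin φ x)) : Subsingleton ((cokernel φ).presheaf.stalk x) := by
  refine ⟨fun a b => ?_⟩
  have key : ∀ a : (cokernel φ).presheaf.stalk x, a = 0 := by
    intro a
    obtain ⟨a, rfl⟩ := stalkLin_surjective (cokernel.π φ) x a
    obtain ⟨a, rfl⟩ := h a
    have : stalkLin (cokernel.π φ) x (stalkLin φ x a) = stalkLin (φ ≫ cokernel.π φ) x a := by
      rw [stalkLin_comp]; rfl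
    rw [this, cokernel.condition]
    change ((stalkFun x).map (0 : M ⟶ cokernel φ)).hom a = 0
    rw [Functor.map_zero]
    rfl
  rw [key a, key b]

/-- The open image of an open subset under an open morphism. -/
def imageOpen (f : X ⟶ Y) (hf : IsOpenMap f.base) (W : X.Opens) : Y.Opens :=
  ⟨f.base '' W, hf _ W.isOpen⟩

lemma isZero_restrict_image (f : X ⟶ Y) [Flat f] (hf : IsOpenMap f.base) (M : Y.Modules)
    (W : X.Opens) (h : ∀ x ∈ W, Subsingleton (((Scheme.Modules.pullback f).obj M).presheaf.stalk x)) :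
    IsZero (M.restrict (imageOpen f hf W).ι) := by
  rw [isZero_iff_subsingleton_stalk]
  intro y
  rw [subsingleton_stalk_restrict_iff]
  obtain ⟨x, hx, hxy⟩ := y.2
  have := subsingleton_stalk_of_pullback f M x (h x hx)
  have e : (imageOpen f hf W).ι y = f x := hxy.symm
  rw [e]
  exact this

/-- Finite type modules descend along flat open morphisms. -/
theorem exists_isFT_restrict (f : X ⟶ Y) [Flat f] (hf : IsOpenMap f.base) (M : Y.Modules)
    (h : CohB1.IsFT ((Scheme.Modules.pullback f).obj M)) (x : X) :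
    ∃ V : Y.Opens, f x ∈ V ∧ CohB1.IsFT (M.restrict V.ι) := by
  have hfin := finite_stalk_of_pullback f M x (finite_stalk_of_isFT h x)
  obtain ⟨V, hy, E, φ, hE, hφ⟩ := exists_free_of_finite_stalk M (f x) hfin
  let fV := f ∣_ V
  have hfV : IsOpenMap fV.base := by
    have : Function.Injective V.ι := V.ι.isOpenEmbedding.injective
    intro W hW
    have h1 : V.ι '' (fV '' W) = f '' ((f ⁻¹ᵁ V).ι '' W) := by
      rw [← Set.image_comp, ← Set.image_comp]
      have := morphismRestrict_ι f V
      refine Set.image_congr fun z _ => ?_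
      change (fV ≫ V.ι) z = ((f ⁻¹ᵁ V).ι ≫ f) z
      rw [this]
    have h2 : IsOpen (V.ι '' (fV '' W)) := by
      rw [h1]
      exact hf _ ((f ⁻¹ᵁ V).ι.isOpenEmbedding.isOpenMap _ hW)
    rw [← Set.preimage_image_eq (fV '' W) this]
    exact h2.preimage V.ι.continuous
  let x' : (f ⁻¹ᵁ V : Scheme.{u}) := ⟨x, hy⟩
  have hx' : fV x' = ⟨f x, hy⟩ := by
    apply V.ι.isOpenEmbedding.injective
    change (fV ≫ V.ι) x' = f x
    rw [morphismRestrict_ι]
    rfl
  let C := cokernel φ
  have h1 : CohB1.IsFT ((Scheme.Modules.pullback fV).obj (M.restrict V.ι)) :=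
    IsFT.of_iso (IsFT.restrict h (f ⁻¹ᵁ V).ι)
      ((pullbackSquare (morphismRestrict_ι f V).symm).symm.app M)
  have h2 : CohB1.IsFT ((Scheme.Modules.pullback fV).obj C) :=
    IsFT.of_epi h1 ((Scheme.Modules.pullback fV).map (cokernel.π φ))
  have h3 : Subsingleton (((Scheme.Modules.pullback fV).obj C).presheaf.stalk x') :=
    subsingleton_stalk_pullback fV C x' (subsingleton_stalk_cokernel φ (fV x') (by
      rw [hx']; exact hφ))
  let W : (f ⁻¹ᵁ V : Scheme.{u}).Opens := ⟨_, isOpen_setOf_subsingleton_stalk _ h2⟩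
  let V' : (V : Scheme.{u}).Opens := imageOpen fV hfV W
  have h4 : IsZero (C.restrict V'.ι) := isZero_restrict_image fV hfV C W fun z hz => hz
  have h5 : Epi ((restrictFunctor V'.ι).map φ) := by
    refine Preadditive.epi_of_isZero_cokernel _ ?_
    exact h4.of_iso (PreservesCokernel.iso (restrictFunctor V'.ι) φ).symm
  have h6 : HasFinGen ((M.restrict V.ι).restrict V'.ι) :=
    (hE.restrict V'.ι).of_epi ((restrictFunctor V'.ι).map φ)
  have h7 : HasFinGen (M.restrict (V'.ι ≫ V.ι)) :=
    h6.of_iso ((restrictFunctorComp V'.ι V.ι).symm.app M)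
  refine ⟨(V'.ι ≫ V.ι).opensRange, ⟨⟨⟨f x, hy⟩, ⟨x', h3, ?_⟩⟩, rfl⟩, ?_⟩
  · exact hx'
  · exact (h7.restrict_of_fac _ (V'.ι ≫ V.ι).isoOpensRange.inv (by simp)).isFT

end Groth.Agent.PerfC.FTDesc
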