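import Groth.Agent.PerfC.RelFlat
import Groth.Agent.Flat2D.FiberStalk
import Groth.Agent.Ega1.StalkFP
import Groth.Agent.Smoothlim.FPMod
import Groth.Agent.Models2.FPCoh
import Groth.Agent.S2107

/-!
# Injectivity on the fibre implies injectivity and flatness of the cokernel

`injective_and_flat`: `f : V ⟶ S` locally of finite presentation, `u : N ⟶ Q` a map of finitely presented
`O_V`-modules, `Q` flat over `S` at `x`, and `g : W ⟶ V` the inclusion of (an open part of) the fibre through `x = g y`.
If `g^* u` is injective on the stalk at `y`, then `u` is injective on the stalk at `x` and `coker u` is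
flat over `S` at `x`  (Stacks 046Y).
-/

set_option autoImplicit false
set_option linter.style.haveILetI false
universe u
open CategoryTheory CategoryTheory.Limits AlgebraicGeometry TensorProduct

namespace Groth.Agent.PerfC.FibInj

open Groth.Agent.CycB.StalkExact Groth.Agent.Fdesc.PullbackStalk

variable {W V S : Scheme.{u}}

/-- The kernel of `F_{g y} → (g^* F)_y` when `O_{V, g y} → O_{W, y}` is surjective. -/
theorem mem_of_canAdd_eq_zero (g : W ⟶ V) (F : V.Modules) (y : W)
    (hp : Function.Surjective (g.stalkMap y).hom) (t : F.presheaf.stalk (g.base y)) (ht : canAdd g F y t = 0) :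
    t ∈ (RingHom.ker (g.stalkMap y).hom • (⊤ : Submodule (V.presheaf.stalk (g.base y)) (F.presheaf.stalk (g.base y)))) := by
  let I := RingHom.ker (g.stalkMap y).hom
  let Q := F.presheaf.stalk (g y) ⧸ (I • (⊤ : Submodule (V.presheaf.stalk (g y)) (F.presheaf.stalk (g y))))
  let σ : (V.presheaf.stalk (g y) ⧸ I) ≃+* W.presheaf.stalk y := RingHom.quotientKerEquivOfSurjective hp
  let _ : Module (W.presheaf.stalk y) Q := Module.compHom Q σ.symm.toRingHom
  have hg : ∀ (r : V.presheaf.stalk (g y)) (t : F.presheaf.stalk (g y)),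
    (Submodule.mkQ (I • (⊤ : Submodule (V.presheaf.stalk (g y)) (F.presheaf.stalk (g y))))).toAddMonoidHom (r • t) =
      g.stalkMap y r • (Submodule.mkQ (I • (⊤ : Submodule (V.presheaf.stalk (g y)) (F.presheaf.stalk (g y))))).toAddMonoidHom t := by
    intro r t
    have hσ : σ.symm (g.stalkMap y r) = Ideal.Quotient.mk I r := by
      rw [RingEquiv.symm_apply_eq]
      rfl
    change _ = σ.symm (g.stalkMap y r) •
      (Submodule.mkQ (I • (⊤ : Submodule (V.presheaf.stalk (g y)) (F.presheaf.stalk (g y))))) t
    rw [hσ]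
    rfl
  have h1 := lift_canAdd (M := F) (Q := Q) g _ hg t
  rw [ht, map_zero] at h1
  exact (Submodule.Quotient.mk_eq_zero _).mp h1.symm

theorem canAdd_eq_zero_of_mem (g : W ⟶ V) (F : V.Modules) (y : W) (t : F.presheaf.stalk (g.base y))
    (ht : t ∈ (RingHom.ker (g.stalkMap y).hom • (⊤ : Submodule (V.presheaf.stalk (g.base y)) (F.presheaf.stalk (g.base y))))) :
    canAdd g F y t = 0 := by
  induction ht using Submodule.smul_induction_on' with
  | smul r hr m _ =>
    refine (canAdd_smul g F y r m).trans ?_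
    have : (g.stalkMap y) r = 0 := hr
    rw [this, zero_smul]
  | add a _ b _ ha hb =>
    refine (map_add (canAdd g F y) a b).trans ?_
    rw [ha, hb, add_zero]

variable {f : V ⟶ S} {s : S} {g : W ⟶ V} {q : W ⟶ Spec (S.residueField s)}

/-- The stalk map of the inclusion of the fibre: surjective with kernel `m_s O_{V,x}`. -/
theorem stalkMap_of_isPullback (H : IsPullback g q f (S.fromSpecResidueField s)) (y : W) :
    Function.Surjective (g.stalkMap y).hom ∧
      RingHom.ker (g.stalkMap y).hom = (IsLocalRing.maximalIdeal (S.presheaf.stalk (f (g y)))).map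
        (f.stalkMap (g y)).hom := by
  obtain ⟨e, he⟩ : ∃ e : W ≅ f.fiber s, e.hom ≫ f.fiberι s = g :=
    ⟨H.isoPullback, H.isoPullback_hom_fst⟩
  subst he
  have hb : Function.Bijective (e.hom.stalkMap y).hom :=
    (ConcreteCategory.isIso_iff_bijective _).mp (inferInstanceAs (IsIso (e.hom.stalkMap y)))
  have hc : ((e.hom ≫ f.fiberι s).stalkMap y).hom =
      (e.hom.stalkMap y).hom.comp ((f.fiberι s).stalkMap (e.hom y)).hom :=
    congrArg CommRingCat.Hom.hom (Scheme.Hom.stalkMap_comp e.hom (f.fiberι s) y)
  have h1 := Flat2D.FiberStalk.stalkMap_fiberι_surjective f s (e.hom y)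
  have h2 : RingHom.ker ((f.fiberι s).stalkMap (e.hom y)).hom = _ :=
    Flat2D.FiberStalk.ker_stalkMap_fiberι f s (e.hom y)
  have h3 : RingHom.ker ((e.hom.stalkMap y).hom.comp ((f.fiberι s).stalkMap (e.hom y)).hom) =
      RingHom.ker ((f.fiberι s).stalkMap (e.hom y)).hom := by
    rw [← RingHom.comap_ker, (RingHom.injective_iff_ker_eq_bot _).mp hb.1]
    rfl
  constructor
  · rw [hc]
    exact hb.2.comp h1
  · rw [hc]
    exact h3.trans h2

theorem injective_and_flat [LocallyOfFinitePresentation f]
    (H : IsPullback g q f (S.fromSpecResidueField s)) (y : W) {N Q : V.Modules} (hN : CohB1.IsFP N)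
    (hQ : CohB1.IsFP Q) (u : N ⟶ Q) (hflat : FlatMod.IsFlatOverAt f Q (g y))
    (hinj : Function.Injective (stalkLin ((Scheme.Modules.pullback g).map u) y)) :
    Function.Injective (stalkLin u (g y)) ∧ FlatMod.IsFlatOverAt f (cokernel u) (g y) := by
  obtain ⟨hsurj, hker⟩ := stalkMap_of_isPullback H y
  letI := stalkAlg f (g y)
  letI := FlatMod.moduleStalkOver f N (g y)
  haveI := isScalarTower f N (g y)
  letI := FlatMod.moduleStalkOver f Q (g y)
  haveI := isScalarTower f Q (g y)
  letI := FlatMod.moduleStalkOver f (cokernel u) (g y)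
  haveI := isScalarTower f (cokernel u) (g y)
  haveI : Module.Flat (S.presheaf.stalk (f.base (g.base y))) (Q.presheaf.stalk (g.base y)) := hflat
  haveI : Module.FinitePresentation (V.presheaf.stalk (g y)) (N.presheaf.stalk (g y)) :=
    Ega1.StalkFP.finitePresentation_stalk N (Models2.FPCoh.isQCoh_of_isFP hN) hN (g y)
  haveI : Module.FinitePresentation (V.presheaf.stalk (g y)) (Q.presheaf.stalk (g y)) :=
    Ega1.StalkFP.finitePresentation_stalk Q (Models2.FPCoh.isQCoh_of_isFP hQ) hQ (g y)
  haveI : IsLocalHom (algebraMap (S.presheaf.stalk (f (g y))) (V.presheaf.stalk (g y))) :=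
    f.toLRSHom.prop (g y)
  have key := S2107.result (R := S.presheaf.stalk (f (g y))) (S := V.presheaf.stalk (g y))
    (M := N.presheaf.stalk (g y)) (N := Q.presheaf.stalk (g y)) (Ega1.StalkFP.essFP_stalkMap f (g y))
    (stalkLin u (g y)) (by
      intro t ht
      have h0 : algebraMap (S.presheaf.stalk (f (g y))) (V.presheaf.stalk (g y)) = (f.stalkMap (g y)).hom := rfl
      rw [h0, ← hker] at ht ⊢
      have h1 := canAdd_eq_zero_of_mem g Q y _ ht
      refine mem_of_canAdd_eq_zero g N y hsurj t (hinj ?_)
      rw [map_zero]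
      exact (PerfB.FlatPull.stalkLin_pullback_canAdd g u y t).trans h1)
  refine ⟨key.1, ?_⟩
  have hex := stalkLin_exact (ShortComplex.mk u (cokernel.π u) (cokernel.condition u))
    (ShortComplex.exact_cokernel u) (g y)
  have hπ := stalkLin_surjective (cokernel.π u) (g y)
  haveI := key.2
  have e : (Q.presheaf.stalk (g y) ⧸ LinearMap.range (stalkLin u (g y))) ≃ₗ[V.presheaf.stalk (g y)]
      (cokernel u).presheaf.stalk (g y) :=
    (Submodule.quotEquivOfEq _ _ (LinearMap.exact_iff.mp hex).symm).trans
      ((stalkLin (cokernel.π u) (g y)).quotKerEquivOfSurjective hπ)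
  exact Module.Flat.of_linearEquiv ((e.symm).restrictScalars (S.presheaf.stalk (f.base (g.base y))))

end Groth.Agent.PerfC.FibInj
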