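import Groth.Agent.PerfC.PCLike
import Groth.Agent.PerfC.PcPush
import Groth.Agent.PerfC.ClosedImmPc
import Groth.Agent.CohqB.FiniteType

/-!
# Exact functors to `O_X`-modules give predicates behaving like pseudo-coherence
-/

set_option autoImplicit false
universe w v u t

open CategoryTheory CategoryTheory.Limits AlgebraicGeometry DerivedCategory Pretriangulated
open Groth.Agent.PerfA Groth.Agent.PerfA.Restrict Groth.Agent.PerfC.PcLocal
open Groth.Agent.PerfC.PcShift Groth.Agent.PerfC.PcPush Groth.Agent.PerfC.PCLike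
open Groth.Agent.PerfC.ClosedImmPc

attribute [local instance] HasDerivedCategory.standard

namespace Groth.Agent.PerfC.PCLikeFun

variable {C : Type t} [Category.{v} C] [Abelian C] {X : Scheme.{u}}
  (F : C ⥤ X.Modules) [F.Additive] [PreservesFiniteLimits F] [PreservesFiniteColimits F] {G : C}

/-- If `F(G)` is pseudo-coherent, so is `F(G^n)[-p]`. -/
lemma pc_map_single_free (hO : ∀ m : ℤ, DCoh.IsPseudoCoherentD m
      (DCoh.inD X (F.obj G))) (n : ℕ) (p m : ℤ) :
    DCoh.IsPseudoCoherentD m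
      (F.mapDerivedCategory.obj ((singleFunctor C p).obj (free G n))) := by
  have key : ∀ m : ℤ, DCoh.IsPseudoCoherentD m (DCoh.inD X (F.obj (free G n))) := by
    refine SigmaInd.sigma_fin (fun A => ∀ m : ℤ, DCoh.IsPseudoCoherentD m
      (DCoh.inD X (F.obj A))) ?_ ?_ ?_ n _ (fun _ => hO)
    · intro A B e h m
      exact pc_of_iso ((singleFunctor _ 0).mapIso (F.mapIso e)) (h m)
    · intro A hA m
      exact pc_of_isZero (Functor.map_isZero _ (Functor.map_isZero _ hA)) m
    · intro A B hA hB m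
      have : PreservesBinaryBiproducts (F ⋙ singleFunctor X.Modules 0) :=
        preservesBinaryBiproducts_of_preservesBiproducts _
      exact pc_of_iso ((F ⋙ singleFunctor X.Modules 0).mapBiprod A B).symm
        (pc_biprod (hA m) (hB m))
  exact pc_of_iso ((F.mapDerivedCategorySingleFunctor p).symm.app _)
    ((pc_single_iff (F.obj (free G n)) (n := m - p) (by lia)).2 (key _))

lemma pc_iff_of_triangle_map {A B K : DerivedCategory C} {α : A ⟶ B} {β : B ⟶ K}
    {γ : K ⟶ A⟦(1 : ℤ)⟧} (hT : Triangle.mk α β γ ∈ distinguishedTriangles)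
    (h : ∀ m, DCoh.IsPseudoCoherentD m (F.mapDerivedCategory.obj A)) (m : ℤ) :
    DCoh.IsPseudoCoherentD m (F.mapDerivedCategory.obj B) ↔
      DCoh.IsPseudoCoherentD m (F.mapDerivedCategory.obj K) :=
  pc_iff_of_triangle (F.mapDerivedCategory.map_distinguished _ hT) h m

/-- On a quasi-compact scheme an `m`-pseudo-coherent object is bounded above. -/
lemma exists_isLE_of_pc [CompactSpace X] {m : ℤ} {K : DCoh.D X}
    (h : DCoh.IsPseudoCoherentD m K) : ∃ k : ℕ, K.IsLE (m - 1 + k) := by
  have h1 : ∀ x : X, ∃ (V : X.Opens) (k : ℕ), x ∈ V ∧ ((restrictD V.ι).obj K).IsLE (m - 1 + k) := by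
    intro x
    obtain ⟨V, hx, hV⟩ := (pc_iff m K).1 h x
    obtain ⟨k, hk⟩ := exists_isLE_of_hasApprox hV
    exact ⟨V, k, hx, hk⟩
  choose V k hx hk using h1
  obtain ⟨s, hs⟩ := isCompact_univ.elim_finite_subcover (fun x => (V x : Set X))
    (fun x => (V x).isOpen) (fun x _ => Set.mem_iUnion.2 ⟨x, hx x⟩)
  refine ⟨s.sup k, isLE_of_restrictD_opens K _ fun x => ?_⟩
  obtain ⟨y, hy, hxy⟩ := Set.mem_iUnion₂.1 (hs (Set.mem_univ x))
  have hky : k y ≤ s.sup k := Finset.le_sup hy
  have := hk y
  exact ⟨V y, hxy, TStructure.t.isLE_of_le _ (m - 1 + k y) _ (by lia)⟩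

/-- An exact functor `F : C ⥤ X.Modules` with `F(G)` pseudo-coherent, reflecting finiteness and zero objects,
gives a predicate behaving like pseudo-coherence. -/
theorem isPCLike [CompactSpace X]
    (hO : ∀ m : ℤ, DCoh.IsPseudoCoherentD m (DCoh.inD X (F.obj G)))
    (hft : ∀ N, CohB1.IsFT (F.obj N) → FG G N) (hz : ∀ N, IsZero (F.obj N) → IsZero N) :
    IsPCLike G (fun m M => DCoh.IsPseudoCoherentD m (F.mapDerivedCategory.obj M)) where
  of_isLE m M hM := pc_of_vanish fun i hi => by
    have := ExactD.isLE_map F M (m - 1)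
    exact isZero_of_isLE _ (m - 1) i (by lia)
  iff_of_triangle m p n {M K} α β γ hT :=
    pc_iff_of_triangle_map F hT (pc_map_single_free F hO n p) m
  finite m p M hmp hM h := by
    have := ExactD.isLE_map F M p
    exact hft _ (CohqB.FiniteType.IsFT.of_iso (isFT_of_pc hmp h)
      ((ExactD.mapHomology F p).app M))
  bounded m M h := by
    obtain ⟨k, hk⟩ := exists_isLE_of_pc h
    refine ⟨k, (isLE_iff _ _).2 fun i hi => hz _ ?_⟩
    exact (isZero_of_isLE _ (m - 1 + k) i hi).of_iso ((ExactD.mapHomology F i).app M).symm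

end Groth.Agent.PerfC.PCLikeFun
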