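import Groth.Agent.PerfC.RpushAffine
import Groth.Agent.PerfC.PCLikeFun
import Groth.Agent.CohqB.FiniteType2

/-!
# Pseudo-coherence and finite direct images (Stacks 09VB)
-/

set_option autoImplicit false
universe u

open AlgebraicGeometry CategoryTheory CategoryTheory.Limits Opposite TopologicalSpace
open Groth.Agent.PerfA.Restrict
attribute [local instance] HasDerivedCategory.standard

namespace Groth.Agent.PerfC.FinitePush

open PCLike PCLikeFun RpushAffine PcLocal PcPush

section Modules

variable {R : Type u} [CommRing R]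

/-- A finite module is a quotient of a finite free module. -/
lemma fg_of_finite (N : ModuleCat.{u} R) [Module.Finite R N] : FG (ModuleCat.of R R) N := by
  obtain ⟨n, s, hs⟩ := Module.Finite.exists_fin (R := R) (M := N)
  let g (i : Fin n) : ModuleCat.of R R ⟶ N := ModuleCat.ofHom (LinearMap.toSpanSingleton R N (s i))
  refine ⟨n, Sigma.desc g, ?_⟩
  rw [ModuleCat.epi_iff_range_eq_top, eq_top_iff, ← hs, Submodule.span_le]
  rintro _ ⟨i, rfl⟩
  refine ⟨(Sigma.ι (fun _ : Fin n => ModuleCat.of R R) i).hom (1 : R), ?_⟩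
  have h : Sigma.ι (fun _ : Fin n => ModuleCat.of R R) i ≫ Sigma.desc g = g i := Sigma.ι_desc _ _
  have h2 : (Sigma.ι (fun _ : Fin n => ModuleCat.of R R) i ≫ Sigma.desc g).hom (1 : R) = s i := by
    rw [h]
    simp [g, LinearMap.toSpanSingleton]
  exact h2

lemma projective_self : Projective (ModuleCat.of R R) :=
  (IsProjective.iff_projective R).1 inferInstance

end Modules

lemma isZero_of_faithful {C D : Type*} [Category* C] [Category* D] [HasZeroMorphisms C]
    [HasZeroMorphisms D] (F : C ⥤ D) [F.Faithful] [F.PreservesZeroMorphisms] {M : C}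
    (h : IsZero (F.obj M)) : IsZero M := by
  rw [IsZero.iff_id_eq_zero]
  apply F.map_injective
  exact h.eq_of_src _ _

section Spec

variable {R S : CommRingCat.{u}}

lemma finite_of_isFT_tilde (N : ModuleCat.{u} S) (h : CohB1.IsFT ((tilde.functor S).obj N)) :
    Module.Finite S N := by
  have hq : Coh.IsQCoh ((tilde.functor S).obj N) :=
    (inferInstance : ((tilde.functor S).obj N).IsQuasicoherent)
  have h2 : Module.Finite S ((modulesSpecToSheaf.obj (tilde N)).presheaf.obj (.op ⊤)) :=
    CohqB.FiniteType2.finite_of_isFT _ h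
  exact Module.Finite.equiv (tilde.isoTop N).symm.toLinearEquiv

lemma pc_inD_structureModule (X : Scheme.{u}) (m : ℤ) :
    DCoh.IsPseudoCoherentD m (DCoh.inD X (Coh.structureModule X)) := by
  refine pc_of_iso ((DerivedCategory.singleFunctor _ 0).mapIso (?_ : FlatMod.freeMod X 1 ≅ _))
    (pc_single_freeMod 1 0 m)
  exact (coproductUniqueIso (fun _ : Fin 1 => Coh.structureModule X))

/-- `M ↦ M~` on `D(S)` gives a predicate behaving like pseudo-coherence. -/
lemma isPCLike_tilde : IsPCLike (ModuleCat.of S S)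
    (fun m M => DCoh.IsPseudoCoherentD m ((tilde.functor S).mapDerivedCategory.obj M)) := by
  refine isPCLike (tilde.functor S) ?_ (fun N h => ?_) (fun N h => ?_)
  · exact fun m => pc_of_iso ((DerivedCategory.singleFunctor _ 0).mapIso tildeSelf.symm)
      (pc_inD_structureModule (Spec S) m)
  · have := finite_of_isFT_tilde N h
    exact fg_of_finite N
  · exact isZero_of_faithful (tilde.functor S) h

variable (φ : R ⟶ S)

/-- `M ↦ (M_R)~` on `D(S)` gives a predicate behaving like pseudo-coherence, when `S` is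
pseudo-coherent over `R`. -/
lemma isPCLike_resTilde (hO : ∀ m : ℤ, DCoh.IsPseudoCoherentD m (DCoh.inD (Spec R)
      ((Scheme.Modules.pushforward (Spec.map φ)).obj (Coh.structureModule (Spec S))))) :
    IsPCLike (ModuleCat.of S S)
      (fun m M => DCoh.IsPseudoCoherentD m ((resTilde φ).mapDerivedCategory.obj M)) := by
  refine isPCLike (resTilde φ) ?_ (fun N h => ?_) (fun N h => ?_)
  · refine fun m => pc_of_iso ((DerivedCategory.singleFunctor _ 0).mapIso ?_) (hO m)
    exact (Scheme.Modules.pushforward (Spec.map φ)).mapIso tildeSelf.symm ≪≫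
      (TildePush.tildePushIso φ).app (ModuleCat.of S S)
  · have h1 : Module.Finite R ((ModuleCat.restrictScalars.{u} φ.hom).obj N) :=
      finite_of_isFT_tilde _ h
    have h2 : Module.Finite S N := by
      letI := φ.hom.toAlgebra
      letI : Module R N := Module.compHom N φ.hom
      have : IsScalarTower R S N := IsScalarTower.of_compHom R S N
      have h3 : Module.Finite R N := h1
      exact Module.Finite.of_restrictScalars_finite R S N
    exact fg_of_finite N
  · exact isZero_of_faithful (ModuleCat.restrictScalars.{u} φ.hom)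
      (isZero_of_faithful (tilde.functor R) h)

/-- The affine case. -/
theorem spec_case [DCoh.HasRpush (Spec.map φ)]
    (hO : ∀ m : ℤ, DCoh.IsPseudoCoherentD m (DCoh.inD (Spec R)
      ((Scheme.Modules.pushforward (Spec.map φ)).obj (Coh.structureModule (Spec S)))))
    (E : DCoh.D (Spec S)) (hE : DCoh.IsQCohD E) (m : ℤ) :
    DCoh.IsPseudoCoherentD m E ↔
      DCoh.IsPseudoCoherentD m ((DCoh.Rpush (Spec.map φ)).obj E) := by
  obtain ⟨N, ⟨e⟩⟩ := PerfA.TildeMain.exists_iso S E hE
  obtain ⟨e'⟩ := exists_iso_Rpush_tilde φ N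
  have : Projective (ModuleCat.of S S) := projective_self
  have h := isPCLike_tilde.iff (isPCLike_resTilde φ hO) m N
  have h1 : DCoh.IsPseudoCoherentD m E ↔
      DCoh.IsPseudoCoherentD m ((tilde.functor S).mapDerivedCategory.obj N) :=
    ⟨pc_of_iso e.symm, pc_of_iso e⟩
  have h2 : DCoh.IsPseudoCoherentD m ((DCoh.Rpush (Spec.map φ)).obj E) ↔
      DCoh.IsPseudoCoherentD m ((resTilde φ).mapDerivedCategory.obj N) :=
    ⟨pc_of_iso ((DCoh.Rpush (Spec.map φ)).mapIso e.symm ≪≫ e'),
      pc_of_iso (e'.symm ≪≫ (DCoh.Rpush (Spec.map φ)).mapIso e)⟩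
  exact h1.trans (h.trans h2.symm)

end Spec

section Global

lemma isQCohD_restrictD {X Y : Scheme.{u}} (f : X ⟶ Y) [IsOpenImmersion f] {K : DCoh.D Y}
    (h : DCoh.IsQCohD K) : DCoh.IsQCohD ((restrictD f).obj K) := fun i => by
  have h1 : Coh.IsQCoh (DCoh.HD K i) := h i
  have h2 : Coh.IsQCoh ((DCoh.HD K i).restrict f) :=
    Scheme.Modules.isQuasicoherent_restrictFunctor f _
  exact (SheafOfModules.isQuasicoherent X.ringCatSheaf).prop_of_iso (HDrestrict f K i).symm h2

variable {X Y : Scheme.{u}} (f : X ⟶ Y)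

lemma isPullback_fromSpec [IsAffineHom f] {V : Y.Opens} (hV : IsAffineOpen V) :
    IsPullback (hV.preimage f).fromSpec (Spec.map (f.app V)) f hV.fromSpec := by
  refine (IsOpenImmersion.isPullback _ _ _ _ ?_ ?_).flip
  · rw [Scheme.Hom.app_eq_appLE]
    exact (hV.SpecMap_appLE_fromSpec f (hV.preimage f) le_rfl).symm
  · rw [IsAffineOpen.opensRange_fromSpec, IsAffineOpen.opensRange_fromSpec]

/-- Stacks 09VB (for affine morphisms). -/
theorem iff_Rpush [IsAffineHom f] [DCoh.HasRpush f]
    (hO : ∀ m : ℤ, DCoh.IsPseudoCoherentD m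
      (DCoh.inD Y ((Scheme.Modules.pushforward f).obj (Coh.structureModule X))))
    (E : DCoh.D X) (hE : DCoh.IsQCohD E) (m : ℤ) :
    DCoh.IsPseudoCoherentD m E ↔ DCoh.IsPseudoCoherentD m ((DCoh.Rpush f).obj E) := by
  have key : ∀ (V : Y.Opens) (hV : IsAffineOpen V),
      DCoh.IsPseudoCoherentD m ((restrictD (hV.preimage f).fromSpec).obj E) ↔
        DCoh.IsPseudoCoherentD m ((restrictD hV.fromSpec).obj ((DCoh.Rpush f).obj E)) := by
    intro V hV
    have := Dcoh.DerSch.hasRpush (Spec.map (f.app V))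
    obtain ⟨e⟩ := Dcoh.DerSch.exists_rpushRestrictIso f (Spec.map (f.app V)) _ _
      (isPullback_fromSpec f hV)
    have hO' : ∀ m : ℤ, DCoh.IsPseudoCoherentD m (DCoh.inD (Spec Γ(Y, V))
      ((Scheme.Modules.pushforward (Spec.map (f.app V))).obj
        (Coh.structureModule (Spec Γ(X, f ⁻¹ᵁ V))))) := fun m => by
      refine pc_of_iso ?_ (pc_restrict hV.fromSpec (hO m))
      refine PerfA.PerfLocal.restrictInD hV.fromSpec _ ≪≫
        (DerivedCategory.singleFunctor _ 0).mapIso ?_
      exact (Dcoh.PushRestrict.pushRestrictIsoOfIsPullback f (Spec.map (f.app V)) _ _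
        (isPullback_fromSpec f hV)).app _ ≪≫
          (Scheme.Modules.pushforward (Spec.map (f.app V))).mapIso
            (Scheme.Modules.restrictUnitIso _)
    have hE' := isQCohD_restrictD (hV.preimage f).fromSpec hE
    exact (spec_case (f.app V) hO' _ hE' m).trans ⟨pc_of_iso (e.symm.app E), pc_of_iso (e.app E)⟩
  constructor
  · intro h
    refine pc_of_cover _ fun y => ?_
    obtain ⟨_, ⟨V, hV, rfl⟩, hy, -⟩ := Y.isBasis_affineOpens.exists_subset_of_mem_open
      (Set.mem_univ y) isOpen_univ
    obtain ⟨z, hz⟩ : y ∈ Set.range hV.fromSpec := by rw [hV.range_fromSpec]; exact hy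
    exact ⟨_, hV.fromSpec, inferInstance, z, hz, (key V hV).1 (pc_restrict _ h)⟩
  · intro h
    refine pc_of_cover _ fun x => ?_
    obtain ⟨_, ⟨V, hV, rfl⟩, hy, -⟩ := Y.isBasis_affineOpens.exists_subset_of_mem_open
      (Set.mem_univ (f x)) isOpen_univ
    obtain ⟨z, hz⟩ : x ∈ Set.range (hV.preimage f).fromSpec := by
      rw [(hV.preimage f).range_fromSpec]; exact hy
    exact ⟨_, (hV.preimage f).fromSpec, inferInstance, z, hz, (key V hV).2 (pc_restrict _ h)⟩

end Global

end Groth.Agent.PerfC.FinitePush
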