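import Groth.Agent.PerfC.Lift
import Groth.Agent.PerfA.RoofOpen
import Groth.Agent.S1041

/-!
# Lifting morphisms from perfect objects: the affine case and the general case (Stacks 09IM)
-/

set_option autoImplicit false
universe u
open CategoryTheory CategoryTheory.Limits AlgebraicGeometry Pretriangulated
attribute [local instance] HasDerivedCategory.standard

namespace Groth.Agent.PerfC.LiftStep
open Groth.Agent.PerfA.Restrict Groth.Agent.PerfA Groth.Agent.PerfC.Supp
open Groth.Agent.PerfC.PcLocal AlgebraicGeometry.Scheme.Modules Groth.Agent.PerfC.ExtZeroD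
open Groth.Agent.PerfC.PerfLocal Groth.Agent.PerfC.MV Groth.Agent.PerfC.Excision

/-- The strong lifting property for quasi-compact opens of an affine scheme. -/
theorem strongLift_affine (V : Scheme.{u}) [IsAffine V] (W : V.Opens)
    (hW : IsCompact (W : Set V)) : StrongLift W.ι := by
  intro T hT hTc E hE P hP hPT α
  obtain ⟨G, hG, hGT, ⟨e0⟩⟩ := S1041.result V T hT hTc W hW P hP hPT
  let e₁ : (restrictD W.ι).obj (DCoh.toD V G) ≅ P ⊞ P⟦(1 : ℤ)⟧ := restrictDQ W.ι G ≪≫ e0
  obtain ⟨E₁, β, γ, hPr, hiso, hcomp⟩ := RoofOpen.exists_roof V W hW (DCoh.toD V G) E hG hE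
    (e₁.hom ≫ biprod.fst ≫ α)
  refine ⟨E₁, γ, asIso ((restrictD W.ι).map β) ≪≫ e₁,
    hPr (PerfTri.perf V) inferInstance inferInstance hG,
    hPr (suppP T) inferInstance inferInstance hGT, ?_⟩
  rw [← hcomp]
  simp

/-- The strong lifting property for `U ⟶ X = U ∪ V` with `V` affine and `U` quasi-compact. -/
theorem strongLift_of_affine {X U V : Scheme.{u}} (jU : U ⟶ X) [IsOpenImmersion jU] (jV : V ⟶ X)
    [IsOpenImmersion jV] [QuasiSeparatedSpace X] [IsAffine V] [CompactSpace U]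
    (hcov : Set.range jU ∪ Set.range jV = Set.univ) : StrongLift jU :=
  strongLift_of_cover' jU jV hcov fun W hW => strongLift_affine V W hW

lemma WeakLift.congr {V W : Scheme.{u}} {f g : W ⟶ V} [IsOpenImmersion f] [IsOpenImmersion g]
    (h : f = g) (hf : WeakLift f) : WeakLift g := by
  subst h
  exact hf

lemma weakLift_homOfLE {X : Scheme.{u}} [QuasiSeparatedSpace X] (U : X.Opens)
    (hU : IsCompact (U : Set X)) (S : X.Opens) (hS : IsCompact (S : Set X)) :
    WeakLift (X.homOfLE (le_sup_left : U ≤ U ⊔ S)) := by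
  refine compact_open_induction_on
    (P := fun S : X.Opens => WeakLift (X.homOfLE (le_sup_left : U ≤ U ⊔ S))) S hS ?_ ?_
  · refine weakLift_of_surjective _ (Set.eq_univ_of_forall ?_)
    rintro ⟨x, hx⟩
    have hx' : x ∈ U := by
      rw [sup_bot_eq] at hx
      exact hx
    exact ⟨⟨x, hx'⟩, Scheme.homOfLE_apply' _ _ _⟩
  · intro S hS V ih
    have hUS : IsCompact ((U ⊔ S : X.Opens) : Set X) := hU.union hS
    have hUSV : IsCompact ((U ⊔ (S ⊔ V) : X.Opens) : Set X) :=
      hU.union (hS.union V.2.isCompact)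
    have : CompactSpace (U ⊔ S : X.Opens) := isCompact_iff_compactSpace.mp hUS
    have : CompactSpace (U ⊔ (S ⊔ V) : X.Opens) := isCompact_iff_compactSpace.mp hUSV
    have : IsAffine (V : X.Opens) := V.2
    have : QuasiSeparatedSpace (U ⊔ (S ⊔ V) : X.Opens) :=
      .of_isOpenEmbedding (U ⊔ (S ⊔ V) : X.Opens).ι.isOpenEmbedding
    have h1 : U ⊔ S ≤ U ⊔ (S ⊔ V) := sup_le_sup_left le_sup_left _
    have h2 : (V : X.Opens) ≤ U ⊔ (S ⊔ V) := le_sup_right.trans le_sup_right
    refine WeakLift.congr (X.homOfLE_homOfLE le_sup_left h1)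
      (WeakLift.comp ih (StrongLift.weakLift ?_))
    refine strongLift_of_affine (X.homOfLE h1) (X.homOfLE h2) (Set.eq_univ_of_forall ?_)
    rintro ⟨x, hx⟩
    rcases hx with hx | hx | hx
    · exact Or.inl ⟨⟨x, Or.inl hx⟩, Scheme.homOfLE_apply' _ _ _⟩
    · exact Or.inl ⟨⟨x, Or.inr hx⟩, Scheme.homOfLE_apply' _ _ _⟩
    · exact Or.inr ⟨⟨x, hx⟩, Scheme.homOfLE_apply' _ _ _⟩

/-- Stacks 09IM. -/
theorem weakLift_opens {X : Scheme.{u}} [CompactSpace X] [QuasiSeparatedSpace X] (U : X.Opens)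
    (hU : IsCompact (U : Set X)) : WeakLift U.ι := by
  have h1 := weakLift_homOfLE U hU ⊤ isCompact_univ
  have h2 : CompactSpace (U ⊔ ⊤ : X.Opens) :=
    isCompact_iff_compactSpace.mp (by rw [sup_top_eq]; exact isCompact_univ)
  refine WeakLift.congr (X.homOfLE_ι le_sup_left) (WeakLift.comp h1
    (weakLift_of_surjective _ ?_))
  rw [Scheme.Opens.range_ι, sup_top_eq]
  rfl

end Groth.Agent.PerfC.LiftStep
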