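import Groth.Agent.PerfC.AffGen
import Groth.Agent.PerfC.LiftAll

/-!
# Perfect generators with support (Stacks 09IS, 0A9A)
-/

set_option autoImplicit false
set_option linter.unusedSectionVars false
universe u
open CategoryTheory CategoryTheory.Limits AlgebraicGeometry Pretriangulated
attribute [local instance] HasDerivedCategory.standard
open scoped ZeroObject

namespace Groth.Agent.PerfC.Gen
open Groth.Agent.PerfA.Restrict Groth.Agent.PerfA Groth.Agent.PerfC.Supp
open Groth.Agent.PerfC.Excision Groth.Agent.PerfB.KoszulOrth Groth.Agent.PerfC.LiftStep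
open Groth.Agent.PerfC.ExtZeroD Groth.Agent.PerfC.PerfLocal Groth.Agent.PerfC.MV

/-- `D_{QCoh, T}(X)` has a perfect generator. -/
def HasGen {X : Scheme.{u}} (T : Set X) : Prop :=
  ∃ P : DCoh.D X, DCoh.IsPerfect P ∧ suppP T P ∧
    ∀ E, DCoh.IsQCohD E → suppP T E → orth P E → IsZero E

section Abstract

variable {D : Type*} [Category* D] [HasShift D ℤ] [Preadditive D]
  [∀ n : ℤ, (shiftFunctor D n).Additive]

lemma orth_of_retract {P R E : D} (i : P ⟶ R) (p : R ⟶ P) (h : i ≫ p = 𝟙 P) (hR : orth R E) :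
    orth P E := fun n φ => by
  have h1 : p⟦n⟧' ≫ φ = 0 := hR n _
  have h2 : i⟦n⟧' ≫ p⟦n⟧' = 𝟙 _ := by rw [← Functor.map_comp, h, CategoryTheory.Functor.map_id]
  rw [← Category.id_comp φ, ← h2, Category.assoc, h1, comp_zero]

variable {D' : Type*} [Category* D'] [HasShift D' ℤ] [Preadditive D']
  [∀ n : ℤ, (shiftFunctor D' n).Additive]

/-- Orthogonality and adjunctions. -/
lemma orth_adj {L : D ⥤ D'} {R : D' ⥤ D} (adj : L ⊣ R) [L.CommShift ℤ]
    {K : D} {E : D'} (h : orth (L.obj K) E) : orth K (R.obj E) := fun n φ => by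
  apply (adj.homEquiv _ _).symm.injective
  rw [← cancel_epi ((L.commShiftIso n).inv.app K)]
  exact (h n _).trans (h n _).symm

end Abstract

variable {X U : Scheme.{u}}

theorem hasGen_of_surjective (j : U ⟶ X) [IsOpenImmersion j] (hj : Set.range j = Set.univ)
    {T : Set X} (hT : IsClosed T) (h : HasGen (j ⁻¹' T)) : HasGen T := by
  obtain ⟨P, hP, hPT, hgen⟩ := h
  refine ⟨(shriekD j).obj P, perf_shriekD j hP hT (hj ▸ Set.subset_univ _) hPT,
    suppP_shriekD j hPT, fun E hE hET hor => ?_⟩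
  refine isZero_of_supp (j := j) (fun i => hj ▸ Set.subset_univ _) ?_
  exact hgen _ (QCohD.isQCohD_restrictD j hE) (suppP_restrictD j hET)
    (orth_adj (adjunction j) hor)

/-- The step. -/
theorem hasGen_of_cover (jU : U ⟶ X) [IsOpenImmersion jU] (A : Type u) [CommRing A]
    (jV : Spec (CommRingCat.of A) ⟶ X) [IsOpenImmersion jV] [QuasiSeparatedSpace X]
    [CompactSpace U] (hcov : Set.range jU ∪ Set.range jV = Set.univ) {T : Set X}
    (hT : IsClosed T) (hTc : IsCompact Tᶜ) (h : HasGen (jU ⁻¹' T)) : HasGen T := by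
  obtain ⟨P, hP, hPT, hgen⟩ := h
  obtain ⟨Q, -, i, p, hQ, hQT, hip, -⟩ := (strongLift_of_affine jU jV hcov).weakLift T hT hTc 0
    (QCohD.isQCohD_of_isPerfect _ (perf_of_isZero (isZero_zero _))) P hP hPT 0
  have hUo : IsOpen (Set.range jU) := jU.isOpenEmbedding.isOpen_range
  let Z' : Set X := T \ Set.range jU
  have hZ' : IsClosed Z' := hT.sdiff hUo
  have hZ'c : IsCompact Z'ᶜ := by
    have h1 : IsCompact (Set.range jU) := by
      rw [← Set.image_univ]
      exact isCompact_univ.image jU.continuous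
    rw [show Z'ᶜ = Tᶜ ∪ Set.range jU by
      ext x; simp only [Z', Set.mem_compl_iff, Set.mem_sdiff, Set.mem_union]; tauto]
    exact hTc.union h1
  have hZ'V : Z' ⊆ Set.range jV := fun x hx =>
    ((hcov ▸ Set.mem_univ x : x ∈ Set.range jU ∪ Set.range jV)).resolve_left hx.2
  obtain ⟨K, hK, hKZ, -, hK2⟩ := exists_affGen A (jV ⁻¹' Z') (hZ'.preimage jV.continuous)
    (isCompact_preimage_compl jV hZ' hZ'c)
  let K' := (shriekD jV).obj K
  have hK' : DCoh.IsPerfect K' := perf_shriekD jV hK hZ' hZ'V hKZ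
  have hK'T : suppP T K' := suppP_mono Set.sdiff_subset (suppP_shriekD jV hKZ)
  refine ⟨Q ⊞ K', prop_biprod (PerfTri.perf X) hQ hK', prop_biprod (suppP T) hQT hK'T, ?_⟩
  intro E hE hET hor
  have hQE : orth Q E := orth_of_retract biprod.inl biprod.fst biprod.inl_fst hor
  have hK'E : orth K' E := orth_of_retract biprod.inr biprod.snd biprod.inr_snd hor
  have hKE : orth K ((restrictD jV).obj E) := orth_adj (adjunction jV) hK'E
  have key : ∀ (C : DCoh.D X) (_ : suppP Z' C) (φ : C ⟶ E), φ = 0 := fun C hC φ => by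
    refine (bijective_restrictD_map jV C E fun i => (hC i).trans hZ'V).1 ?_
    dsimp only
    rw [Functor.map_zero]
    exact hK2 _ (QCohD.isQCohD_restrictD jV hE) hKE _ (suppP_restrictD jV hC) _
  have h1 : orth ((restrictD jU).obj Q) ((restrictD jU).obj E) := by
    intro n φ
    rw [← cancel_epi (((restrictD jU).commShiftIso n).hom.app Q), comp_zero]
    obtain ⟨fb, hfb⟩ := exists_transpose jU _ E (((restrictD jU).commShiftIso n).hom.app Q ≫ φ)
    suffices h0 : fb = 0 by
      rw [← hfb, h0, Functor.map_zero, comp_zero]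
    let ε : (shriekD jU).obj ((restrictD jU).obj (Q⟦n⟧)) ⟶ Q⟦n⟧ :=
      (adjunction jU).counit.app (Q⟦n⟧)
    have hε : IsIso ((restrictD jU).map ε) := isIso_restrictD_counit jU _
    obtain ⟨C, π, δ, hΔ⟩ := distinguished_cocone_triangle ε
    have hC0 : IsZero ((restrictD jU).obj C) :=
      Triangle.isZero₃_of_isIso₁ _ ((restrictD jU).map_distinguished _ hΔ) hε
    have h3 : suppP T (Q⟦n⟧) := suppP_shift hQT n
    have h4 : suppP T ((shriekD jU).obj ((restrictD jU).obj (Q⟦n⟧))) :=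
      suppP_shriekD jU (suppP_restrictD jU h3)
    have hCT : suppP T C := suppP_obj₃ (Triangle.mk ε π δ) hΔ h4 h3
    have hCZ : suppP Z' C := fun i x hx => ⟨hCT i hx, suppP_of_isZero_restrictD jU hC0 i hx⟩
    obtain ⟨g, hg⟩ := exists_extend hΔ fb fun m _ => key _ (suppP_shift hCZ (-1)) _
    rw [← hg, hQE n g, comp_zero]
  have h2 : IsZero ((restrictD jU).obj E) := hgen _ (QCohD.isQCohD_restrictD jU hE)
    (suppP_restrictD jU hET) (orth_of_retract i p hip h1)
  rw [IsZero.iff_id_eq_zero]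
  exact key E (fun i x hx => ⟨hET i hx, suppP_of_isZero_restrictD jU h2 i hx⟩) _

lemma hasGen_opens [QuasiSeparatedSpace X] {T : Set X} (hT : IsClosed T)
    (hTc : IsCompact Tᶜ) (S : X.Opens) (hS : IsCompact (S : Set X)) : HasGen (S.ι ⁻¹' T) := by
  refine compact_open_induction_on (P := fun S : X.Opens => HasGen (S.ι ⁻¹' T)) S hS ?_ ?_
  · refine ⟨0, perf_of_isZero (isZero_zero _), (isZero_iff_suppP_empty _).1 (isZero_zero _) |>
      suppP_mono (Set.empty_subset _), fun E _ _ _ => (isZero_iff_suppP_empty E).2 ?_⟩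
    rintro i ⟨x, hx⟩
    exact hx.elim
  · intro S hS V ih
    have hSV : IsCompact ((S ⊔ V : X.Opens) : Set X) := hS.union V.2.isCompact
    have : CompactSpace (S : X.Opens) := isCompact_iff_compactSpace.mp hS
    have : CompactSpace (S ⊔ V : X.Opens) := isCompact_iff_compactSpace.mp hSV
    have : QuasiSeparatedSpace (S ⊔ V : X.Opens) :=
      .of_isOpenEmbedding (S ⊔ V : X.Opens).ι.isOpenEmbedding
    have h2 : (V : X.Opens) ≤ S ⊔ V := le_sup_right
    let jV : Spec (CommRingCat.of Γ(X, V)) ⟶ (S ⊔ V : X.Opens) := V.2.isoSpec.inv ≫ X.homOfLE h2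
    refine hasGen_of_cover (X.homOfLE (le_sup_left : S ≤ S ⊔ V)) Γ(X, V) jV ?_
      (hT.preimage (S ⊔ V : X.Opens).ι.continuous)
      (isCompact_preimage_compl (S ⊔ V : X.Opens).ι hT hTc) ?_
    · refine Set.eq_univ_of_forall ?_
      rintro ⟨x, hx⟩
      rcases hx with hx | hx
      · exact Or.inl ⟨⟨x, hx⟩, Scheme.homOfLE_apply' _ _ _⟩
      · refine Or.inr ⟨V.2.isoSpec.hom ⟨x, hx⟩, ?_⟩
        have h3 : jV (V.2.isoSpec.hom ⟨x, hx⟩) =
            (V.2.isoSpec.hom ≫ V.2.isoSpec.inv ≫ X.homOfLE h2) ⟨x, hx⟩ := rfl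
        rw [h3, Iso.hom_inv_id_assoc]
        exact Scheme.homOfLE_apply' _ _ _
    · rw [← Set.preimage_comp]
      convert ih using 2
      ext x
      exact congr_arg (fun f => f x) (X.homOfLE_ι le_sup_left)

/-- Stacks 0A9A and 09IS. -/
theorem hasGen [CompactSpace X] [QuasiSeparatedSpace X] {T : Set X} (hT : IsClosed T)
    (hTc : IsCompact Tᶜ) : HasGen T := by
  have h := hasGen_opens hT hTc ⊤ isCompact_univ
  exact hasGen_of_surjective _ (by rw [Scheme.Opens.range_ι]; rfl) hT h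

end Groth.Agent.PerfC.Gen
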