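import Groth.Agent.PerfC.Excision
import Groth.Agent.PerfC.TildeProj
import Groth.Agent.PerfB.KoszulOrth
import Groth.Agent.PerfB.ExtSupp
import Groth.Agent.PerfB.TildeExact
import Groth.Agent.S1098
import Groth.Agent.S0998
import Groth.Agent.S0887

/-!
# Perfect generators of `D_QCoh(O_X)` with supports (Stacks 0A9A)
-/

set_option autoImplicit false
universe u
open CategoryTheory CategoryTheory.Limits CategoryTheory.Pretriangulated AlgebraicGeometry
attribute [local instance] HasDerivedCategory.standard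
open scoped ZeroObject

namespace Groth.Agent.PerfC.GenSupp
open Groth.Agent.PerfA.Restrict Groth.Agent.PerfA.PerfLocal Groth.Agent.PerfA
open Groth.Agent.PerfC.Supp Groth.Agent.PerfC.Excision Groth.Agent.PerfC.ExtZeroD
open Groth.Agent.PerfB.KoszulOrth Groth.Agent.PerfB.TildeExact

/-- `X` has a perfect object supported on `T` which generates the objects of `D_QCoh(O_X)` supported
on `T`. -/
def GenT (X : Scheme.{u}) (T : Set X) : Prop :=
  ∃ P : DCoh.D X, DCoh.IsPerfect P ∧ suppP T P ∧ ∀ E : DCoh.D X, DCoh.IsQCohD E → suppP T E →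
    orth P E → IsZero E

section Supp

variable {X : Scheme.{u}}

lemma suppP_of_isZero (U : X.Opens) {K : DCoh.D X} (h : IsZero ((restrictD U.ι).obj K)) :
    suppP (U : Set X)ᶜ K := by
  intro i x hx hxU
  have h4 := (supp_eq_empty_iff _ i).2 ((ExactD.isZero_iff _).1 h i)
  rw [supp_restrictD] at h4
  have : (⟨x, hxU⟩ : U) ∈ (∅ : Set U) := by
    rw [← h4]
    exact hx
  exact this

lemma isZero_of_suppP (U : X.Opens) {K : DCoh.D X} (h : suppP (U : Set X)ᶜ K) :
    IsZero ((restrictD U.ι).obj K) := by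
  rw [ExactD.isZero_iff]
  intro i
  rw [← supp_eq_empty_iff, supp_restrictD]
  ext y
  simp only [Set.mem_preimage, Set.mem_empty_iff_false, iff_false]
  intro hy
  exact h i hy y.2

/-- An object supported on `T ⊆ j(Y)` vanishes if its restriction to `Y` does. -/
lemma isZero_of_restrictD {Y : Scheme.{u}} (j : Y ⟶ X) [IsOpenImmersion j] {K : DCoh.D X}
    {T : Set X} (hT : T ⊆ Set.range j) (hK : suppP T K) (h : IsZero ((restrictD j).obj K)) :
    IsZero K := by
  rw [ExactD.isZero_iff]
  intro i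
  rw [← supp_eq_empty_iff]
  refine Set.eq_empty_of_forall_notMem fun x hx => ?_
  obtain ⟨y, rfl⟩ := hT (hK i hx)
  have h4 := (supp_eq_empty_iff _ i).2 ((ExactD.isZero_iff _).1 h i)
  rw [supp_restrictD] at h4
  have : y ∈ (∅ : Set Y) := by
    rw [← h4]
    exact hx
  exact this

end Supp

/-- Orthogonality passes through an adjunction. -/
lemma orth_of_left {D D' : Type*} [Category* D] [HasShift D ℤ] [Preadditive D]
    [∀ n : ℤ, (shiftFunctor D n).Additive] [Category* D'] [HasShift D' ℤ] [Preadditive D']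
    [∀ n : ℤ, (shiftFunctor D' n).Additive] {L : D ⥤ D'} {R : D' ⥤ D} (adj : L ⊣ R)
    [L.CommShift ℤ] [L.PreservesZeroMorphisms] (K : D) (E : D') (h : orth (L.obj K) E) :
    orth K (R.obj E) := fun n φ => by
  apply (adj.homEquiv _ _).symm.injective
  rw [← cancel_epi ((L.commShiftIso n).inv.app K)]
  have h1 : (adj.homEquiv _ _).symm (0 : K⟦n⟧ ⟶ R.obj E) = 0 := by
    rw [Adjunction.homEquiv_counit, Functor.map_zero, zero_comp]
  rw [h1, comp_zero]
  exact h n _

/-- Orthogonality passes through an adjunction. -/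
lemma orth_of_right {D D' : Type*} [Category* D] [HasShift D ℤ] [Preadditive D]
    [∀ n : ℤ, (shiftFunctor D n).Additive] [Category* D'] [HasShift D' ℤ] [Preadditive D']
    [∀ n : ℤ, (shiftFunctor D' n).Additive] {L : D ⥤ D'} {R : D' ⥤ D} (adj : L ⊣ R)
    [L.CommShift ℤ] [L.PreservesZeroMorphisms] (K : D) (E : D') (h : orth K (R.obj E)) :
    orth (L.obj K) E := fun n φ => by
  rw [← cancel_epi ((L.commShiftIso n).hom.app K), comp_zero]
  apply (adj.homEquiv _ _).injective
  have h1 : (adj.homEquiv (K⟦n⟧) E) 0 = 0 := by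
    apply (adj.homEquiv _ _).symm.injective
    rw [Equiv.symm_apply_apply, Adjunction.homEquiv_counit, Functor.map_zero, zero_comp]
  rw [h1]
  exact h n _

/-- Orthogonality passes to retracts. -/
lemma orth_of_retract {D : Type*} [Category* D] [HasShift D ℤ] [Preadditive D]
    [∀ n : ℤ, (shiftFunctor D n).Additive] {P R E : D} (i : R ⟶ P) (p : P ⟶ R)
    (hip : i ≫ p = 𝟙 R) (h : orth P E) : orth R E := fun n φ => by
  have h1 := h n (p⟦n⟧' ≫ φ)
  have h2 : i⟦n⟧' ≫ p⟦n⟧' ≫ φ = φ := by
    rw [← Category.assoc, ← Functor.map_comp, hip, CategoryTheory.Functor.map_id, Category.id_comp]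
  rw [← h2, h1, comp_zero]

section Affine

variable {X : Scheme.{u}} {A : Type u} [CommRing A] (fs : List A)
  (j : Spec (CommRingCat.of A) ⟶ X) [IsOpenImmersion j]

/-- The case of a closed subset contained in an affine open. -/
theorem genT_of_spec (T : Set X) (hT : IsClosed T) (hTj : T ⊆ Set.range j)
    (hfs : ∀ y, j y ∈ T ↔ y ∉ punct fs) : GenT X T := by
  have hfl : PreservesFiniteLimits (tilde.functor (CommRingCat.of A)) :=
    PerfB.TildeExact.preservesFiniteLimits_tilde (CommRingCat.of A)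
  let K : DCoh.D (Spec (CommRingCat.of A)) :=
    (DCoh.tildeD (CommRingCat.of A)).obj (DerivedCategory.Q.obj (Koszul.koszul A fs))
  have hK0 : IsZero ((restrictD (punct fs).ι).obj K) := isZero_restrictD_koszul fs
  have hKperf : DCoh.IsPerfect K := by
    refine PerfC.TildeProj.isPerfect_tildeD (CommRingCat.of A) _ ?_
    have h1 : PerfB.KoszulOn.IsBddFP (Koszul.koszul A fs) := by
      rw [← PerfB.KoszulOn.kosOn_single_eq]
      exact (isBddFP_single _ fp_self 0).kosOn fs
    obtain ⟨⟨a, b, h⟩, h2⟩ := h1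
    refine ⟨Koszul.koszul A fs, a, b, h, fun i => ⟨(h2 i).1, ?_⟩, ⟨Iso.refl _⟩⟩
    exact (IsProjective.iff_projective _).2 (h2 i).2
  have hKT : suppP (j ⁻¹' T) K := by
    refine suppP_mono ?_ (suppP_of_isZero _ hK0)
    intro y hy
    exact (hfs y).2 hy
  refine ⟨(shriekD j).obj K, perf_shriekD j hKperf hT hTj hKT, suppP_shriekD j hKT, ?_⟩
  intro E hE hET h
  refine isZero_of_restrictD j hTj hET ?_
  refine isZero_of_orth fs _ (QCohD.isQCohD_restrictD j hE) ?_ ?_
  · refine isZero_of_suppP _ (suppP_mono ?_ (suppP_restrictD j hET))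
    intro y hy
    exact (hfs y).1 hy
  · exact orth_of_left (adjunction j) K E h

end Affine

section AffineOpen

variable {X : Scheme.{u}}

/-- The case of a closed subset contained in an affine open. -/
theorem genT_of_isAffineOpen [QuasiSeparatedSpace X] (V : X.Opens) (hV : IsAffineOpen V) (T : Set X)
    (hT : IsClosed T) (hTc : IsCompact Tᶜ) (hTV : T ⊆ (V : Set X)) : GenT X T := by
  let A : Type u := Γ(X, V)
  let j : Spec (CommRingCat.of A) ⟶ X := hV.fromSpec
  have hj : IsOpenImmersion j := hV.isOpenImmersion_fromSpec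
  have hrange : Set.range j = (V : Set X) := hV.range_fromSpec
  have hc : IsCompact (j ⁻¹' Tᶜ) := by
    rw [j.isOpenEmbedding.isInducing.isCompact_iff, Set.image_preimage_eq_inter_range, hrange]
    exact QuasiSeparatedSpace.inter_isCompact _ _ hT.isOpen_compl hTc V.isOpen hV.isCompact
  have ho : IsOpen (j ⁻¹' Tᶜ) := hT.isOpen_compl.preimage j.continuous
  obtain ⟨I, ⟨S, hS⟩, hI⟩ := PrimeSpectrum.isCompact_isOpen_iff_ideal.1 ⟨hc, ho⟩
  refine genT_of_spec S.toList j T hT (hTV.trans hrange.superset) fun y => ?_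
  have h1 : y ∈ j ⁻¹' Tᶜ ↔ y ∈ (PrimeSpectrum.zeroLocus (I : Set A))ᶜ := by
    rw [hI]
    exact Iff.rfl
  have h2 : y ∈ punct S.toList ↔ y ∈ (PrimeSpectrum.zeroLocus (I : Set A))ᶜ := by
    have h3 : ({a | a ∈ S.toList} : Set A) = (S : Set A) := by ext; simp
    change y ∈ (PrimeSpectrum.zeroLocus ((Ideal.span {a | a ∈ S.toList} : Ideal A) : Set A))ᶜ ↔ _
    rw [h3, ← hS]
  rw [h2, ← h1]
  exact not_not.symm

end AffineOpen

section Glue

variable {X : Scheme.{u}}

/-- `Rj_* A` is supported on `T` if `A` is supported on `T ∩ U`. -/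
lemma suppP_rpush {U : Scheme.{u}} (j : U ⟶ X) [IsOpenImmersion j] [DCoh.HasRpush j] {T : Set X}
    (hT : IsClosed T) {A : DCoh.D U} (hA : suppP (j ⁻¹' T) A) :
    suppP T ((DCoh.Rpush j).obj A) := by
  have h : IsZero ((restrictD (compl hT).ι).obj ((DCoh.Rpush j).obj A)) := by
    refine PerfB.ExtSupp.isZero_restrictD_rpush j (compl hT).ι A ?_
    rw [isZero_iff_suppP_empty]
    refine suppP_mono ?_ (suppP_restrictD _ hA)
    intro p hp
    have h1 : j (pullback.fst j (compl hT).ι p) ∈ T := hp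
    rw [← Scheme.Hom.comp_apply, pullback.condition, Scheme.Hom.comp_apply] at h1
    exact (pullback.snd j (compl hT).ι p).2 h1
  refine suppP_mono ?_ (suppP_of_isZero _ h)
  intro x hx
  by_contra hxT
  exact hx hxT

/-- Gluing generators. -/
theorem genT_glue [CompactSpace X] [QuasiSeparatedSpace X] (U : X.Opens)
    (hU : IsCompact (U : Set X)) (T : Set X) (hT : IsClosed T) (hTc : IsCompact Tᶜ)
    (h1 : GenT (U : Scheme.{u}) (U.ι ⁻¹' T)) (h2 : GenT X (T \ (U : Set X))) : GenT X T := by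
  obtain ⟨P, hP, hPT, hPgen⟩ := h1
  obtain ⟨Q, hQ, hQT, hQgen⟩ := h2
  obtain ⟨P', -, i, p, hP', hP'T, hip, -⟩ := S1098.result X U hU T hT hTc 0
    (QCohD.isQCohD_of_isPerfect _ (isPerfect_of_isZero (isZero_zero _))) P hP hPT 0
  have : DCoh.HasRpush U.ι := PerfB.OpenAdj.hasRpush _
  have hqc : QuasiCompact U.ι := by
    have : CompactSpace U := isCompact_iff_compactSpace.1 hU
    exact quasiCompact_of_compactSpace _
  let L := restrictD U.ι
  let R := DCoh.Rpush U.ι
  let adj : L ⊣ R := PerfB.OpenAdj.openAdj U.ι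
  have hLQ : IsZero (L.obj Q) := isZero_of_suppP U (suppP_mono (fun x hx => hx.2) hQT)
  refine ⟨P' ⊞ Q, (S0887.result _ (binaryBiproductTriangle_distinguished P' Q)).2.1 hP' hQ,
    ?_, fun E hE hET hzero => ?_⟩
  · intro k
    exact (supp_obj₂ _ (binaryBiproductTriangle_distinguished P' Q) k).trans
      (Set.union_subset (hP'T k) ((hQT k).trans Set.sdiff_subset))
  have hP0 : orth P' E := orth_of_retract biprod.inl biprod.fst biprod.inl_fst hzero
  have hQ0 : orth Q E := orth_of_retract biprod.inr biprod.snd biprod.inr_snd hzero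
  have hη : IsIso (adj.unit.app E) := by
    refine isIso_unit_of_cone adj Q E hLQ hQ0 (fun C => DCoh.IsQCohD C ∧ suppP T C)
      (fun Δ hΔ h₁ h₂ => ⟨isQCohD_obj₃ Δ hΔ h₁.1 h₂.1, suppP_obj₃ Δ hΔ h₁.2 h₂.2⟩) ⟨hE, hET⟩
      ⟨Groth.Agent.S0998.result U.ι _ (QCohD.isQCohD_restrictD U.ι hE),
        suppP_rpush U.ι hT (suppP_restrictD U.ι hET)⟩ ?_
    intro C hC hLC hQC
    refine hQgen C hC.1 (fun k x hx => ⟨hC.2 k hx, suppP_of_isZero U hLC k hx⟩) hQC
  have hLE : IsZero (L.obj E) := by
    refine hPgen _ (QCohD.isQCohD_restrictD U.ι hE) (suppP_restrictD U.ι hET) ?_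
    exact orth_of_retract i p hip (orth_of_right adj P' (L.obj E) (hP0.of_iso (asIso (adj.unit.app E))))
  exact (R.map_isZero hLE).of_iso (asIso (adj.unit.app E))

end Glue

section Induction

lemma genT_of_isEmpty (X : Scheme.{u}) (h : IsEmpty X) (T : Set X) : GenT X T := by
  refine ⟨0, isPerfect_of_isZero (isZero_zero _), fun k => ?_, fun E _ _ _ => ?_⟩
  · rw [supp_zero (isZero_zero _)]
    exact Set.empty_subset _
  · rw [isZero_iff_suppP_empty]
    intro k x
    exact (h.false x).elim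

theorem genT_induction (X : Scheme.{u}) [QuasiSeparatedSpace X] (T : Set X) (hT : IsClosed T)
    (hTc : IsCompact Tᶜ) (S : X.Opens) (hS : IsCompact (S : Set X)) :
    ∀ (Z : Scheme.{u}) (i : Z ⟶ X) [IsOpenImmersion i], i.opensRange = S → GenT Z (i ⁻¹' T) := by
  refine compact_open_induction_on (P := fun S => ∀ (Z : Scheme.{u}) (i : Z ⟶ X)
    [IsOpenImmersion i], i.opensRange = S → GenT Z (i ⁻¹' T)) S hS ?_ ?_
  · intro Z i _ hi
    refine genT_of_isEmpty Z ⟨fun z => ?_⟩ _
    have h1 : i z ∈ i.opensRange := ⟨z, rfl⟩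
    rw [hi] at h1
    exact h1
  · intro S hS U ih Z i _ hi
    have hi' : Set.range i = (S : Set X) ∪ (U.1 : Set X) := congrArg SetLike.coe hi
    have hqs : QuasiSeparatedSpace Z := QuasiSeparatedSpace.of_isOpenEmbedding i.isOpenEmbedding
    have hcpt : ∀ W : Set Z, IsCompact (i '' W) → IsCompact W := fun W h =>
      i.isOpenEmbedding.isInducing.isCompact_iff.2 h
    have hc : CompactSpace Z := by
      refine ⟨hcpt _ ?_⟩
      rw [Set.image_univ, hi']
      exact hS.union U.2.isCompact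
    have hSr : (S : Set X) ⊆ Set.range i := hi'.symm ▸ Set.subset_union_left
    have hS' : IsCompact ((i ⁻¹ᵁ S : Z.Opens) : Set Z) := by
      refine hcpt _ ?_
      change IsCompact (i '' (i ⁻¹' (S : Set X)))
      rwa [Set.image_preimage_eq_inter_range, Set.inter_eq_self_of_subset_left hSr]
    have hTi : IsCompact (i ⁻¹' T)ᶜ := by
      refine hcpt _ ?_
      rw [← Set.preimage_compl, Set.image_preimage_eq_inter_range]
      refine QuasiSeparatedSpace.inter_isCompact _ _ hT.isOpen_compl hTc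
        i.isOpenEmbedding.isOpen_range ?_
      rw [hi']
      exact hS.union U.2.isCompact
    have hTcl : IsClosed (i ⁻¹' T) := hT.preimage i.continuous
    refine genT_glue (i ⁻¹ᵁ S) hS' (i ⁻¹' T) hTcl hTi ?_ ?_
    · refine ih _ ((i ⁻¹ᵁ S).ι ≫ i) ?_
      rw [Scheme.Hom.opensRange_comp, Scheme.Opens.opensRange_ι, Scheme.Hom.image_preimage_eq_opensRange_inf,
        hi]
      exact inf_eq_right.2 le_sup_left
    · refine genT_of_isAffineOpen (i ⁻¹ᵁ U.1) (U.2.preimage_of_isOpenImmersion i ?_) _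
        (hTcl.sdiff (i ⁻¹ᵁ S).isOpen) ?_ ?_
      · rw [hi]
        exact le_sup_right
      · rw [Set.compl_sdiff]
        exact hS'.union hTi
      · rintro z ⟨-, hz⟩
        have h1 : i z ∈ (S : Set X) ∪ (U.1 : Set X) := hi' ▸ ⟨z, rfl⟩
        exact h1.resolve_left hz

/-- Perfect generators with supports. -/
theorem genT (X : Scheme.{u}) [CompactSpace X] [QuasiSeparatedSpace X] (T : Set X)
    (hT : IsClosed T) (hTc : IsCompact Tᶜ) : GenT X T :=
  genT_induction X T hT hTc ⊤ isCompact_univ X (𝟙 X) (Scheme.Hom.opensRange_of_isIso _)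

end Induction

end Groth.Agent.PerfC.GenSupp
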