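import Groth.Prelude.Def_Coh
import Mathlib.RingTheory.Filtration
import Mathlib.Algebra.Module.Injective

/-!
# Quasi-coherent modules attached to injective modules over a Noetherian ring are flasque
-/

set_option autoImplicit false
universe u v

open CategoryTheory CategoryTheory.Limits AlgebraicGeometry Opposite TopologicalSpace

namespace Groth.Agent.PerfC.InjFlasque

/-- Algebraic core (Artin-Rees + Baer): over a Noetherian ring `A`, if `Q` satisfies Baer's criterion and
`f j • m i = f i • m j`, there are `t` and `n` with `f i ^ (n+1) • t = f i ^ n • m i` for all `i`. -/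
theorem exists_of_baer {A : Type u} {Q : Type v} [CommRing A] [IsNoetherianRing A] [AddCommGroup Q]
    [Module A Q] (hQ : Module.Baer A Q) {ι : Type} [Finite ι] (f : ι → A) (m : ι → Q)
    (h : ∀ i j, f j • m i = f i • m j) :
    ∃ (t : Q) (n : ℕ), ∀ i, f i ^ (n + 1) • t = f i ^ n • m i := by
  classical
  have := Fintype.ofFinite ι
  let b : Ideal A := Ideal.span (Set.range f)
  let π : (ι → A) →ₗ[A] A := Fintype.linearCombination A f
  let L : (ι → A) →ₗ[A] Q := Fintype.linearCombination A m
  let K : Submodule A (ι → A) := LinearMap.ker π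
  have hK : ∀ x ∈ K, ∀ a ∈ b, a • L x = 0 := by
    intro x hx a ha
    induction ha using Submodule.span_induction with
    | mem a ha =>
      obtain ⟨j, rfl⟩ := ha
      have hx' : ∑ i, x i • f i = 0 := by
        simpa [K, π, Fintype.linearCombination_apply] using hx
      simp only [L, Fintype.linearCombination_apply, Finset.smul_sum]
      calc ∑ i, f j • x i • m i = ∑ i, (x i • f i) • m j := by
            refine Finset.sum_congr rfl fun i _ => ?_
            rw [smul_comm, h i j, smul_smul, smul_eq_mul]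
        _ = (∑ i, x i • f i) • m j := by rw [Finset.sum_smul]
        _ = 0 := by rw [hx', zero_smul]
    | zero => simp
    | add a c _ _ ha hc => rw [add_smul, ha, hc, add_zero]
    | smul r a _ ha => rw [smul_assoc, ha, smul_zero]
  obtain ⟨k, hk⟩ := Ideal.exists_pow_inf_eq_pow_smul (M := ι → A) b K
  let P : Submodule A (ι → A) := b ^ (k + 1) • ⊤
  have hbK : b • K ≤ LinearMap.ker L := by
    rw [Submodule.smul_le]
    intro a ha y hy
    rw [LinearMap.mem_ker, map_smul]
    exact hK y hy a ha
  have hPK : ∀ x ∈ P, π x = 0 → L x = 0 := by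
    intro x hx hx0
    have h1 : x ∈ b ^ (k + 1) • (⊤ : Submodule A (ι → A)) ⊓ K := ⟨hx, hx0⟩
    rw [hk (k + 1) (by omega)] at h1
    have h2 : b ^ (k + 1 - k) • (b ^ k • (⊤ : Submodule A (ι → A)) ⊓ K) ≤ b • K := by
      rw [show k + 1 - k = 1 by omega, pow_one]
      exact Submodule.smul_mono le_rfl inf_le_right
    exact hbK (h2 h1)
  -- the map on the image
  let c : Ideal A := P.map π
  have hc : ∀ y : c, ∃ x ∈ P, π x = y := fun y => y.2
  choose g hgP hg using hc
  let φ : c →ₗ[A] Q :=
    { toFun := fun y => L (g y)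
      map_add' := by
        intro y z
        rw [← map_add, ← sub_eq_zero, ← map_sub]
        refine hPK _ (P.sub_mem (hgP _) (P.add_mem (hgP _) (hgP _))) ?_
        rw [map_sub, map_add, hg, hg, hg]; simp
      map_smul' := by
        intro r y
        rw [RingHom.id_apply, ← map_smul, ← sub_eq_zero, ← map_sub]
        refine hPK _ (P.sub_mem (hgP _) (P.smul_mem _ (hgP _))) ?_
        rw [map_sub, map_smul, hg, hg]; simp }
  obtain ⟨ψ, hψ⟩ := hQ c φ
  have key : ∀ x ∈ P, π x • ψ 1 = L x := by
    intro x hx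
    have h1 : π x ∈ c := ⟨x, hx, rfl⟩
    rw [← map_smul, smul_eq_mul, mul_one, hψ _ h1]
    change L (g ⟨π x, h1⟩) = L x
    rw [← sub_eq_zero, ← map_sub]
    refine hPK _ (P.sub_mem (hgP _) hx) ?_
    rw [map_sub, hg]; simp
  refine ⟨ψ 1, k + 1, fun i => ?_⟩
  have h1 : (f i ^ (k + 1)) • (Pi.single i 1 : ι → A) ∈ P :=
    Submodule.smul_mem_smul (Ideal.pow_mem_pow (Ideal.subset_span (Set.mem_range_self i)) _) trivial
  have h2 := key _ h1
  have h3 : π (Pi.single i 1) = f i := by
    simp [π]
  have h4 : L (Pi.single i 1) = m i := by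
    simp [L]
  rw [map_smul, map_smul, h3, h4, smul_eq_mul, ← pow_succ] at h2
  exact h2

section Spec

variable {R : CommRingCat.{u}} (M : (Spec R).Modules)

/-- The basic open `D(g)`, typed as an open of the scheme `Spec R`. -/
def bo (g : R) : (Spec R).Opens := PrimeSpectrum.basicOpen g

/-- Restriction maps of a sheaf of modules on `Spec R`, as `R`-linear maps. -/
noncomputable def res {V W : (Spec R).Opens} (h : V ≤ W) : Γ(M, W) →ₗ[R] Γ(M, V) :=
  ((modulesSpecToSheaf.obj M).obj.map (homOfLE h).op).hom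

theorem res_apply {V W : (Spec R).Opens} (h : V ≤ W) (t : Γ(M, W)) :
    res M h t = M.presheaf.map (homOfLE h).op t := rfl

theorem res_res {V W Z : (Spec R).Opens} (h : V ≤ W) (h' : W ≤ Z) (t : Γ(M, Z)) :
    res M h (res M h' t) = res M (h.trans h') t := by
  simp only [res_apply, ← ConcreteCategory.comp_apply, ← Functor.map_comp]
  rfl

theorem isLocalizedModule_res [M.IsQuasicoherent] (g : R) :
    IsLocalizedModule (.powers g) (res M (le_top : bo g ≤ ⊤)) :=
  (isIso_fromTildeΓ_iff_isLocalizing M).mp inferInstance g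

/-- Restriction to a basic open of a quasi-coherent module: existence part of the localization property. -/
theorem exists_pow_smul [M.IsQuasicoherent] (g : R) (s : Γ(M, bo g)) :
    ∃ (n : ℕ) (t : Γ(M, ⊤)), res M le_top t = g ^ n • s := by
  have h := isLocalizedModule_res M g
  obtain ⟨⟨y, ⟨_, n, rfl⟩⟩, hy⟩ := IsLocalizedModule.surj (.powers g) (res M le_top) s
  exact ⟨n, y, hy.symm⟩

/-- Restriction to a basic open of a quasi-coherent module: uniqueness part of the localization property. -/
theorem exists_pow_smul_eq_zero [M.IsQuasicoherent] (g : R) (t : Γ(M, ⊤))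
    (ht : res M (le_top : bo g ≤ ⊤) t = 0) :
    ∃ n : ℕ, g ^ n • t = 0 := by
  have h := isLocalizedModule_res M g
  obtain ⟨⟨_, n, rfl⟩, hn⟩ := (IsLocalizedModule.eq_zero_iff (.powers g) (res M le_top) (m := t)).mp ht
  exact ⟨n, hn⟩

/-- Over a Noetherian ring, a quasi-coherent module with injective (Baer) module of global sections is flasque:
global sections surject onto sections over any open. -/
theorem surjective_of_baer [IsNoetherianRing R] [M.IsQuasicoherent] (hM : Module.Baer R Γ(M, ⊤))
    (U : (Spec R).Opens) : Function.Surjective (res M (le_top : U ≤ ⊤)) := by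
  classical
  intro s
  have hUc : IsCompact (U : Set (Spec R)) := by
    have : NoetherianSpace (Spec R) := inferInstanceAs (NoetherianSpace (PrimeSpectrum R))
    exact NoetherianSpace.isCompact _
  obtain ⟨κ, hκ, g, hg⟩ : ∃ (κ : Type) (_ : Finite κ) (g : κ → R),
      U = ⨆ i, bo (g i) := by
    obtain ⟨κ, hκ, a, ha⟩ :=
      PrimeSpectrum.isBasis_basic_opens.exists_iSup_eq_of_isCompact U hUc
    obtain ⟨n, ⟨e⟩⟩ := Finite.exists_equiv_fin κ
    refine ⟨Fin n, inferInstance, fun i => a (e.symm i), ?_⟩
    rw [ha]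
    exact (e.symm.iSup_comp (g := fun i => bo (a i))).symm
  have hle (i : κ) : bo (g i) ≤ U := by
    rw [hg]; exact le_iSup (fun i => bo (g i)) i
  have hl (i j : κ) : bo (g i * g j) ≤ bo (g i) := PrimeSpectrum.basicOpen_mul_le_left _ _
  have hr (i j : κ) : bo (g i * g j) ≤ bo (g j) := PrimeSpectrum.basicOpen_mul_le_right _ _
  -- numerators
  obtain ⟨N, t, ht⟩ : ∃ (N : ℕ) (t : κ → Γ(M, ⊤)), ∀ i, res M le_top (t i) = g i ^ N • res M (hle i) s := by
    choose n t ht using fun i => exists_pow_smul M (g i) (res M (hle i) s)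
    have hn (i : κ) : n i ≤ ⨆ i, n i := le_ciSup (Set.finite_range _).bddAbove i
    refine ⟨⨆ i, n i, fun i => g i ^ ((⨆ i, n i) - n i) • t i, fun i => ?_⟩
    rw [map_smul, ht, smul_smul, ← pow_add, Nat.sub_add_cancel (hn i)]
  obtain ⟨K, hK⟩ : ∃ K : ℕ, ∀ i j, (g i * g j) ^ K • (g j ^ N • t i - g i ^ N • t j) = 0 := by
    have h1 (i j : κ) : ∃ n : ℕ, (g i * g j) ^ n • (g j ^ N • t i - g i ^ N • t j) = 0 := by
      refine exists_pow_smul_eq_zero M _ _ ?_
      rw [map_sub, map_smul, map_smul, ← res_res M (hl i j) le_top, ht, ← res_res M (hr i j) le_top, ht,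
        map_smul, map_smul, res_res, res_res, smul_comm, sub_self]
    choose n hn using h1
    have hn' (i j : κ) : n i j ≤ ⨆ i, ⨆ j, n i j :=
      (le_ciSup (Set.finite_range _).bddAbove j).trans
        (le_ciSup (f := fun i => ⨆ j, n i j) (Set.finite_range _).bddAbove i)
    refine ⟨⨆ i, ⨆ j, n i j, fun i j => ?_⟩
    rw [← Nat.sub_add_cancel (hn' i j), pow_add, mul_smul, hn, smul_zero]
  obtain ⟨x, n, hx⟩ := exists_of_baer hM (fun i => g i ^ (N + K)) (fun i => g i ^ K • t i) (by
    intro i j
    have := hK i j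
    rw [smul_sub, sub_eq_zero, mul_pow] at this
    simp only [smul_smul] at this ⊢
    rw [show g j ^ (N + K) * g i ^ K = g i ^ K * g j ^ K * g j ^ N by ring, this]
    congr 1
    ring)
  refine ⟨x, ?_⟩
  have hF : TopCat.Presheaf.IsSheaf M.presheaf := M.isSheaf
  refine TopCat.Sheaf.eq_of_locally_eq' (F := ⟨M.presheaf, hF⟩)
    (fun i => bo (g i)) U (fun i => homOfLE (hle i)) hg.le _ _ ?_
  intro i
  change res M (hle i) (res M le_top x) = res M (hle i) s
  rw [res_res]
  have hunit : IsSMulRegular Γ(M, bo (g i)) (g i ^ ((N + K) * (n + 1))) :=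
    (M.isSMulRegular_of_le_basicOpen (f := g i) (U := bo (g i)) le_rfl).pow _
  apply hunit
  have h2 := congrArg (res M (le_top : bo (g i) ≤ ⊤)) (hx i)
  simp only [map_smul, ht] at h2
  simp only [smul_smul, ← pow_mul, ← pow_add] at h2 ⊢
  rw [h2]
  congr 2
  ring

end Spec

end Groth.Agent.PerfC.InjFlasque
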