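import Groth.Agent.Pi1C.HomFin
import Mathlib.CategoryTheory.Shift.Linear
import Mathlib.Algebra.Homology.ShortComplex.ModuleCat
import Mathlib.Algebra.Homology.DerivedCategory.TStructure

/-!
# Koszul type objects in `D(A)` and factorization of morphisms through them

`IsKos l K`: `K` is obtained from `A[0]` by successively taking cones of multiplication by powers of the
elements of the list `l` (e.g. the Koszul complex on `f₁^e₁, …, f_r^e_r`).
-/

set_option autoImplicit false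
universe u
open CategoryTheory CategoryTheory.Limits Pretriangulated
attribute [local instance] HasDerivedCategory.standard

namespace Groth.Agent.PerfC.KosFactor

variable {A : Type u} [CommRing A]

/-- The object `A[0]` of `D(A)`. -/
noncomputable abbrev one (A : Type u) [CommRing A] : Dual.D A :=
  (DerivedCategory.singleFunctor (ModuleCat.{u} A) 0).obj (ModuleCat.of A A)

/-- Every morphism `K ⟶ M` is killed by a power of `f`. -/
def HomTors (f : A) (K M : Dual.D A) : Prop := ∀ φ : K ⟶ M, ∃ n : ℕ, f ^ n • φ = 0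

/-- Every element of `H^i(M)` is killed by a power of `f`. -/
def Tors (f : A) (M : Dual.D A) (i : ℤ) : Prop :=
  ∀ x : (DerivedCategory.homologyFunctor (ModuleCat.{u} A) i).obj M, ∃ n : ℕ, f ^ n • x = 0

lemma HomTors.of_iso {f : A} {K K' M : Dual.D A} (e : K ≅ K') (h : HomTors f K M) :
    HomTors f K' M := by
  intro φ
  obtain ⟨n, hn⟩ := h (e.hom ≫ φ)
  refine ⟨n, ?_⟩
  rw [← Linear.comp_smul] at hn
  rw [← cancel_epi e.hom, hn, comp_zero]

lemma HomTors.of_triangle {f : A} {M : Dual.D A} (T : Triangle (Dual.D A))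
    (hT : T ∈ distinguishedTriangles) (h₁ : HomTors f T.obj₁ M) (h₃ : HomTors f T.obj₃ M) :
    HomTors f T.obj₂ M := by
  intro φ
  obtain ⟨n, hn⟩ := h₁ (T.mor₁ ≫ φ)
  rw [← Linear.comp_smul] at hn
  obtain ⟨ψ, hψ⟩ := T.yoneda_exact₂ hT _ hn
  obtain ⟨k, hk⟩ := h₃ ψ
  refine ⟨k + n, ?_⟩
  rw [pow_add, mul_smul, hψ, ← Linear.comp_smul, hk, comp_zero]

/-- Koszul type objects. -/
def IsKos : List A → Dual.D A → Prop
  | [], K => Nonempty (K ≅ one A)
  | f :: l, K => ∃ (K' : Dual.D A) (n : ℕ) (g : K' ⟶ K) (h : K ⟶ K'⟦(1 : ℤ)⟧),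
      IsKos l K' ∧ Triangle.mk (f ^ n • 𝟙 K') g h ∈ distinguishedTriangles

/-- Cohomology of a shift. -/
noncomputable def HDshift (K : Dual.D A) (n i j : ℤ) (h : n + i = j) :
    (DerivedCategory.homologyFunctor (ModuleCat.{u} A) i).obj (K⟦n⟧) ≅
      (DerivedCategory.homologyFunctor (ModuleCat.{u} A) j).obj K :=
  ((DerivedCategory.homologyFunctor (ModuleCat.{u} A) 0).shiftIso n i j h).app K

lemma tors_of_iso {f : A} {M N : Dual.D A} {i j : ℤ}
    (e : (DerivedCategory.homologyFunctor (ModuleCat.{u} A) i).obj M ≅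
      (DerivedCategory.homologyFunctor (ModuleCat.{u} A) j).obj N) (h : Tors f M i) :
    Tors f N j := by
  intro x
  obtain ⟨n, hn⟩ := h (e.inv x)
  refine ⟨n, ?_⟩
  have h1 := congrArg e.hom hn
  rw [map_smul, map_zero] at h1
  rwa [Iso.inv_hom_id_apply] at h1

lemma tors_shift_iff {f : A} (M : Dual.D A) (n i j : ℤ) (h : n + i = j) :
    Tors f (M⟦n⟧) i ↔ Tors f M j :=
  ⟨tors_of_iso (HDshift M n i j h), tors_of_iso (HDshift M n i j h).symm⟩

lemma tors_of_isZero {f : A} {M : Dual.D A} {i : ℤ}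
    (h : IsZero ((DerivedCategory.homologyFunctor (ModuleCat.{u} A) i).obj M)) : Tors f M i := by
  intro x
  have := ModuleCat.subsingleton_of_isZero h
  exact ⟨0, Subsingleton.elim _ _⟩

lemma exact_tors {f : A} {S : ShortComplex (ModuleCat.{u} A)} (hS : S.Exact)
    (h₁ : ∀ x : S.X₁, ∃ n : ℕ, f ^ n • x = 0) (h₃ : ∀ x : S.X₃, ∃ n : ℕ, f ^ n • x = 0) (x : S.X₂) :
    ∃ n : ℕ, f ^ n • x = 0 := by
  obtain ⟨n, hn⟩ := h₃ (S.g x)
  rw [← map_smul] at hn
  obtain ⟨y, hy⟩ := (ShortComplex.moduleCat_exact_iff S).1 hS _ hn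
  obtain ⟨k, hk⟩ := h₁ y
  refine ⟨k + n, ?_⟩
  rw [pow_add, mul_smul, ← hy, ← map_smul, hk, map_zero]

lemma tors_obj₂ {f : A} (T : Triangle (Dual.D A)) (hT : T ∈ distinguishedTriangles) (i : ℤ)
    (h₁ : Tors f T.obj₁ i) (h₃ : Tors f T.obj₃ i) : Tors f T.obj₂ i :=
  exact_tors (DerivedCategory.HomologySequence.exact₂ T hT i) h₁ h₃

lemma tors_obj₃ {f : A} (T : Triangle (Dual.D A)) (hT : T ∈ distinguishedTriangles) (i j : ℤ)
    (h : i + 1 = j) (h₂ : Tors f T.obj₂ i) (h₁ : Tors f T.obj₁ j) : Tors f T.obj₃ i :=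
  exact_tors (DerivedCategory.HomologySequence.exact₃ T hT i j h) h₂ h₁

lemma HomTors.shift {f : A} {K M : Dual.D A} (h : HomTors f K (M⟦(-1 : ℤ)⟧)) :
    HomTors f (K⟦(1 : ℤ)⟧) M := by
  intro φ
  let e : (M⟦(-1 : ℤ)⟧)⟦(1 : ℤ)⟧ ≅ M := (shiftEquiv (Dual.D A) (1 : ℤ)).counitIso.app M
  let ψ : K⟦(1 : ℤ)⟧ ⟶ (M⟦(-1 : ℤ)⟧)⟦(1 : ℤ)⟧ := φ ≫ e.inv
  obtain ⟨χ, hχ⟩ := (shiftFunctor (Dual.D A) (1 : ℤ)).map_surjective ψ
  obtain ⟨n, hn⟩ := h χ
  refine ⟨n, ?_⟩
  have h1 : f ^ n • ψ = 0 := by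
    rw [← hχ, ← Functor.map_smul, hn, Functor.map_zero]
  have h2 : φ = ψ ≫ e.hom := by simp [ψ]
  rw [h2, ← Linear.smul_comp, h1, zero_comp]

lemma homTors_one {f : A} {M : Dual.D A} (h : Tors f M 0) : HomTors f (one A) M := by
  intro φ
  have hlin := Groth.Agent.Pi1C.HomFin.homologyFunctor_linear (A := A) 0
  let H := DerivedCategory.homologyFunctor (ModuleCat.{u} A) 0
  let e : H.obj (one A) ≅ ModuleCat.of A A :=
    (DerivedCategory.homologyFunctorFactors (ModuleCat.{u} A) 0).app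
      ((CochainComplex.singleFunctor (ModuleCat.{u} A) 0).obj (ModuleCat.of A A)) ≪≫
      HomologicalComplex.singleObjHomologySelfIso (ComplexShape.up ℤ) 0 (ModuleCat.of A A)
  obtain ⟨n, hn⟩ := h ((e.inv ≫ H.map φ).hom (1 : A))
  refine ⟨n, ?_⟩
  have : Projective (ModuleCat.of A A) := inferInstance
  apply Groth.Agent.Pi1C.HomFin.eq_zero_of_homology_zero (ModuleCat.of A A) M
  change H.map (f ^ n • φ) = 0
  rw [Functor.map_smul, ← cancel_epi e.inv, comp_zero, Linear.comp_smul]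
  ext
  exact hn

/-- If the cohomology of `M` is `f`-power torsion in degrees `[-len l, 0]` then so is
`Hom(K, M)` for every Koszul type object `K`. -/
lemma homTors_of_isKos {f : A} (l : List A) : ∀ (K M : Dual.D A), IsKos l K →
    (∀ i : ℤ, -(l.length : ℤ) ≤ i → i ≤ 0 → Tors f M i) → HomTors f K M := by
  induction l with
  | nil =>
    rintro K M ⟨e⟩ h
    exact (homTors_one (h 0 (by simp) le_rfl)).of_iso e.symm
  | cons g l ih =>
    rintro K M ⟨K', n, a, b, hK', hT⟩ h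
    have h1 : HomTors f K' M := ih K' M hK' fun i hi hi' =>
      h i (by rw [List.length_cons]; push_cast; lia) hi'
    have h2 : HomTors f (K'⟦(1 : ℤ)⟧) M := (ih K' _ hK' fun i hi hi' =>
      (tors_shift_iff M (-1) i (-1 + i) rfl).2
        (h _ (by rw [List.length_cons]; push_cast; lia) (by lia))).shift
    exact HomTors.of_triangle _ (rot_of_distTriang _ hT) h1 h2

/-- Factorization of a morphism `A[0] ⟶ M` through a Koszul type object. -/
theorem exists_factor (l : List A) (M : Dual.D A)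
    (h : ∀ f ∈ l, ∀ i : ℤ, -(l.length : ℤ) < i → i ≤ 0 → Tors f M i) (φ : one A ⟶ M) :
    ∃ (K : Dual.D A) (a : one A ⟶ K) (b : K ⟶ M), IsKos l K ∧ a ≫ b = φ := by
  induction l with
  | nil => exact ⟨one A, 𝟙 _, φ, ⟨Iso.refl _⟩, Category.id_comp _⟩
  | cons f l ih =>
    obtain ⟨K', a', b', hK', hab⟩ := ih fun g hg i hi hi' =>
      h g (List.mem_cons_of_mem _ hg) i (by rw [List.length_cons]; push_cast; lia) hi'
    obtain ⟨n, hn⟩ := homTors_of_isKos (f := f) l K' M hK' (fun i hi hi' =>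
      h f List.mem_cons_self i (by rw [List.length_cons]; push_cast; lia) hi') b'
    obtain ⟨K, g, k, hT⟩ := distinguished_cocone_triangle (f ^ n • 𝟙 K')
    have h0 : (f ^ n • 𝟙 K') ≫ b' = 0 := by
      rw [Linear.smul_comp, Category.id_comp, hn]
    obtain ⟨b, hb⟩ : ∃ b : K ⟶ M, b' = g ≫ b := Triangle.yoneda_exact₂ _ hT b' h0
    refine ⟨K, a' ≫ g, b, ⟨K', n, g, k, hK', hT⟩, ?_⟩
    rw [Category.assoc, ← hb, hab]

/-- Koszul type objects have no cohomology in positive degrees. -/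
lemma isZero_of_isKos (l : List A) : ∀ (K : Dual.D A), IsKos l K → ∀ i : ℤ, 0 < i →
    IsZero ((DerivedCategory.homologyFunctor (ModuleCat.{u} A) i).obj K) := by
  induction l with
  | nil =>
    rintro K ⟨e⟩ i hi
    refine IsZero.of_iso ?_ ((DerivedCategory.homologyFunctor (ModuleCat.{u} A) i).mapIso e)
    exact DerivedCategory.isZero_of_isLE (one A) 0 i hi
  | cons g l ih =>
    rintro K ⟨K', n, a, b, hK', hT⟩ i hi
    exact (DerivedCategory.HomologySequence.exact₃ _ hT i (i + 1) rfl).isZero_of_both_zeros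
      ((ih K' hK' i hi).eq_of_src _ _) ((ih K' hK' (i + 1) (by lia)).eq_of_tgt _ _)

/-- In a distinguished triangle, if `a` kills the last two morphisms, `a * a` kills the third object. -/
lemma smul_id_eq_zero (T : Triangle (Dual.D A)) (hT : T ∈ distinguishedTriangles) (a : A)
    (h₂ : a • T.mor₂ = 0) (h₃ : a • T.mor₃ = 0) : (a * a) • 𝟙 T.obj₃ = 0 := by
  obtain ⟨ψ, hψ⟩ := T.yoneda_exact₃ hT (a • 𝟙 T.obj₃) (by
    rw [Linear.comp_smul, Category.comp_id, h₂])
  rw [mul_smul, hψ, ← Linear.smul_comp, h₃, zero_comp]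

/-- The elements of the list act nilpotently on a Koszul type object. -/
lemma exists_pow_smul_id (l : List A) : ∀ (K : Dual.D A), IsKos l K → ∀ f ∈ l,
    ∃ n : ℕ, f ^ n • 𝟙 K = 0 := by
  induction l with
  | nil => rintro K - f hf; simp at hf
  | cons g l ih =>
    rintro K ⟨K', n, a, b, hK', hT⟩ f hf
    have key : ∀ c : A, c • a = 0 → c • b = 0 → (c * c) • 𝟙 K = 0 := fun c h2 h3 =>
      smul_id_eq_zero _ hT c h2 h3
    rcases List.mem_cons.1 hf with rfl | hf
    · refine ⟨n + n, ?_⟩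
      rw [pow_add]
      refine key _ ?_ ?_
      · have h1 : (f ^ n • 𝟙 K') ≫ a = 0 := comp_distTriang_mor_zero₁₂ _ hT
        rwa [Linear.smul_comp, Category.id_comp] at h1
      · have h1 : b ≫ (f ^ n • 𝟙 K')⟦(1 : ℤ)⟧' = 0 := comp_distTriang_mor_zero₃₁ _ hT
        rw [Functor.map_smul, CategoryTheory.Functor.map_id, Linear.comp_smul,
          Category.comp_id] at h1
        exact h1
    · obtain ⟨k, hk⟩ := ih K' hK' f hf
      refine ⟨k + k, ?_⟩
      rw [pow_add]
      refine key _ ?_ ?_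
      · rw [← Category.id_comp a, ← Linear.smul_comp, hk, zero_comp]
      · have h1 : f ^ k • 𝟙 (K'⟦(1 : ℤ)⟧) = 0 := by
          rw [← CategoryTheory.Functor.map_id, ← Functor.map_smul, hk, Functor.map_zero]
        rw [← Category.comp_id b, ← Linear.comp_smul, h1, comp_zero]

lemma tors_of_isKos (l : List A) (K : Dual.D A) (hK : IsKos l K) (f : A) (hf : f ∈ l) (i : ℤ) :
    Tors f K i := by
  intro x
  obtain ⟨n, hn⟩ := exists_pow_smul_id l K hK f hf
  refine ⟨n, ?_⟩
  have hlin := Groth.Agent.Pi1C.HomFin.homologyFunctor_linear (A := A) i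
  have h1 := congrArg (fun ψ => (DerivedCategory.homologyFunctor (ModuleCat.{u} A) i).map ψ) hn
  simp only [Functor.map_smul, CategoryTheory.Functor.map_id, Functor.map_zero] at h1
  exact congrArg (fun ψ => ψ x) h1

end Groth.Agent.PerfC.KosFactor
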