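import Groth.Agent.PerfC.DBif
import Groth.Agent.S0953
import Groth.Agent.Dcoh.KFlat
import Groth.Agent.Dcoh.FlatRes
import Groth.Agent.Dcoh.LeftRes
import Mathlib.Algebra.Homology.DerivedCategory.TStructure

/-!
# Right t-exactness of the derived tensor product

`K ∈ D^{≤ a}`, `E ∈ D^{≤ b}` imply `K ⊗ᴸ E ∈ D^{≤ a + b}`.
-/

set_option autoImplicit false

universe u w₁ w₃ v₁ v₂ v₃ u₁ u₂ u₃

open CategoryTheory Category Limits AlgebraicGeometry

namespace Groth.Agent.PerfC.LTBound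

open Groth.Agent.PerfC.DInd Groth.Agent.PerfC.DBif Groth.Agent.Dcoh.CxFun

section Total

variable {C₁ : Type u₁} {C₂ : Type u₂} {D : Type u₃} [Category.{v₁} C₁] [Category.{v₂} C₂] [Category.{v₃} D]
  [Preadditive C₁] [Preadditive C₂] [Preadditive D]
  (T : C₁ ⥤ C₂ ⥤ D) [T.PreservesZeroMorphisms] [∀ X₁, (T.obj X₁).PreservesZeroMorphisms]
  [∀ (K₁ : CochainComplex C₁ ℤ) (K₂ : CochainComplex C₂ ℤ),
    HomologicalComplex.HasMapBifunctor K₁ K₂ T (ComplexShape.up ℤ)]

/-- The total complex of `K^p ⊗ L^q` is bounded above by `a + b`. -/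
theorem isStrictlyLE_map₂ (K : CochainComplex C₁ ℤ) (L : CochainComplex C₂ ℤ) (a b : ℤ)
    [K.IsStrictlyLE a] [L.IsStrictlyLE b] :
    ((T.map₂CochainComplex.obj K).obj L).IsStrictlyLE (a + b) := by
  rw [CochainComplex.isStrictlyLE_iff]
  intro n hn
  rw [IsZero.iff_id_eq_zero]
  refine HomologicalComplex.mapBifunctor.hom_ext (K₁ := K) (K₂ := L) (F := T) (fun p q hpq => ?_)
  refine IsZero.eq_of_src ?_ _ _
  have hpq' : p + q = n := hpq
  rcases lt_or_ge a p with hp | hp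
  · rw [IsZero.iff_id_eq_zero]
    have h1 : 𝟙 (K.X p) = 0 := (K.isZero_of_isStrictlyLE a p hp).eq_of_src _ _
    have h2 : 𝟙 ((T.obj (K.X p)).obj (L.X q)) = (T.map (𝟙 (K.X p))).app (L.X q) := by simp
    rw [h2, h1, Functor.map_zero]
    rfl
  · exact (T.obj (K.X p)).map_isZero (L.isZero_of_isStrictlyLE b q (by lia))

end Total

section Bif

variable {A : Type u₁} [Category.{v₁} A] [Abelian A] [HasDerivedCategory.{w₁} A]
  {B : Type u₂} [Category.{v₂} B] [Abelian B]
  {C : Type u₃} [Category.{v₃} C] [Abelian C] [HasDerivedCategory.{w₃} C]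
  {G : CochainComplex A ℤ ⥤ CochainComplex B ℤ ⥤ CochainComplex C ℤ}
  {P : ObjectProperty (CochainComplex A ℤ)} (h : BifData G P) [HasLT G]

include h

/-- The value of the derived functor of `- ⊗ E` computed with a resolution `w : E' ⟶ E` such that
`- ⊗ E'` preserves quasi-isomorphisms. -/
theorem exists_iso_LTobj {E E' : CochainComplex B ℤ} (w : E' ⟶ E) (hw : QuasiIso w)
    [PresQis (G.flip.obj E')] (K : CochainComplex A ℤ) :
    Nonempty ((LTobj G E).obj (DerivedCategory.Q.obj K) ≅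
      DerivedCategory.Q.obj ((G.obj K).obj E')) := by
  have h1 := h.isIso_LTmap w hw
  have h2 := isIso_β_of_presQis h E' K
  exact ⟨(asIso ((LTmap G w).app (DerivedCategory.Q.obj K))).symm ≪≫ asIso (βapp G E' K)⟩

theorem isLE_LTobj {E E' : CochainComplex B ℤ} (w : E' ⟶ E) (hw : QuasiIso w)
    [PresQis (G.flip.obj E')] (a c : ℤ)
    (hG : ∀ K : CochainComplex A ℤ, K.IsStrictlyLE a → ((G.obj K).obj E').IsLE c)
    (X : DerivedCategory A) [X.IsLE a] : ((LTobj G E).obj X).IsLE c := by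
  obtain ⟨K, hK, ⟨e⟩⟩ := X.exists_iso_Q_obj_of_isLE a
  obtain ⟨e'⟩ := exists_iso_LTobj h w hw K
  have := hG K hK
  have h3 : (DerivedCategory.Q.obj ((G.obj K).obj E')).IsLE c :=
    (DerivedCategory.isLE_Q_obj_iff _ _).2 this
  exact ⟨DerivedCategory.TStructure.t.isLE_of_iso (e'.symm ≪≫ (LTobj G E).mapIso e.symm) c |>.le⟩

end Bif

section Scheme

attribute [local instance] HasDerivedCategory.standard

variable {X : Scheme.{u}}

theorem goodClass_isFlat :
    Dcoh.LeftRes.GoodClass (fun M : X.Modules => FlatMod.IsFlat M) where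
  enough M := by
    obtain ⟨P, π, h1, h2⟩ := Dcoh.FlatRes.exists_flat_epi M
    exact ⟨P, π, h1, h2⟩
  zero _ h := Dcoh.FlatRes.isFlat_of_isZero h
  biprod _ _ h1 h2 := Dcoh.FlatRes.isFlat_biprod h1 h2
  iso e h := Dcoh.FlatRes.isFlat_of_iso e h

/-- Bounded above complexes have bounded above K-flat resolutions by flat modules. -/
theorem exists_resolution (K : CochainComplex X.Modules ℤ) (b : ℤ) [K.IsLE b] :
    ∃ (K' : CochainComplex X.Modules ℤ) (w : K' ⟶ K), K'.IsStrictlyLE b ∧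
      (∀ n, FlatMod.IsFlat (K'.X n)) ∧ DCoh.IsKFlat K' ∧ QuasiIso w := by
  obtain ⟨L, p, h1, h2, h3⟩ := Dcoh.LeftRes.exists_resolution_of_isLE goodClass_isFlat K b
  exact ⟨L, p, h1, h2, S0953.result L b h1 h2, h3⟩

theorem presQis_of_isKFlat {K : CochainComplex X.Modules ℤ} (hK : DCoh.IsKFlat K) :
    PresQis ((DCoh.tensorCx (X := X)).flip.obj K) where
  quasiIso_map f _ := Dcoh.KFlat.quasiIso_tensor hK f

/-- The derived tensor product is right t-exact. -/
theorem isLE_LTensorCx {P : ObjectProperty (CochainComplex X.Modules ℤ)}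
    (h : BifData (DCoh.tensorCx (X := X)) P) (K : CochainComplex X.Modules ℤ) (b : ℤ)
    [(DCoh.toD X K).IsLE b] [DCoh.HasLTensorCx K] (E : DCoh.D X) (a : ℤ) [E.IsLE a] :
    ((DCoh.LTensorCx K).obj E).IsLE (a + b) := by
  have : K.IsLE b := (DerivedCategory.isLE_Q_obj_iff _ _).1 ‹_›
  obtain ⟨K', w, h1, -, h3, h4⟩ := exists_resolution K b
  have := h.hasLT
  have := presQis_of_isKFlat h3
  exact isLE_LTobj h w h4 a (a + b) (fun L _ => by
    have : ((DCoh.tensorCx.obj L).obj K').IsStrictlyLE (a + b) := isStrictlyLE_map₂ _ L K' a b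
    infer_instance) E

end Scheme

end Groth.Agent.PerfC.LTBound
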