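import Groth.Agent.PerfC.LiftStep

/-!
# Lifting morphisms from perfect objects: composition and induction (Stacks 09IM)
-/

set_option autoImplicit false
universe u
open CategoryTheory CategoryTheory.Limits AlgebraicGeometry Pretriangulated
attribute [local instance] HasDerivedCategory.standard

namespace Groth.Agent.PerfC.LiftStep
open Groth.Agent.PerfA.Restrict Groth.Agent.PerfA Groth.Agent.PerfC.Supp
open Groth.Agent.PerfC.PcLocal AlgebraicGeometry.Scheme.Modules Groth.Agent.PerfC.ExtZeroD
open Groth.Agent.PerfC.PerfLocal Groth.Agent.PerfC.MV Groth.Agent.PerfC.Excision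

/-- The weak lifting property for an open immersion `w : W ⟶ V`. -/
def WeakLift {V W : Scheme.{u}} (w : W ⟶ V) [IsOpenImmersion w] : Prop :=
  ∀ (T : Set V) (_ : IsClosed T) (_ : IsCompact Tᶜ) (E : DCoh.D V) (_ : DCoh.IsQCohD E)
    (P : DCoh.D W) (_ : DCoh.IsPerfect P) (_ : suppP (w ⁻¹' T) P) (α : P ⟶ (restrictD w).obj E),
    ∃ (R : DCoh.D V) (β : R ⟶ E) (i : P ⟶ (restrictD w).obj R) (p : (restrictD w).obj R ⟶ P),
      DCoh.IsPerfect R ∧ suppP T R ∧ i ≫ p = 𝟙 P ∧ i ≫ (restrictD w).map β = α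

variable {X U V W : Scheme.{u}}

lemma StrongLift.weakLift {w : W ⟶ V} [IsOpenImmersion w] (h : StrongLift w) : WeakLift w := by
  intro T hT hTc E hE P hP hPT α
  obtain ⟨R, β, e, hR, hRT, hβ⟩ := h T hT hTc E hE P hP hPT α
  refine ⟨R, β, biprod.inl ≫ e.inv, e.hom ≫ biprod.fst, hR, hRT, ?_, ?_⟩
  · rw [Category.assoc, e.inv_hom_id_assoc, biprod.inl_fst]
  · rw [hβ, Category.assoc, e.inv_hom_id_assoc, biprod.inl_fst_assoc]

lemma WeakLift.comp {f : U ⟶ V} [IsOpenImmersion f] {g : V ⟶ X} [IsOpenImmersion g]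
    [QuasiSeparatedSpace X] [CompactSpace V]
    (hf : WeakLift f) (hg : WeakLift g) : WeakLift (f ≫ g) := by
  intro T hT hTc E hE P hP hPT α
  let c := restrictDComp f g
  obtain ⟨R', β', i', p', hR', hRT', hip', hβ'⟩ := hf (g ⁻¹' T) (hT.preimage g.continuous)
    (isCompact_preimage_compl g hT hTc) ((restrictD g).obj E) (QCohD.isQCohD_restrictD g hE)
    P hP hPT (α ≫ c.inv.app E)
  obtain ⟨R, β, i, p, hR, hRT, hip, hβ⟩ := hg T hT hTc E hE R' hR' hRT' β'
  refine ⟨R, β, i' ≫ (restrictD f).map i ≫ c.hom.app R, c.inv.app R ≫ (restrictD f).map p ≫ p',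
    hR, hRT, ?_, ?_⟩
  · have h1 : c.hom.app R ≫ c.inv.app R = 𝟙 _ := c.hom_inv_id_app R
    rw [Category.assoc, Category.assoc, reassoc_of% h1, ← Functor.map_comp_assoc, hip,
      CategoryTheory.Functor.map_id, Category.id_comp, hip']
  · have h1 : (restrictD f).map ((restrictD g).map β) ≫ c.hom.app E =
      c.hom.app R ≫ (restrictD (f ≫ g)).map β := c.hom.naturality β
    have h2 : c.inv.app E ≫ c.hom.app E = 𝟙 _ := c.inv_hom_id_app E
    rw [Category.assoc, Category.assoc, ← h1, ← Functor.map_comp_assoc, hβ, reassoc_of% hβ', h2,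
      Category.comp_id]

lemma weakLift_of_surjective (j : U ⟶ X) [IsOpenImmersion j] (hj : Set.range j = Set.univ) :
    WeakLift j := by
  intro T hT hTc E hE P hP hPT α
  obtain ⟨β, hβ⟩ := exists_transpose j P E α
  exact ⟨(shriekD j).obj P, β, (unitIso j P).hom, (unitIso j P).inv,
    perf_shriekD j hP hT (hj ▸ Set.subset_univ _) hPT, suppP_shriekD j hPT,
    (unitIso j P).hom_inv_id, hβ⟩

/-- The strong lifting property for `U ⟶ X = U ∪ V` with `V` affine, assuming it for quasi-compact
opens of `V`. -/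
theorem strongLift_of_cover' (jU : U ⟶ X) [IsOpenImmersion jU] (jV : V ⟶ X) [IsOpenImmersion jV]
    [QuasiSeparatedSpace X] [CompactSpace V] [CompactSpace U]
    (hcov : Set.range jU ∪ Set.range jV = Set.univ)
    (h : ∀ W : V.Opens, IsCompact (W : Set V) → StrongLift W.ι) : StrongLift jU := by
  let W : V.Opens := jV ⁻¹ᵁ jU.opensRange
  have hWr : Set.range (W.ι ≫ jV) = Set.range jU ∩ Set.range jV := by
    have h1 : Set.range W.ι = jV ⁻¹' (Set.range jU) := Scheme.Opens.range_ι W
    rw [Scheme.Hom.comp_base, TopCat.coe_comp, Set.range_comp]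
    refine (congr_arg (jV '' ·) h1).trans ?_
    exact Set.image_preimage_eq_inter_range
  have hW : IsCompact (W : Set V) := by
    have h1 : IsCompact (Set.range jU) := by
      rw [← Set.image_univ]
      exact isCompact_univ.image jU.continuous
    have h2 : IsCompact (Set.range jV) := by
      rw [← Set.image_univ]
      exact isCompact_univ.image jV.continuous
    have h3 : IsCompact (Set.range jU ∩ Set.range jV) :=
      QuasiSeparatedSpace.inter_isCompact _ _ jU.isOpenEmbedding.isOpen_range h1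
        jV.isOpenEmbedding.isOpen_range h2
    rw [jV.isOpenEmbedding.isInducing.isCompact_iff]
    have h4 : jV '' (W : Set V) = Set.range jU ∩ Set.range jV :=
      Set.image_preimage_eq_inter_range (f := jV) (t := Set.range jU)
    rw [h4]
    exact h3
  have hsub : Set.range (W.ι ≫ jV) ⊆ Set.range jU := by
    rw [hWr]
    exact Set.inter_subset_left
  let wU : (W : Scheme.{u}) ⟶ U := IsOpenImmersion.lift jU (W.ι ≫ jV) hsub
  have e : wU ≫ jU = W.ι ≫ jV := IsOpenImmersion.lift_fac _ _ _
  have hopen : IsOpenImmersion (wU ≫ jU) := by rw [e]; infer_instance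
  have hwU : IsOpenImmersion wU := IsOpenImmersion.of_comp wU jU
  exact strongLift_of_cover e hcov (by rw [e, hWr]) (h W hW)

end Groth.Agent.PerfC.LiftStep
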