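import Groth.Agent.PerfC.MV2
import Groth.Agent.PerfC.Excision
import Groth.Agent.PerfA.PerfTri

/-!
# One step of the lifting theorem for morphisms from perfect objects (Stacks 09IM)
-/

set_option autoImplicit false
universe u
open CategoryTheory CategoryTheory.Limits AlgebraicGeometry Pretriangulated
attribute [local instance] HasDerivedCategory.standard

namespace Groth.Agent.PerfC.LiftStep
open Groth.Agent.PerfA.Restrict Groth.Agent.PerfA Groth.Agent.PerfC.Supp
open Groth.Agent.PerfC.PcLocal AlgebraicGeometry.Scheme.Modules Groth.Agent.PerfC.ExtZeroD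
open Groth.Agent.PerfC.PerfLocal Groth.Agent.PerfC.MV Groth.Agent.PerfC.Excision

lemma prop_biprod {C : Type*} [Category C] [HasZeroObject C] [HasShift C ℤ] [Preadditive C]
    [∀ n : ℤ, (shiftFunctor C n).Additive] [Pretriangulated C] [HasBinaryBiproducts C]
    (Pr : ObjectProperty C) [Pr.IsTriangulated] [Pr.IsClosedUnderIsomorphisms] {A B : C}
    (hA : Pr A) (hB : Pr B) : Pr (A ⊞ B) :=
  Pr.ext_of_isTriangulatedClosed₂ _ (binaryBiproductTriangle_distinguished A B) hA hB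

/-- The comparison `F(A ⊞ A[1]) ≅ F A ⊞ (F A)[1]`. -/
lemma exists_mapBiprodShift {C D : Type*} [Category C] [Category D] [HasShift C ℤ] [HasShift D ℤ]
    [Preadditive C] [Preadditive D] [HasBinaryBiproducts C] [HasBinaryBiproducts D]
    (F : C ⥤ D) [F.Additive] [F.CommShift ℤ] (A : C) :
    ∃ m : F.obj (A ⊞ A⟦(1 : ℤ)⟧) ≅ F.obj A ⊞ (F.obj A)⟦(1 : ℤ)⟧,
      m.hom ≫ biprod.fst = F.map biprod.fst := by
  have := preservesBinaryBiproducts_of_preservesBiproducts F
  exact ⟨F.mapBiprod A (A⟦(1 : ℤ)⟧) ≪≫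
    biprod.mapIso (Iso.refl _) ((F.commShiftIso (1 : ℤ)).app A), by
      rw [Iso.trans_hom, Functor.mapBiprod_hom, biprod.mapIso_hom, Category.assoc, biprod.map_fst,
        biprod.lift_fst_assoc, Iso.refl_hom, Category.comp_id]⟩

/-- The strong lifting property for an open immersion `w : W ⟶ V`. -/
def StrongLift {V W : Scheme.{u}} (w : W ⟶ V) [IsOpenImmersion w] : Prop :=
  ∀ (T : Set V) (_ : IsClosed T) (_ : IsCompact Tᶜ) (E : DCoh.D V) (_ : DCoh.IsQCohD E)
    (P : DCoh.D W) (_ : DCoh.IsPerfect P) (_ : suppP (w ⁻¹' T) P) (α : P ⟶ (restrictD w).obj E),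
    ∃ (R : DCoh.D V) (β : R ⟶ E) (e : (restrictD w).obj R ≅ P ⊞ P⟦(1 : ℤ)⟧),
      DCoh.IsPerfect R ∧ suppP T R ∧ (restrictD w).map β = e.hom ≫ biprod.fst ≫ α

variable {X U V W : Scheme.{u}} {jU : U ⟶ X} [IsOpenImmersion jU] {jV : V ⟶ X} [IsOpenImmersion jV]
  {wU : W ⟶ U} {wV : W ⟶ V} [IsOpenImmersion wU] [IsOpenImmersion wV]
  (e : wU ≫ jU = wV ≫ jV)

lemma isCompact_preimage_compl {V X : Scheme.{u}} [QuasiSeparatedSpace X] [CompactSpace V]
    (j : V ⟶ X) [IsOpenImmersion j] {T : Set X} (hT : IsClosed T) (hTc : IsCompact Tᶜ) :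
    IsCompact (j ⁻¹' T)ᶜ := by
  have h1 : IsCompact (Set.range j) := by
    rw [← Set.image_univ]
    exact isCompact_univ.image j.continuous
  have h2 : IsCompact (Set.range j ∩ Tᶜ) :=
    QuasiSeparatedSpace.inter_isCompact _ _ j.isOpenEmbedding.isOpen_range h1 hT.isOpen_compl hTc
  rw [j.isOpenEmbedding.isInducing.isCompact_iff, ← Set.preimage_compl,
    Set.image_preimage_eq_range_inter]
  exact h2

include e in
/-- The gluing step: if `X = U ∪ V` and `U ∩ V ⟶ V` has the strong lifting property so does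
`U ⟶ X`. -/
theorem strongLift_of_cover [QuasiSeparatedSpace X] [CompactSpace V]
    (hcov : Set.range jU ∪ Set.range jV = Set.univ)
    (hW : Set.range jU ∩ Set.range jV ⊆ Set.range (wU ≫ jU)) (h : StrongLift wV) :
    StrongLift jU := by
  intro T hT hTc E hE P hP hPT α
  let sq := restrictDSquare e
  have hpre : wV ⁻¹' (jV ⁻¹' T) = wU ⁻¹' (jU ⁻¹' T) := by
    ext x
    change (wV ≫ jV) x ∈ T ↔ (wU ≫ jU) x ∈ T
    rw [e]
  -- lift over `V`
  obtain ⟨Q, βV, eQ, hQ, hQT, hβV⟩ := h (jV ⁻¹' T) (hT.preimage jV.continuous)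
    (isCompact_preimage_compl jV hT hTc)
    ((restrictD jV).obj E) (QCohD.isQCohD_restrictD jV hE) ((restrictD wU).obj P)
    (perf_restrict wU hP) (hpre ▸ suppP_restrictD wU hPT) ((restrictD wU).map α ≫ sq.hom.app E)
  -- glue
  obtain ⟨m, hm⟩ := exists_mapBiprodShift (restrictD wU) P
  obtain ⟨R, a, b, hab⟩ := exists_glue_obj e hW (P ⊞ P⟦(1 : ℤ)⟧) Q (m ≪≫ eQ.symm).hom
  have hagree : Agree e (K := R) (G := E) (a.inv ≫ biprod.fst ≫ α) (b.inv ≫ βV) := by
    dsimp only [Agree]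
    rw [← cancel_epi ((restrictD wU).map a.hom), ← Category.assoc ((restrictD wU).map a.hom),
      ← Functor.map_comp, a.hom_inv_id_assoc, reassoc_of% hab, ← Functor.map_comp,
      b.hom_inv_id_assoc, hβV]
    simp only [Iso.trans_hom, Iso.symm_hom, Category.assoc, Iso.inv_hom_id_assoc, Functor.map_comp]
    rw [reassoc_of% hm]
  obtain ⟨β, hβU, hβV'⟩ := exists_glue_hom e hcov hW _ _ hagree
  refine ⟨R, β, a.symm, ?_, ?_, hβU⟩
  · refine perf_of_cover R fun x => ?_
    have hx : x ∈ Set.range jU ∪ Set.range jV := hcov ▸ Set.mem_univ x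
    rcases hx with ⟨y, rfl⟩ | ⟨y, rfl⟩
    · refine ⟨U, jU, inferInstance, y, rfl, perf_of_iso a ?_⟩
      exact prop_biprod (PerfTri.perf U) hP (perf_shift hP 1)
    · exact ⟨V, jV, inferInstance, y, rfl, perf_of_iso b hQ⟩
  · intro i x hx
    have hx' : x ∈ Set.range jU ∪ Set.range jV := hcov ▸ Set.mem_univ x
    rcases hx' with ⟨y, rfl⟩ | ⟨y, rfl⟩
    · exact prop_biprod (suppP (jU ⁻¹' T)) hPT (suppP_shift hPT 1) i
        ((supp_congr a i).trans (supp_restrictD jU R i) ▸ hx : y ∈ supp (P ⊞ P⟦(1 : ℤ)⟧) i)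
    · exact hQT i ((supp_congr b i).trans (supp_restrictD jV R i) ▸ hx : y ∈ supp Q i)

end Groth.Agent.PerfC.LiftStep
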