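import Groth.Agent.PerfC.FTDesc
import Groth.Agent.Dcoh.LocLift
import Groth.Agent.CalgB.DerTri
import Mathlib.Algebra.Homology.DerivedCategory.TStructure

/-!
# Killing the top cohomology sheaf of a bounded above object of `D(O_X)`
-/

set_option autoImplicit false
universe w v u
open CategoryTheory CategoryTheory.Limits AlgebraicGeometry TopologicalSpace
attribute [local instance] HasDerivedCategory.standard

namespace Groth.Agent.PerfC.LiftTop
open AlgebraicGeometry.Scheme.Modules Groth.Agent.PerfA.Restrict Groth.Agent.PerfA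
open Groth.Agent.PerfC.PcLocal Groth.Agent.PerfC.FTDesc Groth.Agent.CohqB.FiniteType

section Abelian

variable {C : Type u} [Category.{v} C] [Abelian C]

/-- A criterion for a map of complexes to be surjective on cohomology in a given degree. -/
lemma epi_homologyMap {E G : CochainComplex C ℤ} (β : E ⟶ G) (p : ℤ) (hE : E.d p (p + 1) = 0)
    (h : Epi (β.f p ≫ G.pOpcycles p)) : Epi (HomologicalComplex.homologyMap β p) := by
  have h1 : Epi (HomologicalComplex.opcyclesMap β p) := by
    rw [← HomologicalComplex.p_opcyclesMap] at h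
    exact epi_of_epi (E.pOpcycles p) _
  have h2 : IsIso (E.homologyι p) := E.isIso_homologyι p (p + 1) (by simp) hE
  have h3 : Epi (HomologicalComplex.homologyMap β p ≫ G.homologyι p) := by
    rw [HomologicalComplex.homologyι_naturality]
    infer_instance
  have h4 : Epi (G.homologyι p) := epi_of_epi (HomologicalComplex.homologyMap β p) _
  have h5 : IsIso (G.homologyι p) := isIso_of_mono_of_epi _
  exact (epi_comp_iff_of_isIso (HomologicalComplex.homologyMap β p) (G.homologyι p)).1 h3

/-- `F(pOpcycles)` is a quotient refining `pOpcycles` of `F(K)`, for right exact `F`. -/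
lemma epi_comp_pOpcycles {D : Type*} [Category D] [Abelian D] (F : C ⥤ D) [F.Additive]
    [PreservesFiniteColimits F] (K : CochainComplex C ℤ) (p : ℤ) {P : D} (ψ : P ⟶ F.obj (K.X p))
    (h : Epi (ψ ≫ F.map (K.pOpcycles p))) :
    Epi (ψ ≫ ((F.mapHomologicalComplex (ComplexShape.up ℤ)).obj K).pOpcycles p) := by
  have hc := CokernelCofork.mapIsColimit _ (K.opcyclesIsCokernel (p - 1) p (by simp)) F
  obtain ⟨l, hl⟩ := CokernelCofork.IsColimit.desc' hc
    (((F.mapHomologicalComplex (ComplexShape.up ℤ)).obj K).pOpcycles p)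
    (((F.mapHomologicalComplex (ComplexShape.up ℤ)).obj K).d_pOpcycles (p - 1) p)
  have hl' : F.map (K.pOpcycles p) ≫ l =
    ((F.mapHomologicalComplex (ComplexShape.up ℤ)).obj K).pOpcycles p := hl
  have hp : Epi (((F.mapHomologicalComplex (ComplexShape.up ℤ)).obj K).pOpcycles p) :=
    inferInstance
  have h1 : Epi l := by
    have : Epi (F.map (K.pOpcycles p) ≫ l) := by rw [hl']; exact hp
    exact epi_of_epi (F.map (K.pOpcycles p)) l
  have h2 : Epi ((ψ ≫ F.map (K.pOpcycles p)) ≫ l) := @epi_comp _ _ _ _ _ _ h _ h1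
  rw [Category.assoc, hl'] at h2
  exact h2

end Abelian

variable {X Y : Scheme.{u}}

/-- Finite free modules in the two presentations. -/
noncomputable def freeMIso (X : Scheme.{u}) (I : Type u) (n : ℕ) (e : I ≃ Fin n) :
    freeM X I ≅ FlatMod.freeMod X n :=
  Limits.Sigma.whiskerEquiv (C := X.Modules) (f := fun _ : I => Coh.structureModule X)
    (g := fun _ : Fin n => Coh.structureModule X) e fun _ => Iso.refl _

lemma exists_epi_freeMod {M : X.Modules} (h : HasFinGen M) :
    ∃ (n : ℕ) (φ : FlatMod.freeMod X n ⟶ M), Epi φ := by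
  obtain ⟨σ, hσ⟩ := h
  have hI : Finite σ.I := SheafOfModules.GeneratingSections.IsFiniteType.finite
  have hπ : Epi (C := X.Modules) (X := freeM X σ.I) (Y := M) σ.π := σ.epi
  exact ⟨Nat.card σ.I, (freeMIso X σ.I _ (Finite.equivFin σ.I)).inv ≫ σ.π, epi_comp _ _⟩

/-- Over a neighbourhood of every point, the top cohomology sheaf is hit by a module in one degree. -/
theorem exists_lift_top (K : DCoh.D X) (p : ℤ) (hK : K.IsLE p) {E : X.Modules}
    (hE : FlatMod.IsFinLocFree E) (φ : E ⟶ DCoh.HD K p) (hφ : Epi φ) (x : X) :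
    ∃ (V : X.Opens) (_ : x ∈ V)
      (α : DerivedCategory.Q.obj
        ((HomologicalComplex.single _ (ComplexShape.up ℤ) p).obj (E.restrict V.ι)) ⟶
          (restrictD V.ι).obj K), Epi ((DerivedCategory.homologyFunctor _ p).map α) := by
  obtain ⟨F, hF, ⟨e⟩⟩ := DerivedCategory.exists_iso_Q_obj_of_isLE K p
  have hz : IsZero (F.X (p + 1)) := F.isZero_of_isStrictlyLE p (p + 1) (by lia)
  have hd : F.d p (p + 1) = 0 := hz.eq_of_tgt _ _
  have hι : IsIso (F.homologyι p) := F.isIso_homologyι p (p + 1) (by simp) hd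
  let iH : DCoh.HD K p ≅ F.homology p :=
    (DerivedCategory.homologyFunctor _ p).mapIso e ≪≫
      (DerivedCategory.homologyFunctorFactors _ p).app F
  obtain ⟨V, hx, ψ, hψ⟩ := Dcoh.LocLift.exists_lifts_of_isFinLocFree
    (F.pOpcycles p ≫ inv (F.homologyι p)) (φ ≫ iH.hom) hE x
  let G := (resCx V.ι).obj F
  let β : (HomologicalComplex.single _ (ComplexShape.up ℤ) p).obj (E.restrict V.ι) ⟶ G :=
    HomologicalComplex.mkHomFromSingle (K := G) ψ fun k hk => by
      have hk' : p + 1 = k := hk
      subst hk'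
      exact ((restrictFunctor V.ι).map_isZero hz).eq_of_tgt _ _
  have h1 : Epi (ψ ≫ (restrictFunctor V.ι).map (F.pOpcycles p)) := by
    have h2 : ψ ≫ (restrictFunctor V.ι).map (F.pOpcycles p) =
        (restrictFunctor V.ι).map (φ ≫ iH.hom) ≫
          (restrictFunctor V.ι).map (F.homologyι p) := by
      rw [← hψ, Category.assoc, ← Functor.map_comp, Category.assoc, IsIso.inv_hom_id,
        Category.comp_id]
    rw [h2]
    infer_instance
  have h3 : Epi (ψ ≫ G.pOpcycles p) := epi_comp_pOpcycles (restrictFunctor V.ι) F p ψ h1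
  have h4 : Epi (HomologicalComplex.homologyMap β p) := by
    refine epi_homologyMap β p (HomologicalComplex.single_obj_d _ _ _ _ _) ?_
    rw [HomologicalComplex.mkHomFromSingle_f, Category.assoc]
    exact epi_comp _ _
  have h5 : Epi ((DerivedCategory.homologyFunctor _ p).map (DerivedCategory.Q.map β)) := by
    have h6 := (DerivedCategory.homologyFunctorFactors _ p).hom.naturality β
    rw [← cancel_mono ((DerivedCategory.homologyFunctorFactors _ p).inv.app G)] at h6
    simp only [Category.assoc, Iso.hom_inv_id_app, Category.comp_id, Functor.comp_obj,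
      Functor.comp_map] at h6
    rw [h6]
    have : Epi ((HomologicalComplex.homologyFunctor _ (ComplexShape.up ℤ) p).map β) := h4
    infer_instance
  refine ⟨V, hx, DerivedCategory.Q.map β ≫ (restrictDQ V.ι F).inv ≫ (restrictD V.ι).map e.inv, ?_⟩
  rw [Functor.map_comp]
  exact epi_comp _ _

/-- A single finite locally free module is a strictly perfect complex. -/
lemma isStrictlyPerfect_single {E : X.Modules} (hE : FlatMod.IsFinLocFree E) (p : ℤ) :
    DCoh.IsStrictlyPerfect ((HomologicalComplex.single _ (ComplexShape.up ℤ) p).obj E) := by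
  refine ⟨⟨p, p, fun i hi => HomologicalComplex.isZero_single_obj_X _ _ _ _ (by lia)⟩, fun i => ?_⟩
  by_cases h : i = p
  · subst h
    exact isFinLocFree_of_iso (HomologicalComplex.singleObjXSelf (ComplexShape.up ℤ) i E).symm hE
  · exact isFinLocFree_of_isZero (HomologicalComplex.isZero_single_obj_X _ _ _ _ h)

/-- If `K ∈ D^{≤ p}` and `H^p(K)` is of finite type then, locally, there is a distinguished triangle
`E[-p] → K → C` with `E` finite locally free and `C ∈ D^{≤ p - 1}`. -/
theorem exists_triangle (K : DCoh.D X) (p : ℤ) (hK : K.IsLE p) (hF : CohB1.IsFT (DCoh.HD K p))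
    (x : X) : ∃ (W : Scheme.{u}) (j : W ⟶ X) (_ : IsOpenImmersion j) (y : W), j y = x ∧
      ∃ (E : W.Modules) (_ : FlatMod.IsFinLocFree E) (T : Pretriangulated.Triangle (DCoh.D W))
        (_ : T ∈ Pretriangulated.distinguishedTriangles),
        T.obj₁ = DerivedCategory.Q.obj ((HomologicalComplex.single _ (ComplexShape.up ℤ) p).obj E) ∧
        T.obj₂ = (restrictD j).obj K ∧ T.obj₃.IsLE (p - 1) := by
  obtain ⟨U, hxU, hU⟩ := (isFT_iff_hasFinGen _).1 hF x
  have hU' : HasFinGen (DCoh.HD ((restrictD U.ι).obj K) p) := hU.of_iso (HDrestrict U.ι K p).symm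
  obtain ⟨n, φ, hφ⟩ := exists_epi_freeMod hU'
  have hKU : ((restrictD U.ι).obj K).IsLE p := ExactD.isLE_map _ _ _
  obtain ⟨V, hxV, α, hα⟩ := exists_lift_top ((restrictD U.ι).obj K) p hKU
    (isFinLocFree_freeMod n) φ hφ ⟨x, hxU⟩
  let e := (restrictDComp V.ι U.ι).app K
  let α' := α ≫ e.hom
  have hα' : Epi ((DerivedCategory.homologyFunctor _ p).map α') := by
    rw [Functor.map_comp]
    exact epi_comp _ _
  obtain ⟨C, g, h, hT⟩ := Pretriangulated.distinguished_cocone_triangle α'
  refine ⟨V, V.ι ≫ U.ι, inferInstance, ⟨⟨x, hxU⟩, hxV⟩, rfl, _,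
    isFinLocFree_restrict V.ι (isFinLocFree_freeMod n), _, hT, rfl, rfl, ?_⟩
  refine (CalgB.DerTri.isLE_obj₃_iff hT p (p - 1) (by lia)).2 ⟨fun i hi => ?_, hα'⟩
  have h1 : ((restrictD (V.ι ≫ U.ι)).obj K).IsLE p := ExactD.isLE_map _ _ _
  refine isIso_of_source_target_iso_zero _ ?_ ?_
  · refine IsZero.isoZero (IsZero.of_iso ?_ ((DerivedCategory.homologyFunctorFactors _ i).app _))
    refine ShortComplex.isZero_homology_of_isZero_X₂ _ ?_
    exact HomologicalComplex.isZero_single_obj_X (ComplexShape.up ℤ) p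
      ((FlatMod.freeMod (U : Scheme.{u}) n).restrict V.ι) i (by lia)
  · exact (DerivedCategory.isZero_of_isLE ((restrictD (V.ι ≫ U.ι)).obj K) p i hi).isoZero

end Groth.Agent.PerfC.LiftTop
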