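import Groth.Agent.PerfC.ExtZeroD2

/-!
# Gluing morphisms and objects of `D(O_X)` along two open immersions
-/

set_option autoImplicit false
set_option linter.unusedSectionVars false
universe u
open CategoryTheory CategoryTheory.Limits AlgebraicGeometry Pretriangulated
attribute [local instance] HasDerivedCategory.standard

namespace Groth.Agent.PerfC.MV
open Groth.Agent.PerfA.Restrict Groth.Agent.PerfA Groth.Agent.CohqB Groth.Agent.PerfC.Supp
open Groth.Agent.PerfC.PcLocal AlgebraicGeometry.Scheme.Modules Groth.Agent.PerfC.ExtZeroD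

section Triang

variable {C : Type*} [Category C] [HasZeroObject C] [HasShift C ℤ] [Preadditive C]
  [∀ n : ℤ, (shiftFunctor C n).Additive] [Pretriangulated C]

/-- In a distinguished triangle `A ⟶ Y ⊕ Z ⟶ C ⟶ A[1]` with `A ≅ Z`, the map `Y ⟶ C` is an
isomorphism. -/
lemma isIso_inl_comp (T : Triangle C) (hT : T ∈ distTriang C) {Y Z : C} (i₁ : Y ⟶ T.obj₂)
    (i₂ : Z ⟶ T.obj₂) (p₁ : T.obj₂ ⟶ Y) (p₂ : T.obj₂ ⟶ Z) (h11 : i₁ ≫ p₁ = 𝟙 Y)
    (h12 : i₁ ≫ p₂ = 0) (htot : p₁ ≫ i₁ + p₂ ≫ i₂ = 𝟙 _) (hiso : IsIso (T.mor₁ ≫ p₂)) :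
    IsIso (i₁ ≫ T.mor₂) := by
  have hmono : Mono (i₁ ≫ T.mor₂) := by
    refine Preadditive.mono_of_cancel_zero _ fun {P} m hm => ?_
    obtain ⟨n, hn⟩ := Triangle.coyoneda_exact₂ T hT (m ≫ i₁) (by rw [Category.assoc, hm])
    have h0 : n = 0 := by
      rw [← cancel_mono (T.mor₁ ≫ p₂), ← Category.assoc, ← hn, Category.assoc, h12, comp_zero,
        zero_comp]
    rw [h0, zero_comp] at hn
    rw [← Category.comp_id m, ← h11, ← Category.assoc, hn, zero_comp]
  have h3 : T.mor₃ = 0 := by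
    have h := comp_distTriang_mor_zero₃₁ T hT
    have h' : T.mor₃ ≫ (T.mor₁ ≫ p₂ ≫ inv (T.mor₁ ≫ p₂))⟦(1 : ℤ)⟧' = 0 := by
      rw [Functor.map_comp, reassoc_of% h, zero_comp]
    rw [← Category.assoc T.mor₁, IsIso.hom_inv_id, CategoryTheory.Functor.map_id,
      Category.comp_id] at h'
    exact h'
  obtain ⟨s, hs⟩ := Triangle.coyoneda_exact₃ T hT (𝟙 T.obj₃) (by rw [h3, comp_zero])
  have h2 : i₂ ≫ T.mor₂ = -(inv (T.mor₁ ≫ p₂) ≫ T.mor₁ ≫ p₁ ≫ i₁ ≫ T.mor₂) := by
    rw [← cancel_epi (T.mor₁ ≫ p₂), Preadditive.comp_neg, IsIso.hom_inv_id_assoc,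
      eq_neg_iff_add_eq_zero]
    have h0 : T.mor₁ ≫ (p₁ ≫ i₁ + p₂ ≫ i₂) ≫ T.mor₂ = 0 := by
      rw [htot, Category.id_comp, comp_distTriang_mor_zero₁₂ T hT]
    rw [← h0]
    simp only [Category.assoc, Preadditive.add_comp, Preadditive.comp_add]
    rw [add_comm]
  have hsplit : IsSplitEpi (i₁ ≫ T.mor₂) := by
    refine IsSplitEpi.mk' ⟨s ≫ p₁ - s ≫ p₂ ≫ inv (T.mor₁ ≫ p₂) ≫ T.mor₁ ≫ p₁, ?_⟩
    rw [hs]
    conv_rhs => rw [← Category.comp_id s, ← htot, Category.assoc]
    simp only [Category.assoc, Preadditive.add_comp, Preadditive.comp_add, h2,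
      Preadditive.sub_comp, Preadditive.comp_neg]
    rw [sub_eq_add_neg]
  exact isIso_of_mono_of_isSplitEpi _

variable {A B D G : C} {a : A ⟶ B} {b : B ⟶ D} {c : D ⟶ A⟦(1 : ℤ)⟧}

lemma exists_factor (hT : Triangle.mk a b c ∈ distTriang C) (f : B ⟶ G) (hf : a ≫ f = 0) :
    ∃ g : D ⟶ G, b ≫ g = f := by
  obtain ⟨g, hg⟩ := Triangle.yoneda_exact₂ _ hT f hf
  exact ⟨g, hg.symm⟩

lemma exists_extend (hT : Triangle.mk a b c ∈ distTriang C) (f : A ⟶ G)
    (hf : ∀ (m : D⟦(-1 : ℤ)⟧ ⟶ A), m ≫ a = 0 → m ≫ f = 0) : ∃ g : B ⟶ G, a ≫ g = f := by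
  have hinv := inv_rot_of_distTriang _ hT
  obtain ⟨g, hg⟩ := Triangle.yoneda_exact₂ _ hinv f
    (hf _ (comp_distTriang_mor_zero₁₂ _ hinv))
  exact ⟨g, hg.symm⟩

end Triang

variable {X U V W : Scheme.{u}} {jU : U ⟶ X} [IsOpenImmersion jU] {jV : V ⟶ X} [IsOpenImmersion jV]
  {wU : W ⟶ U} {wV : W ⟶ V} [IsOpenImmersion wU] [IsOpenImmersion wV]
  (e : wU ≫ jU = wV ≫ jV)

/-- Morphisms over `U` and `V` which agree over `W`. -/
def Agree {K G : DCoh.D X} (f : (restrictD jU).obj K ⟶ (restrictD jU).obj G)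
    (g : (restrictD jV).obj K ⟶ (restrictD jV).obj G) : Prop :=
  (restrictD wU).map f ≫ (restrictDSquare e).hom.app G =
    (restrictDSquare e).hom.app K ≫ (restrictD wV).map g

/-- Naturality of the comparison over `W`. -/
lemma square_naturality {K G : DCoh.D X} (φ : K ⟶ G) :
    (restrictD wU).map ((restrictD jU).map φ) ≫ (restrictDSquare e).hom.app G =
      (restrictDSquare e).hom.app K ≫ (restrictD wV).map ((restrictD jV).map φ) :=
  (restrictDSquare e).hom.naturality φ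

include e in
lemma preimage_range_subset (hW : Set.range jU ∩ Set.range jV ⊆ Set.range (wU ≫ jU)) :
    jV ⁻¹' (Set.range jU) ⊆ Set.range wV := by
  intro v hv
  obtain ⟨w, hw⟩ := hW ⟨hv, ⟨v, rfl⟩⟩
  refine ⟨w, jV.isOpenEmbedding.injective ?_⟩
  rw [← hw, e]; rfl

lemma preimage_range_subset' (hW : Set.range jU ∩ Set.range jV ⊆ Set.range (wU ≫ jU)) :
    jU ⁻¹' (Set.range jV) ⊆ Set.range wU := by
  intro v hv
  obtain ⟨w, hw⟩ := hW ⟨⟨v, rfl⟩, hv⟩
  exact ⟨w, jU.isOpenEmbedding.injective hw⟩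

omit [IsOpenImmersion jV] in
lemma supp_subset_of_isZero_restrictD
    (hcov : Set.range jU ∪ Set.range jV = Set.univ) {C : DCoh.D X}
    (hC : IsZero ((restrictD jU).obj C)) (i : ℤ) : supp C i ⊆ Set.range jV := by
  intro x hx
  have hx' : x ∈ Set.range jU ∪ Set.range jV := hcov ▸ Set.mem_univ x
  refine hx'.resolve_left ?_
  rintro ⟨y, rfl⟩
  have h1 : y ∈ jU ⁻¹' (supp C i) := hx
  rw [← supp_restrictD, supp_zero hC] at h1
  exact h1

/-- Gluing of morphisms in `D(O_X)`. -/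
theorem exists_glue_hom (hcov : Set.range jU ∪ Set.range jV = Set.univ)
    (hW : Set.range jU ∩ Set.range jV ⊆ Set.range (wU ≫ jU)) {K G : DCoh.D X}
    (f : (restrictD jU).obj K ⟶ (restrictD jU).obj G)
    (g : (restrictD jV).obj K ⟶ (restrictD jV).obj G) (hfg : Agree e f g) :
    ∃ φ : K ⟶ G, (restrictD jU).map φ = f ∧ (restrictD jV).map φ = g := by
  let K' := (shriekD jU).obj ((restrictD jU).obj K)
  let ε : K' ⟶ K := (adjunction jU).counit.app K
  have hε : IsIso ((restrictD jU).map ε) := isIso_restrictD_counit jU K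
  obtain ⟨C, π, δ, hT⟩ := distinguished_cocone_triangle ε
  have hC0 : IsZero ((restrictD jU).obj C) :=
    Triangle.isZero₃_of_isIso₁ _ ((restrictD jU).map_distinguished _ hT) hε
  have hCs : ∀ i, supp C i ⊆ Set.range jV := supp_subset_of_isZero_restrictD hcov hC0
  let fb : K' ⟶ G := (shriekD jU).map f ≫ (adjunction jU).counit.app G
  have hfb : (restrictD jU).map fb = (restrictD jU).map ε ≫ f := by
    rw [← cancel_epi ((adjunction jU).unit.app _)]
    have h1 := (adjunction jU).right_triangle_components K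
    have h2 := (adjunction jU).right_triangle_components G
    have h3 := (adjunction jU).unit.naturality f
    dsimp only [Functor.id_obj, Functor.comp_obj, Functor.id_map, Functor.comp_map] at h1 h2 h3
    dsimp only [fb, ε, Functor.id_obj]
    rw [Functor.map_comp, ← reassoc_of% h3, h2, reassoc_of% h1, Category.comp_id]
  have hV : (restrictD jV).map fb = (restrictD jV).map ε ≫ g := by
    refine (bijective_restrictD_map wV _ _ ?_).1 ?_
    · intro i
      exact (supp_restrictD jV _ i).trans_subset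
        ((Set.preimage_mono (supp_shriekD_subset_range jU _ i)).trans
          (preimage_range_subset e hW))
    · dsimp only
      rw [← cancel_epi ((restrictDSquare e).hom.app K'), ← square_naturality, hfb,
        Functor.map_comp, Functor.map_comp, Category.assoc, hfg, ← reassoc_of% square_naturality]
  obtain ⟨h0, hh0⟩ := exists_extend hT fb fun m hm => by
    refine (bijective_restrictD_map jV _ _ ?_).1 ?_
    · intro i
      exact (supp_shift C (-1) i (i - 1) (by lia)).trans_subset (hCs _)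
    · dsimp only
      rw [Functor.map_zero, Functor.map_comp, hV, ← Functor.map_comp_assoc, hm, Functor.map_zero,
        zero_comp]
  have hU0 : (restrictD jU).map h0 = f := by
    rw [← cancel_epi ((restrictD jU).map ε), ← Functor.map_comp, hh0, hfb]
  have hV0 : (restrictD jV).map ε ≫ (g - (restrictD jV).map h0) = 0 := by
    rw [Preadditive.comp_sub, ← Functor.map_comp, hh0, hV, sub_self]
  obtain ⟨t, ht⟩ := exists_factor ((restrictD jV).map_distinguished _ hT)
    (g - (restrictD jV).map h0) hV0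
  obtain ⟨t', ht'⟩ := (bijective_restrictD_map jV C G hCs).2 t
  replace ht' : (restrictD jV).map t' = t := ht'
  replace ht : (restrictD jV).map π ≫ t = g - (restrictD jV).map h0 := ht
  refine ⟨h0 + π ≫ t', ?_, ?_⟩
  · rw [Functor.map_add, Functor.map_comp, hU0, hC0.eq_of_src ((restrictD jU).map t') 0,
      comp_zero, add_zero]
  · rw [Functor.map_add, Functor.map_comp, ht', ht, add_sub_cancel]

end Groth.Agent.PerfC.MV
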