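import Groth.Agent.PerfC.MV
import Groth.Agent.PerfC.PerfLocal

/-!
# Gluing objects of `D(O_X)` along two open immersions
-/

set_option autoImplicit false
set_option linter.unusedSectionVars false
universe u
open CategoryTheory CategoryTheory.Limits AlgebraicGeometry Pretriangulated
attribute [local instance] HasDerivedCategory.standard

namespace Groth.Agent.PerfC.MV
open Groth.Agent.PerfA.Restrict Groth.Agent.PerfA Groth.Agent.CohqB Groth.Agent.PerfC.Supp
open Groth.Agent.PerfC.PcLocal AlgebraicGeometry.Scheme.Modules Groth.Agent.PerfC.ExtZeroD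

section Triang

variable {C D : Type*} [Category C] [HasZeroObject C] [HasShift C ℤ] [Preadditive C]
  [∀ n : ℤ, (shiftFunctor C n).Additive] [Pretriangulated C]
  [Category D] [HasZeroObject D] [HasShift D ℤ] [Preadditive D]
  [∀ n : ℤ, (shiftFunctor D n).Additive] [Pretriangulated D]

/-- Image version of `isIso_inl_comp`. -/
lemma isIso_map_inl_comp (F : C ⥤ D) [F.CommShift ℤ] [F.IsTriangulated] {A P Q Y Z : C}
    {m : A ⟶ P} {π : P ⟶ Q} {δ : Q ⟶ A⟦(1 : ℤ)⟧} (hT : Triangle.mk m π δ ∈ distTriang C)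
    (i₁ : Y ⟶ P) (i₂ : Z ⟶ P) (p₁ : P ⟶ Y) (p₂ : P ⟶ Z) (h11 : i₁ ≫ p₁ = 𝟙 Y)
    (h12 : i₁ ≫ p₂ = 0) (htot : p₁ ≫ i₁ + p₂ ≫ i₂ = 𝟙 _) (hiso : IsIso (F.map (m ≫ p₂))) :
    IsIso (F.map (i₁ ≫ π)) := by
  have hF : F.Additive := inferInstance
  rw [Functor.map_comp] at hiso ⊢
  have h1 : F.map i₁ ≫ F.map p₁ = 𝟙 (F.obj Y) := by
    rw [← Functor.map_comp, h11, CategoryTheory.Functor.map_id]
  have h2 : F.map i₁ ≫ F.map p₂ = 0 := by
    rw [← Functor.map_comp, h12, Functor.map_zero]
  have h3 : F.map p₁ ≫ F.map i₁ + F.map p₂ ≫ F.map i₂ = 𝟙 (F.obj P) := by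
    rw [← Functor.map_comp, ← Functor.map_comp, ← Functor.map_add, htot,
      CategoryTheory.Functor.map_id]
  exact isIso_inl_comp _ (F.map_distinguished _ hT) (F.map i₁) (F.map i₂) (F.map p₁) (F.map p₂)
    h1 h2 h3 hiso

end Triang

variable {X U V W : Scheme.{u}} {jU : U ⟶ X} [IsOpenImmersion jU] {jV : V ⟶ X} [IsOpenImmersion jV]
  {wU : W ⟶ U} {wV : W ⟶ V} [IsOpenImmersion wU] [IsOpenImmersion wV]
  (e : wU ≫ jU = wV ≫ jV)

/-- The adjunction for the composite `W ⟶ U ⟶ X`. -/
noncomputable def adjW (jU : U ⟶ X) [IsOpenImmersion jU] (wU : W ⟶ U) [IsOpenImmersion wU] :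
    shriekD wU ⋙ shriekD jU ⊣ restrictD jU ⋙ restrictD wU :=
  (adjunction wU).comp (adjunction jU)

lemma supp_adjW (B : DCoh.D W) (i : ℤ) :
    supp ((shriekD wU ⋙ shriekD jU).obj B) i ⊆ Set.range (wU ≫ jU) := by
  refine (supp_shriekD jU _ i).trans_subset ?_
  rintro _ ⟨u, hu, rfl⟩
  obtain ⟨w, rfl⟩ := supp_shriekD_subset_range wU B i hu
  exact ⟨w, rfl⟩

instance isIso_adjW_unit_app (B : DCoh.D W) : IsIso ((adjW jU wU).unit.app B) := by
  rw [show (adjW jU wU).unit.app B = (adjunction wU).unit.app B ≫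
    (restrictD wU).map ((adjunction jU).unit.app ((shriekD wU).obj B)) from
    Adjunction.comp_unit_app _ _ _]
  infer_instance

/-- Transposition: every `m : B ⟶ (G|_U)|_W` is of the form `unit ≫ (μ|_U)|_W`. -/
lemma exists_adjW (B : DCoh.D W) (G : DCoh.D X) (m : B ⟶ (restrictD wU).obj ((restrictD jU).obj G)) :
    ∃ μ : (shriekD wU ⋙ shriekD jU).obj B ⟶ G,
      (adjW jU wU).unit.app B ≫ (restrictD wU).map ((restrictD jU).map μ) = m := by
  obtain ⟨μ, hμ⟩ := ((adjW jU wU).homEquiv B G).surjective m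
  refine ⟨μ, ?_⟩
  rw [← hμ, Adjunction.homEquiv_unit]
  rfl

lemma isIso_restrictD_of_supp {j : U ⟶ X} [IsOpenImmersion j] {w : W ⟶ U} [IsOpenImmersion w]
    {K L : DCoh.D X} (μ : K ⟶ L) (hK : ∀ i, j ⁻¹' (supp K i) ⊆ Set.range w)
    (hL : ∀ i, j ⁻¹' (supp L i) ⊆ Set.range w)
    (h : IsIso ((restrictD w).map ((restrictD j).map μ))) : IsIso ((restrictD j).map μ) :=
  isIso_of_supp (j := w) _ (fun i => (supp_restrictD j K i).trans_subset (hK i))
    (fun i => (supp_restrictD j L i).trans_subset (hL i)) h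

include e in
/-- Gluing of objects of `D(O_X)`. -/
theorem exists_glue_obj (hW : Set.range jU ∩ Set.range jV ⊆ Set.range (wU ≫ jU)) (A : DCoh.D U) (B : DCoh.D V)
    (φ : (restrictD wU).obj A ⟶ (restrictD wV).obj B) [IsIso φ] :
    ∃ (C : DCoh.D X) (a : A ≅ (restrictD jU).obj C) (b : B ≅ (restrictD jV).obj C),
      (restrictD wU).map a.hom ≫ (restrictDSquare e).hom.app C = φ ≫ (restrictD wV).map b.hom := by
  let η := (adjW jU wU).unit.app ((restrictD wU).obj A)
  let A' := (shriekD jU).obj A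
  let B' := (shriekD jV).obj B
  let ηA : A ⟶ (restrictD jU).obj A' := (adjunction jU).unit.app A
  let ηB : B ⟶ (restrictD jV).obj B' := (adjunction jV).unit.app B
  let sq := restrictDSquare e
  let W' := (shriekD wU ⋙ shriekD jU).obj ((restrictD wU).obj A)
  have hWs := supp_adjW (jU := jU) (wU := wU) ((restrictD wU).obj A)
  obtain ⟨α, hα⟩ := exists_adjW ((restrictD wU).obj A) A' ((restrictD wU).map ηA)
  obtain ⟨β, hβ⟩ := exists_adjW ((restrictD wU).obj A) B'
    (φ ≫ (restrictD wV).map ηB ≫ sq.inv.app B')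
  replace hβ : η ≫ (restrictD wU).map ((restrictD jU).map β) ≫ sq.hom.app B' =
      φ ≫ (restrictD wV).map ηB := by
    rw [← Category.assoc]
    refine (congr_arg (· ≫ sq.hom.app B') hβ).trans ?_
    simp only [Category.assoc, sq.inv_hom_id_app]
    exact congr_arg (φ ≫ ·) (Category.comp_id _)
  replace hα : η ≫ (restrictD wU).map ((restrictD jU).map α) = (restrictD wU).map ηA := hα
  -- isomorphisms over `W`
  have hαW : IsIso ((restrictD wU).map ((restrictD jU).map α)) := IsIso.of_isIso_fac_left hα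
  have hβW : IsIso ((restrictD wU).map ((restrictD jU).map β)) := by
    have h1 : IsIso ((restrictD wU).map ((restrictD jU).map β) ≫ sq.hom.app B') :=
      IsIso.of_isIso_fac_left hβ
    exact IsIso.of_isIso_comp_right _ (sq.hom.app B')
  have hβU : IsIso ((restrictD jU).map β) := by
    refine isIso_restrictD_of_supp (w := wU) β (fun i => ?_) (fun i => ?_) hβW
    · refine (Set.preimage_mono (hWs i)).trans ?_
      rintro u ⟨w, hw⟩
      exact ⟨w, jU.isOpenEmbedding.injective hw⟩
    · exact (Set.preimage_mono (supp_shriekD_subset_range jV _ i)).trans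
        (preimage_range_subset' hW)
  have hαV : IsIso ((restrictD jV).map α) := by
    refine isIso_restrictD_of_supp (w := wV) α (fun i => ?_) (fun i => ?_) ?_
    · refine (Set.preimage_mono (hWs i)).trans ?_
      rintro u ⟨w, hw⟩
      refine ⟨w, jV.isOpenEmbedding.injective ?_⟩
      rw [← hw, e]; rfl
    · exact (Set.preimage_mono (supp_shriekD_subset_range jU _ i)).trans
        (preimage_range_subset e hW)
    · exact (NatIso.isIso_map_iff sq α).1 hαW
  obtain ⟨C, π, δ, hT⟩ := distinguished_cocone_triangle (biprod.lift α (-β))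
  have hiA : IsIso ((restrictD jU).map ((biprod.inl : A' ⟶ A' ⊞ B') ≫ π)) := by
    refine isIso_map_inl_comp (restrictD jU) hT biprod.inl biprod.inr biprod.fst biprod.snd
      biprod.inl_fst biprod.inl_snd biprod.total ?_
    rw [biprod.lift_snd, Functor.map_neg]
    exact ⟨-inv ((restrictD jU).map β), by simp, by simp⟩
  have hiB : IsIso ((restrictD jV).map ((biprod.inr : B' ⟶ A' ⊞ B') ≫ π)) := by
    refine isIso_map_inl_comp (restrictD jV) hT biprod.inr biprod.inl biprod.snd biprod.fst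
      biprod.inr_snd biprod.inr_fst ((add_comm _ _).trans biprod.total) ?_
    rw [biprod.lift_fst]
    exact hαV
  have hcomp : α ≫ (biprod.inl : A' ⟶ A' ⊞ B') ≫ π = β ≫ (biprod.inr : B' ⟶ A' ⊞ B') ≫ π := by
    have h0 : biprod.lift α (-β) ≫ π = 0 := comp_distTriang_mor_zero₁₂ _ hT
    rw [biprod.lift_eq, Preadditive.add_comp, Category.assoc, Category.assoc,
      Preadditive.neg_comp, ← sub_eq_add_neg, sub_eq_zero] at h0
    exact h0
  refine ⟨C, asIso (ηA ≫ (restrictD jU).map (biprod.inl ≫ π)),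
    asIso (ηB ≫ (restrictD jV).map (biprod.inr ≫ π)), ?_⟩
  have k1 : (restrictD wU).map ηA ≫ (restrictD wU).map ((restrictD jU).map (biprod.inl ≫ π)) =
      η ≫ (restrictD wU).map ((restrictD jU).map (α ≫ biprod.inl ≫ π)) := by
    refine (congr_arg (· ≫ (restrictD wU).map ((restrictD jU).map
      (biprod.inl ≫ π))) hα.symm).trans ?_
    refine (Category.assoc _ _ _).trans ?_
    rw [← Functor.map_comp, ← Functor.map_comp]
  have k2 : η ≫ (restrictD wU).map ((restrictD jU).map (β ≫ biprod.inr ≫ π)) ≫ sq.hom.app C =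
      φ ≫ (restrictD wV).map ηB ≫ (restrictD wV).map ((restrictD jV).map (biprod.inr ≫ π)) := by
    rw [Functor.map_comp _ β, Functor.map_comp, Category.assoc, square_naturality,
      ← reassoc_of% hβ]
  rw [asIso_hom, asIso_hom, Functor.map_comp, Functor.map_comp (restrictD wV), ← k2, k1, hcomp,
    Category.assoc]

end Groth.Agent.PerfC.MV
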