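import Groth.Agent.PerfC.DerAux
import Groth.Agent.PerfC.SigmaInd
import Mathlib.CategoryTheory.Preadditive.Projective.Basic

/-!
# Dévissage for `m`-pseudo-coherence: uniqueness of predicates with the expected properties

`C` is an abelian category with a projective object `G` (e.g. `C = Mod A`, `G = A`).
-/

set_option autoImplicit false
universe w v u

open CategoryTheory CategoryTheory.Limits DerivedCategory Pretriangulated
open Groth.Agent.PerfC.DerAux

namespace Groth.Agent.PerfC.PCLike

variable {C : Type u} [Category.{v} C] [Abelian C] [HasDerivedCategory.{w} C] (G : C)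

/-- The sum of `n` copies of `G`. -/
noncomputable abbrev free (n : ℕ) : C := ∐ fun _ : Fin n => G

omit [HasDerivedCategory.{w} C] in
lemma projective_free [Projective G] (n : ℕ) : Projective (free G n) where
  factors f e _ := ⟨Sigma.desc fun i => Projective.factorThru (Sigma.ι (fun _ => G) i ≫ f) e, by
    refine Sigma.hom_ext _ _ fun i => ?_
    rw [Sigma.ι_desc_assoc, Projective.factorThru_comp]⟩

/-- Quotients of finite sums of copies of `G`. -/
def FG (N : C) : Prop := ∃ (n : ℕ) (q : free G n ⟶ N), Epi q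

variable {G} in
omit [HasDerivedCategory.{w} C] in
lemma FG.of_iso {M N : C} (h : FG G M) (e : M ≅ N) : FG G N := by
  obtain ⟨n, q, hq⟩ := h
  exact ⟨n, q ≫ e.hom, epi_comp _ _⟩

/-- If `M ≤ p` and `H^p(M)` is finitely generated then there is `G^n[-p] ⟶ M` that is epi on `H^p`. -/
lemma exists_map [Projective G] (M : DerivedCategory C) (p : ℤ) [M.IsLE p]
    (h : FG G ((homologyFunctor _ p).obj M)) :
    ∃ (n : ℕ) (α : (singleFunctor _ p).obj (free G n) ⟶ M),
      Epi ((homologyFunctor _ p).map α) := by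
  obtain ⟨n, q, hq⟩ := h
  obtain ⟨F, hF, ⟨e⟩⟩ := exists_iso_Q_obj_of_isLE M p
  have := projective_free G n
  let q' : free G n ⟶ F.opcycles p := q ≫ (isoOpcycles F p e).hom
  let ψ : free G n ⟶ F.X p := Projective.factorThru q' (F.pOpcycles p)
  have hψ : ψ ≫ F.pOpcycles p = q' := Projective.factorThru_comp q' (F.pOpcycles p)
  obtain ⟨α, hα⟩ := exists_map_single F p ψ (by rw [hψ]; exact epi_comp _ _)
  refine ⟨n, α ≫ e.inv, ?_⟩
  rw [Functor.map_comp]
  exact epi_comp _ _

/-- The triangle `G^n[-p] ⟶ M ⟶ K` with `K ≤ q < p`. -/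
lemma exists_triangle [Projective G] (M : DerivedCategory C) (p : ℤ) [hM : M.IsLE p]
    (h : FG G ((homologyFunctor _ p).obj M)) {q : ℤ} (hq : q + 1 = p) :
    ∃ (n : ℕ) (K : DerivedCategory C) (α : (singleFunctor _ p).obj (free G n) ⟶ M)
      (β : M ⟶ K) (γ : K ⟶ ((singleFunctor _ p).obj (free G n))⟦(1 : ℤ)⟧),
      Triangle.mk α β γ ∈ distinguishedTriangles ∧ K.IsLE q := by
  obtain ⟨n, α, hα⟩ := exists_map G M p h
  obtain ⟨K, β, γ, hT⟩ := distinguished_cocone_triangle α
  exact ⟨n, K, α, β, γ, hT, isLE_obj₃_of_epi _ hT p q hq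
    (h₁ := inferInstanceAs (((singleFunctor _ p).obj (free G n)).IsLE p)) (h₂ := hM) hα⟩

/-- A family of predicates on `D(C)` behaving like `m`-pseudo-coherence. -/
structure IsPCLike (P : ℤ → DerivedCategory C → Prop) : Prop where
  of_isLE : ∀ (m : ℤ) (M : DerivedCategory C), M.IsLE (m - 1) → P m M
  iff_of_triangle : ∀ (m p : ℤ) (n : ℕ) {M K : DerivedCategory C}
    (α : (singleFunctor _ p).obj (free G n) ⟶ M) (β : M ⟶ K)
    (γ : K ⟶ ((singleFunctor _ p).obj (free G n))⟦(1 : ℤ)⟧),
      Triangle.mk α β γ ∈ distinguishedTriangles → (P m M ↔ P m K)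
  finite : ∀ (m p : ℤ) (M : DerivedCategory C), m ≤ p → M.IsLE p → P m M →
    FG G ((homologyFunctor _ p).obj M)
  bounded : ∀ (m : ℤ) (M : DerivedCategory C), P m M → ∃ k : ℕ, M.IsLE (m - 1 + k)

variable {G}

lemma IsPCLike.iff_of_isLE [Projective G] {P P' : ℤ → DerivedCategory C → Prop}
    (h : IsPCLike G P) (h' : IsPCLike G P') (k : ℕ) :
    ∀ (m : ℤ) (M : DerivedCategory C), M.IsLE (m - 1 + k) → (P m M ↔ P' m M) := by
  induction k with
  | zero =>
    intro m M hM
    have : m - 1 + ((0 : ℕ) : ℤ) = m - 1 := by simp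
    rw [this] at hM
    exact ⟨fun _ => h'.of_isLE m M hM, fun _ => h.of_isLE m M hM⟩
  | succ k ih =>
    intro m M hM
    have hM' : M.IsLE (m + k) := by
      have : m - 1 + ((k + 1 : ℕ) : ℤ) = m + k := by push_cast; lia
      rwa [this] at hM
    have key : (P m M ∨ P' m M) → (P m M ↔ P' m M) := fun hP => by
      have hfin : FG G ((homologyFunctor _ (m + k)).obj M) := by
        obtain hP | hP := hP
        · exact h.finite m (m + k) M (by lia) hM' hP
        · exact h'.finite m (m + k) M (by lia) hM' hP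
      obtain ⟨n, K, α, β, γ, hT, hK⟩ := exists_triangle G M (m + k) hfin (q := m - 1 + k) (by lia)
      exact (h.iff_of_triangle m _ n α β γ hT).trans
        ((ih m K hK).trans (h'.iff_of_triangle m _ n α β γ hT).symm)
    exact ⟨fun hP => (key (Or.inl hP)).1 hP, fun hP => (key (Or.inr hP)).2 hP⟩

/-- `m`-pseudo-coherence is characterised by its formal properties. -/
theorem IsPCLike.iff [Projective G] {P P' : ℤ → DerivedCategory C → Prop}
    (h : IsPCLike G P) (h' : IsPCLike G P') (m : ℤ) (M : DerivedCategory C) :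
    P m M ↔ P' m M := by
  constructor
  · intro hP
    obtain ⟨k, hk⟩ := h.bounded m M hP
    exact (h.iff_of_isLE h' k m M hk).1 hP
  · intro hP
    obtain ⟨k, hk⟩ := h'.bounded m M hP
    exact (h.iff_of_isLE h' k m M hk).2 hP

end Groth.Agent.PerfC.PCLike
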