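import Groth.Agent.PerfC.LiftTop
import Groth.Agent.S0889
import Groth.Agent.S0890
import Mathlib.AlgebraicGeometry.Morphisms.FlatDescent

/-!
# Flat descent of `m`-pseudo-coherence
-/

set_option autoImplicit false
universe u
open CategoryTheory CategoryTheory.Limits AlgebraicGeometry TopologicalSpace
attribute [local instance] HasDerivedCategory.standard

namespace Groth.Agent.PerfC.PcDesc
open AlgebraicGeometry.Scheme.Modules Groth.Agent.PerfA.Restrict Groth.Agent.PerfA
open Groth.Agent.PerfC.PcLocal Groth.Agent.PerfC.PullRestrict Groth.Agent.PerfC.FTDesc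
open Groth.Agent.PerfC.FlatExact Groth.Agent.CohqB.FiniteType Groth.Agent.PerfC.LiftTop

attribute [local instance] preservesFiniteLimits_pullback

/-- A class of flat morphisms, stable under restriction to opens of the base, along which finite type
modules descend (locally on the base). -/
structure DescClass (P : MorphismProperty Scheme.{u}) : Prop where
  flat : ∀ {X Y : Scheme.{u}} (f : X ⟶ Y), P f → Flat f
  restrict : ∀ {X Y W : Scheme.{u}} (f : X ⟶ Y) (j : W ⟶ Y) [IsOpenImmersion j], P f →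
    P (Limits.pullback.snd f j)
  ft : ∀ {X Y : Scheme.{u}} (f : X ⟶ Y) (M : Y.Modules), P f →
    CohB1.IsFT ((Scheme.Modules.pullback f).obj M) →
      ∀ x : X, ∃ V : Y.Opens, f x ∈ V ∧ CohB1.IsFT (M.restrict V.ι)

/-- Bounded above case of the descent of `m`-pseudo-coherence. -/
theorem exists_pc_restrict {P : MorphismProperty Scheme.{u}} (hP : DescClass P) (m : ℤ) (k : ℕ) :
    ∀ {X Y : Scheme.{u}} (f : X ⟶ Y) [Flat f] (_ : P f) (K : DCoh.D Y) (_ : K.IsLE (m + k - 1))
      (_ : DCoh.IsPseudoCoherentD m ((pullD f).obj K)) (x : X),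
      ∃ (W : Scheme.{u}) (j : W ⟶ Y) (_ : IsOpenImmersion j) (y : W), j y = f x ∧
        DCoh.IsPseudoCoherentD m ((restrictD j).obj K) := by
  induction k with
  | zero =>
    intro X Y f _ hf K hK hpc x
    refine ⟨Y, 𝟙 Y, inferInstance, f x, rfl, pc_restrict (𝟙 Y) (pc_of_vanish fun i hi => ?_)⟩
    exact K.isZero_of_isLE (m + ((0 : ℕ) : ℤ) - 1) i (by lia)
  | succ k ih =>
    intro X Y f _ hf K hK hpc x
    have hK' : K.IsLE (m + k) := by
      have : m + ((k + 1 : ℕ) : ℤ) - 1 = m + k := by push_cast; ring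
      rwa [this] at hK
    have h1 : DCoh.IsPseudoCoherentD (m + k) ((pullD f).obj K) := pc_mono (by lia) hpc
    have h2 : ((pullD f).obj K).IsLE (m + k) := ExactD.isLE_map _ _ _
    have h3 : CohB1.IsFT (DCoh.HD ((pullD f).obj K) (m + k)) :=
      (S0890.result (m + k) _ h1).1 fun i hi =>
        DerivedCategory.isZero_of_isLE ((pullD f).obj K) (m + k) i hi
    have h4 : CohB1.IsFT ((Scheme.Modules.pullback f).obj (DCoh.HD K (m + k))) :=
      IsFT.of_iso h3 (HDpull f K (m + k))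
    obtain ⟨V, hxV, hV⟩ := hP.ft f _ hf h4 x
    have hV' : CohB1.IsFT (DCoh.HD ((restrictD V.ι).obj K) (m + k)) :=
      IsFT.of_iso hV (HDrestrict V.ι K _).symm
    have hKV : ((restrictD V.ι).obj K).IsLE (m + k) := ExactD.isLE_map _ _ _
    obtain ⟨W, j, hj, y, hy, E, hE, T, hT, hT1, hT2, hT3⟩ :=
      exists_triangle ((restrictD V.ι).obj K) (m + k) hKV hV' ⟨f x, hxV⟩
    let i : W ⟶ Y := j ≫ V.ι
    have hi : i y = f x := by
      change V.ι (j y) = _
      rw [hy]
      rfl
    let fW := Limits.pullback.snd f i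
    have hfW : P fW := hP.restrict f i hf
    have hflat : Flat fW := hP.flat _ hfW
    -- the pullback of the triangle
    let T' := (pullD fW).mapTriangle.obj T
    have hT' : T' ∈ Pretriangulated.distinguishedTriangles := (pullD fW).map_distinguished T hT
    have p1 : ∀ n, DCoh.IsPseudoCoherentD n T'.obj₁ := fun n => by
      refine pc_of_iso (((pullD fW).mapIso (eqToIso hT1)) ≪≫ pullDQ fW _).symm ?_
      exact pc_of_isStrictlyPerfect (isStrictlyPerfect_pullback fW (isStrictlyPerfect_single hE _)) n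
    have p2 : DCoh.IsPseudoCoherentD m T'.obj₂ := by
      have e : T'.obj₂ ≅ (restrictD (Limits.pullback.fst f i)).obj ((pullD f).obj K) :=
        (pullD fW).mapIso (eqToIso hT2 ≪≫ (restrictDComp j V.ι).app K) ≪≫
          (pullDSquare (f := f) (j := i) (j' := Limits.pullback.fst f i) (f' := fW)
            Limits.pullback.condition).app K
      exact pc_of_iso e.symm (pc_restrict _ hpc)
    have p3 : DCoh.IsPseudoCoherentD m T'.obj₃ := (S0889.result m T' hT').1 (p1 _) p2
    obtain ⟨z, hz1, hz2⟩ := Scheme.Pullback.exists_preimage_pullback (f := f) (g := i) x y hi.symm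
    obtain ⟨W₂, j₂, hj₂, y₂, hy₂, hpc₂⟩ := ih fW hfW T.obj₃ hT3 p3 z
    let T₂ := (restrictD j₂).mapTriangle.obj T
    have hT₂ : T₂ ∈ Pretriangulated.distinguishedTriangles := (restrictD j₂).map_distinguished T hT
    have q1 : DCoh.IsPseudoCoherentD m T₂.obj₁ := by
      refine pc_of_iso (((restrictD j₂).mapIso (eqToIso hT1)) ≪≫ restrictDQ j₂ _).symm ?_
      exact pc_of_isStrictlyPerfect (isStrictlyPerfect_restrict j₂ (isStrictlyPerfect_single hE _)) m
    have q2 : DCoh.IsPseudoCoherentD m T₂.obj₂ := (S0889.result m T₂ hT₂).2.1 q1 hpc₂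
    refine ⟨W₂, j₂ ≫ i, inferInstance, y₂, ?_, ?_⟩
    · change i (j₂ y₂) = _
      rw [hy₂, ← hi]
      exact congrArg i hz2
    · refine pc_of_iso ?_ q2
      exact (restrictD j₂).mapIso (eqToIso hT2 ≪≫ (restrictDComp j V.ι).app K) ≪≫
        (restrictDComp j₂ i).app K

/-- Descent of `m`-pseudo-coherence for locally bounded above objects. -/
theorem pc_of_pullD_of_bounded {P : MorphismProperty Scheme.{u}} (hP : DescClass P)
    {X Y : Scheme.{u}} (f : X ⟶ Y) [Flat f] [Surjective f] (hf : P f) (K : DCoh.D Y) (m : ℤ)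
    (hb : ∀ y : Y, ∃ (V : Y.Opens) (N : ℤ), y ∈ V ∧ ((restrictD V.ι).obj K).IsLE N)
    (hpc : DCoh.IsPseudoCoherentD m ((pullD f).obj K)) : DCoh.IsPseudoCoherentD m K := by
  refine pc_of_cover K fun y => ?_
  obtain ⟨x, hx⟩ := f.surjective y
  obtain ⟨V, N, hyV, hN⟩ := hb y
  let fV := Limits.pullback.snd f V.ι
  have hfV : P fV := hP.restrict f V.ι hf
  have hflat : Flat fV := hP.flat _ hfV
  obtain ⟨k, hk⟩ : ∃ k : ℕ, N ≤ m + k - 1 := ⟨(N - m + 1).toNat, by lia⟩
  have hK : ((restrictD V.ι).obj K).IsLE (m + k - 1) := by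
    rw [DerivedCategory.isLE_iff] at hN ⊢
    exact fun i hi => hN i (by lia)
  have e : (pullD fV).obj ((restrictD V.ι).obj K) ≅
      (restrictD (Limits.pullback.fst f V.ι)).obj ((pullD f).obj K) :=
    (pullDSquare (f := f) (j := V.ι) (j' := Limits.pullback.fst f V.ι) (f' := fV)
      Limits.pullback.condition).app K
  obtain ⟨z, hz1, hz2⟩ := Scheme.Pullback.exists_preimage_pullback (f := f) (g := V.ι) x ⟨y, hyV⟩ hx
  obtain ⟨W, j, hj, w, hw, h⟩ := exists_pc_restrict hP m k fV hfV ((restrictD V.ι).obj K) hK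
    (pc_of_iso e.symm (pc_restrict _ hpc)) z
  refine ⟨W, j ≫ V.ι, inferInstance, w, ?_, pc_of_iso ((restrictDComp j V.ι).app K) h⟩
  change V.ι (j w) = _
  rw [hw]
  exact congrArg V.ι hz2

/-- Flat morphisms locally of finite presentation. -/
theorem descClass_flat_lfp :
    DescClass (fun _ _ f => Flat f ∧ LocallyOfFinitePresentation f : MorphismProperty Scheme.{u}) where
  flat _ h := h.1
  restrict f j _ h := by
    obtain ⟨h1, h2⟩ := h
    exact ⟨inferInstance, inferInstance⟩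
  ft f M h := by
    obtain ⟨h1, h2⟩ := h
    exact exists_isFT_restrict f f.isOpenMap M

/-- An `m`-pseudo-coherent object is locally bounded above. -/
lemma exists_isLE_of_pc {X : Scheme.{u}} {K : DCoh.D X} {m : ℤ} (h : DCoh.IsPseudoCoherentD m K)
    (x : X) : ∃ (V : X.Opens) (N : ℤ), x ∈ V ∧ ((restrictD V.ι).obj K).IsLE N := by
  obtain ⟨V, hx, E, α, ⟨⟨a, b, hab⟩, -⟩, h1, h2⟩ := (pc_iff m K).1 h x
  refine ⟨V, max m b, hx, ?_⟩
  rw [DerivedCategory.isLE_iff]
  intro i hi
  have := h1 i (lt_of_le_of_lt (le_max_left _ _) hi)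
  refine IsZero.of_iso ?_ (asIso ((DerivedCategory.homologyFunctor _ i).map α)).symm
  refine IsZero.of_iso ?_ ((DerivedCategory.homologyFunctorFactors _ i).app _)
  refine ShortComplex.isZero_homology_of_isZero_X₂ _ ?_
  exact hab i (Or.inr (lt_of_le_of_lt (le_max_right _ _) hi))

/-- Flat open descent of boundedness. -/
lemma exists_isLE_of_pullD {X Y : Scheme.{u}} (f : X ⟶ Y) [Flat f] [Surjective f]
    (hf : IsOpenMap f.base) (K : DCoh.D Y)
    (h : ∀ x : X, ∃ (V : X.Opens) (N : ℤ), x ∈ V ∧ ((restrictD V.ι).obj ((pullD f).obj K)).IsLE N)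
    (y : Y) : ∃ (V : Y.Opens) (N : ℤ), y ∈ V ∧ ((restrictD V.ι).obj K).IsLE N := by
  obtain ⟨x, rfl⟩ := f.surjective y
  obtain ⟨V, N, hx, hN⟩ := h x
  refine ⟨imageOpen f hf V, N, ⟨x, hx, rfl⟩, ?_⟩
  rw [DerivedCategory.isLE_iff] at hN ⊢
  intro i hi
  refine IsZero.of_iso ?_ (HDrestrict _ K i)
  refine isZero_restrict_image f hf _ V fun z hz => ?_
  have h1 : IsZero (((Scheme.Modules.pullback f).obj (DCoh.HD K i)).restrict V.ι) :=
    (hN i hi).of_iso ((restrictFunctor V.ι).mapIso (HDpull f K i).symm ≪≫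
      (HDrestrict V.ι ((pullD f).obj K) i).symm)
  have h2 := (isZero_iff_subsingleton_stalk _).1 h1 ⟨z, hz⟩
  exact (CohqA.FTStalk.subsingleton_stalk_restrict_iff V.ι _ ⟨z, hz⟩).1 h2

/-- `m`-pseudo-coherence descends along flat surjective morphisms locally of finite presentation. -/
theorem pc_of_pullD {X Y : Scheme.{u}} (f : X ⟶ Y) [Flat f] [Surjective f]
    [LocallyOfFinitePresentation f] (K : DCoh.D Y) (m : ℤ)
    (hpc : DCoh.IsPseudoCoherentD m ((pullD f).obj K)) : DCoh.IsPseudoCoherentD m K :=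
  pc_of_pullD_of_bounded descClass_flat_lfp f ⟨inferInstance, inferInstance⟩ K m
    (exists_isLE_of_pullD f f.isOpenMap K (exists_isLE_of_pc hpc)) hpc

/-- Flat pullback preserves `m`-pseudo-coherence. -/
theorem pc_pullD {X Y : Scheme.{u}} (f : X ⟶ Y) [Flat f] (K : DCoh.D Y) (m : ℤ)
    (h : DCoh.IsPseudoCoherentD m K) : DCoh.IsPseudoCoherentD m ((pullD f).obj K) := by
  rw [pc_iff] at h ⊢
  intro x
  obtain ⟨V, hx, hV⟩ := h (f x)
  refine ⟨f ⁻¹ᵁ V, hx, ?_⟩
  exact (hasApprox_pullD (f ∣_ V) hV).of_iso ((pullDSquare (morphismRestrict_ι f V).symm).app K)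

end Groth.Agent.PerfC.PcDesc
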