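import Groth.Agent.PerfC.PcLocal
import Groth.Agent.PerfA.PerfLocal
import Mathlib.CategoryTheory.MorphismProperty.Basic

/-!
# Shifts and finite sums of `m`-pseudo-coherent objects
-/

set_option autoImplicit false
universe w v u

open CategoryTheory CategoryTheory.Limits AlgebraicGeometry DerivedCategory Pretriangulated
open Groth.Agent.PerfA Groth.Agent.PerfA.Restrict Groth.Agent.PerfC.PcLocal

namespace Groth.Agent.PerfC.PcShift

section

variable {C : Type u} [Category.{v} C] [Abelian C] [HasDerivedCategory.{w} C]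

/-- `H^i(K[a]) = H^{a+i}(K)`. -/
noncomputable def homologyShift (a i i' : ℤ) (h : a + i = i') :
    shiftFunctor (DerivedCategory C) a ⋙ homologyFunctor C i ≅ homologyFunctor C i' :=
  (homologyFunctor C 0).shiftIso a i i' h

lemma epi_iff_of_iso {D : Type*} [Category D] {E : Type*} [Category E] {F G : D ⥤ E} (e : F ≅ G)
    {K L : D} (α : K ⟶ L) : Epi (F.map α) ↔ Epi (G.map α) :=
  (MorphismProperty.epimorphisms E).arrow_mk_iso_iff
    (((Functor.mapArrowFunctor _ _).mapIso e).app (Arrow.mk α))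

lemma mono_iff_of_iso {D : Type*} [Category D] {E : Type*} [Category E] {F G : D ⥤ E} (e : F ≅ G)
    {K L : D} (α : K ⟶ L) : Mono (F.map α) ↔ Mono (G.map α) :=
  (MorphismProperty.monomorphisms E).arrow_mk_iso_iff
    (((Functor.mapArrowFunctor _ _).mapIso e).app (Arrow.mk α))

lemma epi_homologyMap_shift (a i i' : ℤ) (h : a + i = i') {K L : DerivedCategory C} (α : K ⟶ L) :
    Epi ((homologyFunctor C i).map (α⟦a⟧')) ↔ Epi ((homologyFunctor C i').map α) :=
  epi_iff_of_iso (homologyShift a i i' h) α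

lemma isIso_homologyMap_shift (a i i' : ℤ) (h : a + i = i') {K L : DerivedCategory C}
    (α : K ⟶ L) :
    IsIso ((homologyFunctor C i).map (α⟦a⟧')) ↔ IsIso ((homologyFunctor C i').map α) :=
  NatIso.isIso_map_iff (homologyShift a i i' h) α

/-- The object `A[-p]` as a shift of `A[0]`. -/
noncomputable def singleShift (p : ℤ) :
    singleFunctor C 0 ⋙ shiftFunctor (DerivedCategory C) (-p) ≅ singleFunctor C p :=
  (singleFunctors C).shiftIso (-p) p 0 (by lia)

end

attribute [local instance] HasDerivedCategory.standard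

variable {X : Scheme.{u}}

lemma HasApprox.shift {m n a : ℤ} (hmn : a + n = m) {K : DCoh.D X} (h : HasApprox m K) :
    HasApprox n (K⟦a⟧) := by
  obtain ⟨E, α, hE, h1, h2⟩ := h
  refine ⟨E⟦a⟧, (Q.commShiftIso a).hom.app E ≫ α⟦a⟧', PerfLocal.isStrictlyPerfect_shift hE a,
    fun i hi => ?_, ?_⟩
  · have := (isIso_homologyMap_shift a i (a + i) rfl α).2 (h1 _ (by lia))
    rw [Functor.map_comp]
    infer_instance
  · have := (epi_homologyMap_shift a n m hmn α).2 h2
    rw [Functor.map_comp]
    exact epi_comp _ _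

/-- `K` is `(a+n)`-pseudo-coherent implies that `K[a]` is `n`-pseudo-coherent. -/
lemma pc_shift {m n a : ℤ} (hmn : a + n = m) {K : DCoh.D X} (h : DCoh.IsPseudoCoherentD m K) :
    DCoh.IsPseudoCoherentD n (K⟦a⟧) := by
  rw [pc_iff] at h ⊢
  intro x
  obtain ⟨V, hx, hV⟩ := h x
  exact ⟨V, hx, (HasApprox.shift hmn hV).of_iso (PerfLocal.restrictDShift V.ι K a).symm⟩

lemma pc_shift_iff {m n a : ℤ} (hmn : a + n = m) {K : DCoh.D X} :
    DCoh.IsPseudoCoherentD n (K⟦a⟧) ↔ DCoh.IsPseudoCoherentD m K := by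
  refine ⟨fun h => ?_, pc_shift hmn⟩
  refine pc_of_iso ((shiftShiftNeg K a)) (pc_shift (a := -a) (m := n) (by lia) h)

lemma pc_single_iff (M : X.Modules) {m n p : ℤ} (h : n + p = m) :
    DCoh.IsPseudoCoherentD m ((singleFunctor X.Modules p).obj M) ↔
      DCoh.IsPseudoCoherentD n (DCoh.inD X M) := by
  rw [← pc_shift_iff (m := n) (n := m) (a := -p) (by lia)]
  exact ⟨pc_of_iso ((singleShift p).app M).symm, pc_of_iso ((singleShift p).app M)⟩

end Groth.Agent.PerfC.PcShift
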