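import Groth.Agent.S1103
import Groth.Agent.S0889
import Groth.Agent.PerfA.QCohD
import Groth.Agent.PerfA.PCohQCoh
import Groth.Agent.PerfC.PcLocal
import Groth.Agent.PerfC.IsoLocus
import Groth.Agent.LoccohB.DQCohBasic

/-!
# Testing pseudo-coherence of `G(E)` on perfect `E`

`G : D(O_X) ⥤ D(O_S)` triangulated, `X` qcqs, `G` of bounded cohomological amplitude (on the right) on
`D_QCoh(O_X)`: if `G` sends perfect objects to pseudo-coherent ones, it preserves pseudo-coherence.
-/

set_option autoImplicit false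
universe u
open CategoryTheory CategoryTheory.Limits AlgebraicGeometry Pretriangulated
attribute [local instance] HasDerivedCategory.standard

namespace Groth.Agent.PerfC.PcTest

open IsoLocus PcLocal

variable {X S : Scheme.{u}}

/-- The cone of an approximation is bounded above. -/
lemma isLE_cone {P E C : DCoh.D X} {α : P ⟶ E} {g : E ⟶ C} {h : C ⟶ P⟦(1 : ℤ)⟧}
    (hT : Triangle.mk α g h ∈ distTriang (DCoh.D X)) (m : ℤ)
    (h1 : ∀ i : ℤ, m < i → IsIso ((DerivedCategory.homologyFunctor X.Modules i).map α))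
    (h2 : Epi ((DerivedCategory.homologyFunctor X.Modules m).map α)) : C.IsLE (m - 1) := by
  refine (DerivedCategory.isLE_iff C (m - 1)).2 fun i hi => ?_
  have e1 : Epi ((DerivedCategory.homologyFunctor X.Modules i).map α) := by
    obtain rfl | hi' := (show m ≤ i by lia).eq_or_lt
    · exact h2
    · have := h1 i hi'
      infer_instance
  have e2 : IsIso ((DerivedCategory.homologyFunctor X.Modules (i + 1)).map α) := h1 _ (by lia)
  have z1 : (DerivedCategory.homologyFunctor X.Modules i).map g = 0 := by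
    rw [← cancel_epi ((DerivedCategory.homologyFunctor X.Modules i).map α), comp_zero,
      ← Functor.map_comp, show α ≫ g = 0 from comp_distTriang_mor_zero₁₂ _ hT, Functor.map_zero]
  have z2 : DerivedCategory.HomologySequence.δ (Triangle.mk α g h) i (i + 1) rfl = 0 := by
    have : DerivedCategory.HomologySequence.δ (Triangle.mk α g h) i (i + 1) rfl ≫
        (DerivedCategory.homologyFunctor X.Modules (i + 1)).map α = 0 :=
      (DerivedCategory.HomologySequence.δ_comp (Triangle.mk α g h) hT i (i + 1) rfl)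
    exact (cancel_mono ((DerivedCategory.homologyFunctor X.Modules (i + 1)).map α)).1
      (this.trans zero_comp.symm)
  exact (DerivedCategory.HomologySequence.exact₃ (Triangle.mk α g h) hT i (i + 1) rfl).isZero_of_both_zeros
    z1 z2

/-- `G` sends pseudo-coherent objects to pseudo-coherent objects as soon as it does so for perfect ones. -/
theorem pc_of_perfect_test [CompactSpace X] [QuasiSeparatedSpace X]
    (G : DCoh.D X ⥤ DCoh.D S) (hG : IsTriang G)
    (N : ℤ) (hN : ∀ (C : DCoh.D X) (a : ℤ), DCoh.IsQCohD C → C.IsLE a → (G.obj C).IsLE (a + N))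
    (h : ∀ E : DCoh.D X, DCoh.IsPerfect E → ∀ m : ℤ, DCoh.IsPseudoCoherentD m (G.obj E))
    (E : DCoh.D X) (hE : ∀ m : ℤ, DCoh.IsPseudoCoherentD m E) (m : ℤ) :
    DCoh.IsPseudoCoherentD m (G.obj E) := by
  obtain ⟨r, hr⟩ := S1103.result X Set.univ isClosed_univ (by simp)
  have hEq := PerfA.PCohQCoh.isQCohD_of_isPseudoCoherentD hE
  obtain ⟨P, α, hP, -, h1, h2⟩ := hr (m - N) E hEq (hE _) (fun i _ => Set.subset_univ _)
  obtain ⟨C, g, k, hT⟩ := distinguished_cocone_triangle α
  have hC := isLE_cone hT (m - N) h1 h2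
  have hCq : DCoh.IsQCohD C :=
    PerfA.QCohD.isQCohD_ext₃ _ hT (PerfA.PCohQCoh.isQCohD_of_isPerfect hP) hEq
  have hGC : (G.obj C).IsLE (m - 1) := by
    have := hN C _ hCq hC
    rwa [show m - N - 1 + N = m - 1 by lia] at this
  obtain ⟨_, _⟩ := hG
  have hT' := G.map_distinguished _ hT
  refine (S0889.result m _ hT').2.1 (h P hP m) ?_
  exact pc_of_vanish fun i hi => (G.obj C).isZero_of_isLE (m - 1) i (by lia)

end Groth.Agent.PerfC.PcTest
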