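import Groth.Agent.Dcoh.FlatTor
import Groth.Agent.Ega1.QcqsPush
import Groth.Prelude.Def_Coh
import Mathlib.AlgebraicGeometry.Stalk
import Mathlib.AlgebraicGeometry.Modules.Tilde
import Mathlib.AlgebraicGeometry.Morphisms.QuasiSeparated

/-!
# Quasi-coherent modules with a prescribed stalk at a point

For `X` quasi-separated, `x : X` and an `O_{X,x}`-module `N`, the push forward of `N~` along `Spec O_{X,x} ⟶ X` is
quasi-coherent with stalk `N` at `x`.
-/

set_option autoImplicit false
universe u
open CategoryTheory CategoryTheory.Limits AlgebraicGeometry Opposite TopologicalSpace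

namespace Groth.Agent.PerfC.QCohStalk
open Groth.Agent.Dcoh.Stalk Groth.Agent.Fdesc.Skyscraper

variable {X : Scheme.{u}} (x : X)

lemma preimage_fromSpecStalk_eq_top {V : X.Opens} (hV : x ∈ V) : (X.fromSpecStalk x) ⁻¹ᵁ V = ⊤ := by
  refine top_unique fun y _ => ?_
  have h : (X.fromSpecStalk x) y ⤳ x := by
    have h1 : y ⤳ IsLocalRing.closedPoint (X.presheaf.stalk x) := IsLocalRing.specializes_closedPoint y
    have h2 := h1.map (X.fromSpecStalk x).continuous
    rwa [Scheme.fromSpecStalk_closedPoint] at h2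
  exact h.mem_open V.2 hV

instance quasiCompact_fromSpecStalk [QuasiSeparatedSpace X] : QuasiCompact (X.fromSpecStalk x) := by
  infer_instance

/-- The push forward of `N~` along `Spec O_{X,x} ⟶ X`. -/
noncomputable def G (N : ModuleCat.{u} (X.presheaf.stalk x)) : X.Modules :=
  (Scheme.Modules.pushforward (X.fromSpecStalk x)).obj (tilde N)

lemma isQCoh_G [QuasiSeparatedSpace X] (N : ModuleCat.{u} (X.presheaf.stalk x)) : Coh.IsQCoh (G x N) :=
  Ega1.QcqsPush.isQCoh_pushforward _ _ (inferInstanceAs ((tilde.functor _).obj N).IsQuasicoherent)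

variable (N : ModuleCat.{u} (X.presheaf.stalk x))

/-- restriction of a section of `G` on `V ∋ x` to `Spec O_{X,x}` -/
noncomputable def res (V : X.Opens) (hV : x ∈ V) : Γ(G x N, V) →+ Γ(tilde N, ⊤) :=
  ((tilde N).presheaf.map (homOfLE (preimage_fromSpecStalk_eq_top x hV).ge).op).hom

lemma res_map {U V : X.Opens} (i : U ⟶ V) (hU : x ∈ U) (s : Γ(G x N, V)) :
    res x N U hU ((G x N).presheaf.map i.op s) = res x N V (leOfHom i hU) s := by
  exact (ConcreteCategory.congr_hom ((tilde N).presheaf.map_comp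
    (((Opens.map (X.fromSpecStalk x).base).map i).op)
    (homOfLE (preimage_fromSpecStalk_eq_top x hU).ge).op)
    (show Γ(tilde N, (X.fromSpecStalk x) ⁻¹ᵁ V) from s)).symm

lemma res_bijective (V : X.Opens) (hV : x ∈ V) : Function.Bijective (res x N V hV) := by
  have : IsIso (homOfLE (preimage_fromSpecStalk_eq_top x hV).ge) :=
    ⟨homOfLE le_top, Subsingleton.elim _ _, Subsingleton.elim _ _⟩
  exact ConcreteCategory.bijective_of_isIso ((tilde N).presheaf.map (homOfLE (preimage_fromSpecStalk_eq_top x hV).ge).op)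

lemma res_smul (V : X.Opens) (hV : x ∈ V) (r : Γ(X, V)) (s : Γ(G x N, V)) :
    res x N V hV (r • s) = X.presheaf.germ V x hV r • res x N V hV s := by
  have h1 : ∀ (a : Γ(Spec (X.presheaf.stalk x), (X.fromSpecStalk x) ⁻¹ᵁ V))
      (b : Γ(tilde N, (X.fromSpecStalk x) ⁻¹ᵁ V)),
      (tilde N).presheaf.map (homOfLE (preimage_fromSpecStalk_eq_top x hV).ge).op (a • b) =
      (Spec (X.presheaf.stalk x)).presheaf.map (homOfLE (preimage_fromSpecStalk_eq_top x hV).ge).op a •
        (tilde N).presheaf.map (homOfLE (preimage_fromSpecStalk_eq_top x hV).ge).op b := fun a b =>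
    (tilde N).map_smul _ a b
  refine (h1 ((X.fromSpecStalk x).app V r) s).trans ?_
  rw [Scheme.Modules.smul_Spec_def]
  congr 1
  rw [Scheme.fromSpecStalk_app hV]
  simp only [CommRingCat.comp_apply]
  rw [← ConcreteCategory.comp_apply, ← Functor.map_comp]
  rfl

/-- The stalk of `G x N` at `x` maps to `N`. -/
noncomputable def stalkToΓ : (G x N).presheaf.stalk x →+ Γ(tilde N, ⊤) :=
  stalkDesc (G x N).presheaf x Γ(tilde N, ⊤) (fun V hV => res x N V hV)
    (fun _ _ i hU s => res_map x N i hU s)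

lemma stalkToΓ_germ (V : X.Opens) (hV : x ∈ V) (s : Γ(G x N, V)) :
    stalkToΓ x N ((G x N).presheaf.germ V x hV s) = res x N V hV s :=
  stalkDesc_germ (G x N).presheaf x Γ(tilde N, ⊤) _ _ V hV s

noncomputable def stalkToΓₗ : (G x N).presheaf.stalk x →ₗ[X.presheaf.stalk x] Γ(tilde N, ⊤) where
  toFun := stalkToΓ x N
  map_add' := map_add _
  map_smul' r s := by
    obtain ⟨U, hU, r, s, rfl, rfl⟩ := exists_common (G x N).val x r s
    refine (congrArg (stalkToΓ x N) (pre_germ_smul (G x N).val x U hU r s).symm).trans ?_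
    refine (stalkToΓ_germ x N U hU (r • s)).trans ?_
    refine (res_smul x N U hU r s).trans ?_
    exact congrArg _ (stalkToΓ_germ x N U hU s).symm

lemma stalkToΓ_bijective : Function.Bijective (stalkToΓ x N) := by
  constructor
  · rw [injective_iff_map_eq_zero]
    intro z hz
    obtain ⟨U, hU, s, rfl⟩ := TopCat.Presheaf.exists_germ_eq (G x N).presheaf z
    rw [stalkToΓ_germ] at hz
    have : s = 0 := (res_bijective x N U hU).1 (hz.trans (map_zero _).symm)
    rw [this, map_zero]
  · intro t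
    obtain ⟨s, hs⟩ := (res_bijective x N ⊤ trivial).2 t
    exact ⟨(G x N).presheaf.germ ⊤ x trivial s, (stalkToΓ_germ x N ⊤ trivial s).trans hs⟩

/-- The stalk of `G x N` at `x` is `N`. -/
noncomputable def stalkGIso : (stalkF x).obj (G x N) ≅ N :=
  (LinearEquiv.ofBijective (stalkToΓₗ x N) (stalkToΓ_bijective x N)).toModuleIso ≪≫ (tilde.isoTop N).symm

/-- Every module over `O_{X,x}` is the stalk at `x` of a quasi-coherent module, `X` quasi-separated. -/
theorem exists_isQCoh_stalk_iso [QuasiSeparatedSpace X] (N : ModuleCat.{u} (X.presheaf.stalk x)) :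
    ∃ G : X.Modules, Coh.IsQCoh G ∧ Nonempty ((stalkF x).obj G ≅ N) :=
  ⟨G x N, isQCoh_G x N, ⟨stalkGIso x N⟩⟩

end Groth.Agent.PerfC.QCohStalk
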