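import Groth.Agent.PerfC.RHomD
import Groth.Agent.PerfC.LTBound
import Groth.Agent.PerfA.CohSerre
import Groth.Agent.Dcoh.LocalD

/-!
# Internal `RHom`: lower bound, and checking cohomology sheaves locally

* `isGE_RH`: `K ≤ b`, `L ≥ a` gives `RHom(K, L) ≥ a - b`;
* `isCoh_HD_of_cover`, `isQCoh_HD_of_cover`: coherence / quasi-coherence of the cohomology sheaves of an object of
  `D(O_X)` can be checked on a cover by arbitrary open immersions.
-/

set_option autoImplicit false

universe u

open CategoryTheory CategoryTheory.Limits CategoryTheory.Pretriangulated AlgebraicGeometry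

attribute [local instance] HasDerivedCategory.standard

namespace Groth.Agent.PerfC.RHomBnd556

open Groth.Agent.PerfC.DTens Groth.Agent.PerfC.RHomD Groth.Agent.Dcoh.LocalD

variable {X : Scheme.{u}}

/-- `- ⊗ᴸ K` is right t-exact up to the amplitude of `K`. -/
theorem isLE_LTX (M K : DCoh.D X) (a b : ℤ) [M.IsLE a] [K.IsLE b] :
    (((LTX X).flip.obj K).obj M).IsLE (a + b) := by
  have hE := hasLTensorCx (DerivedCategory.Q.objPreimage K)
  have h1 : (DCoh.toD X (DerivedCategory.Q.objPreimage K)).IsLE b :=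
    ⟨DerivedCategory.TStructure.t.isLE_of_iso (DerivedCategory.Q.objObjPreimageIso K).symm b |>.le⟩
  have h2 := Groth.Agent.PerfC.LTBound.isLE_LTensorCx (bifData X) (DerivedCategory.Q.objPreimage K) b M a
  exact ⟨DerivedCategory.TStructure.t.isLE_of_iso ((LTXcx (DerivedCategory.Q.objPreimage K)).symm.app M ≪≫
    ((LTX X).flip.mapIso (DerivedCategory.Q.objObjPreimageIso K)).app M) (a + b) |>.le⟩

/-- `RHom(K, L)` is bounded below if `K` is bounded above and `L` is bounded below. -/
theorem isGE_RH (K L : DCoh.D X) (a b : ℤ) [K.IsLE b] [L.IsGE a] : ((RH K).obj L).IsGE (a - b) := by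
  refine (DerivedCategory.TStructure.t.isGE_iff_orthogonal (a - b - 1) (a - b) (by omega) _).2 ?_
  intro M f hM
  have : M.IsLE (a - b - 1) := hM
  apply ((rhAdj K).homEquiv M L).symm.injective
  have h1 := isLE_LTX M K (a - b - 1) b
  have h2 : (((LTX X).flip.obj K).obj M).IsLE (a - 1) := by
    have e : a - b - 1 + b = a - 1 := by omega
    rwa [e] at h1
  exact (DerivedCategory.TStructure.t.zero_of_isLE_of_isGE _ (a - 1) a (by omega) h2 ‹_›).trans
    (DerivedCategory.TStructure.t.zero_of_isLE_of_isGE _ (a - 1) a (by omega) h2 ‹_›).symm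

open Groth.Agent.PerfA.QCohSerre Groth.Agent.PerfA.CohSerre

/-- Coherence is local for arbitrary open immersions. -/
theorem isCoh_of_cover (M : X.Modules) (h : ∀ x : X, ∃ (U : Scheme.{u}) (f : U ⟶ X) (_ : IsOpenImmersion f),
    x ∈ Set.range f ∧ Coh.IsCoh (M.restrict f)) : Coh.IsCoh M := by
  refine isCoh_of_restrict M fun x => ?_
  obtain ⟨U, f, hf, hx, hU⟩ := h x
  refine ⟨f.opensRange, by simpa using hx, ?_⟩
  exact isCoh_of_iso ((Scheme.Modules.restrictFunctorComp f.isoOpensRange.inv f).symm.app M ≪≫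
    (Scheme.Modules.restrictFunctorCongr f.isoOpensRange_inv_comp).app M) (isCoh_restrict f.isoOpensRange.inv hU)

/-- Quasi-coherence is local for arbitrary open immersions. -/
theorem isQCoh_of_cover (M : X.Modules) (h : ∀ x : X, ∃ (U : Scheme.{u}) (f : U ⟶ X) (_ : IsOpenImmersion f),
    x ∈ Set.range f ∧ Coh.IsQCoh (M.restrict f)) : Coh.IsQCoh M := by
  refine isQCoh_of_restrict_opens M fun x => ?_
  obtain ⟨U, f, hf, hx, hU⟩ := h x
  refine ⟨f.opensRange, by simpa using hx, ?_⟩
  exact isQCoh_of_iso ((Scheme.Modules.restrictFunctorComp f.isoOpensRange.inv f).symm.app M ≪≫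
    (Scheme.Modules.restrictFunctorCongr f.isoOpensRange_inv_comp).app M) (isQCoh_restrict f.isoOpensRange.inv hU)

/-- The cohomology sheaves of `M` are coherent if they are so on a cover. -/
theorem isCoh_HD_of_cover (M : DCoh.D X) (i : ℤ)
    (h : ∀ x : X, ∃ (U : Scheme.{u}) (f : U ⟶ X) (_ : IsOpenImmersion f),
      x ∈ Set.range f ∧ Coh.IsCoh (DCoh.HD ((DCoh.restrictD f).obj M) i)) : Coh.IsCoh (DCoh.HD M i) :=
  isCoh_of_cover _ fun x => by
    obtain ⟨U, f, hf, hx, hU⟩ := h x
    exact ⟨U, f, hf, hx, isCoh_of_iso (HDRestrict f M i) hU⟩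

/-- The cohomology sheaves of `M` are quasi-coherent if they are so on a cover. -/
theorem isQCoh_HD_of_cover (M : DCoh.D X) (i : ℤ)
    (h : ∀ x : X, ∃ (U : Scheme.{u}) (f : U ⟶ X) (_ : IsOpenImmersion f),
      x ∈ Set.range f ∧ Coh.IsQCoh (DCoh.HD ((DCoh.restrictD f).obj M) i)) : Coh.IsQCoh (DCoh.HD M i) :=
  isQCoh_of_cover _ fun x => by
    obtain ⟨U, f, hf, hx, hU⟩ := h x
    exact ⟨U, f, hf, hx, isQCoh_of_iso (HDRestrict f M i) hU⟩

/-- Restriction of coherent / quasi-coherent cohomology. -/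
theorem isCohD_restrictD {U : Scheme.{u}} (f : U ⟶ X) [IsOpenImmersion f] {M : DCoh.D X} (h : DCoh.IsCohD M) :
    DCoh.IsCohD ((DCoh.restrictD f).obj M) := fun i =>
  isCoh_of_iso (HDRestrict f M i).symm (isCoh_restrict f (h i))

theorem isQCohD_restrictD {U : Scheme.{u}} (f : U ⟶ X) [IsOpenImmersion f] {M : DCoh.D X} (h : DCoh.IsQCohD M) :
    DCoh.IsQCohD ((DCoh.restrictD f).obj M) := fun i =>
  isQCoh_of_iso (HDRestrict f M i).symm (isQCoh_restrict f (h i))

end Groth.Agent.PerfC.RHomBnd556
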