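import Groth.Agent.PerfC.RHomBnd556

/-!
# `RHom(K, L)` and `RHom(E, L)` agree in low degrees if `E ⟶ K` is an isomorphism in high degrees
-/

set_option autoImplicit false

universe u

open CategoryTheory CategoryTheory.Limits CategoryTheory.Pretriangulated AlgebraicGeometry

attribute [local instance] HasDerivedCategory.standard

namespace Groth.Agent.PerfC.RHomCmp556

open Groth.Agent.PerfC.DTens Groth.Agent.PerfC.RHomD Groth.Agent.PerfC.RHomBnd556

variable {X : Scheme.{u}}

/-- The cone of a map which is an isomorphism on `H^i`, `i > m`, and an epimorphism on `H^m`, is `≤ m - 1`. -/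
theorem isLE_obj₃ (Δ : Triangle (DCoh.D X)) (hΔ : Δ ∈ distTriang (DCoh.D X)) (m : ℤ)
    (h1 : ∀ i : ℤ, m < i → IsIso ((DerivedCategory.homologyFunctor _ i).map Δ.mor₁))
    (h2 : Epi ((DerivedCategory.homologyFunctor _ m).map Δ.mor₁)) : Δ.obj₃.IsLE (m - 1) := by
  rw [DerivedCategory.isLE_iff]
  intro i hi
  have e1 := DerivedCategory.HomologySequence.exact₂ Δ hΔ i
  have e2 := DerivedCategory.HomologySequence.exact₃ Δ hΔ i (i + 1) rfl
  have e3 := DerivedCategory.HomologySequence.exact₁ Δ hΔ i (i + 1) rfl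
  have hepi : Epi ((DerivedCategory.homologyFunctor _ i).map Δ.mor₁) := by
    rcases (show m = i ∨ m < i by omega) with rfl | h
    · exact h2
    · have := h1 i h
      infer_instance
  have hmono : Mono ((DerivedCategory.homologyFunctor _ (i + 1)).map Δ.mor₁) := by
    have := h1 (i + 1) (by omega)
    infer_instance
  have z1 : (DerivedCategory.homologyFunctor _ i).map Δ.mor₂ = 0 := by
    have := e1.epi_f_iff.1 hepi
    exact this
  have z2 : DerivedCategory.HomologySequence.δ Δ i (i + 1) rfl = 0 := e3.mono_g_iff.1 hmono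
  exact e2.isZero_X₂ z1 z2

/-- Comparison of `RHom(K, L)` and `RHom(E, L)`. -/
theorem isIso_map_rhMap {E K : DCoh.D X} (α : E ⟶ K) (m : ℤ)
    (h1 : ∀ i : ℤ, m < i → IsIso ((DerivedCategory.homologyFunctor _ i).map α))
    (h2 : Epi ((DerivedCategory.homologyFunctor _ m).map α)) (L : DCoh.D X) (a : ℤ) [L.IsGE a] (i : ℤ)
    (hi : i < a - m) : IsIso ((DerivedCategory.homologyFunctor _ i).map (rhMap α L)) := by
  obtain ⟨C, g, h, hΔ⟩ := distinguished_cocone_triangle α
  have hC : C.IsLE (m - 1) := isLE_obj₃ _ hΔ m h1 h2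
  have hC' : (C⟦(-1 : ℤ)⟧).IsLE m := DerivedCategory.TStructure.t.isLE_shift C (m - 1) (-1) m (by omega)
  have g1 := isGE_RH C L a (m - 1)
  have g2 := isGE_RH (C⟦(-1 : ℤ)⟧) L a m
  have z1 := DerivedCategory.isZero_of_isGE ((RH C).obj L) (a - (m - 1)) i (by omega)
  have z2 := DerivedCategory.isZero_of_isGE ((RH (C⟦(-1 : ℤ)⟧)).obj L) (a - m) i hi
  exact Groth.Agent.PerfC.RHomTri.isIso_homology_ρ (LTX X).flip RH rhAdj (fun M => isTriang_LTX_obj M)
    additive_LTX_flip L _ hΔ i z1 z2

end Groth.Agent.PerfC.RHomCmp556
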