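import Groth.Agent.PerfC.RHomShift
import Groth.Agent.PerfA.QCohD
import Groth.Agent.PerfA.CohSerre
import Groth.Agent.Dcoh.LocalD

/-!
# `RHom(K, L)` for perfect `K` has cohomology sheaves in any local weak Serre class containing those of `L`
-/

set_option autoImplicit false

universe u

open CategoryTheory CategoryTheory.Limits AlgebraicGeometry Pretriangulated

attribute [local instance] HasDerivedCategory.standard

namespace Groth.Agent.PerfC.RHomCoh

open Groth.Agent.PerfC.RHomD Groth.Agent.PerfC.RHomShift Groth.Agent.PerfA.CohomIn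
  Groth.Agent.Dcoh.LocalD

/-- A family of weak Serre classes of modules on a class of schemes, stable under restriction to opens and
local. -/
structure LocSerre (N : Scheme.{u} → Prop) (P : ∀ X : Scheme.{u}, ObjectProperty X.Modules) :
    Prop where
  open_ {X U : Scheme.{u}} (j : U ⟶ X) [IsOpenImmersion j] : N X → N U
  iso (X : Scheme.{u}) : (P X).IsClosedUnderIsomorphisms
  zero (X : Scheme.{u}) : (P X).ContainsZero
  ker (X : Scheme.{u}) : N X → (P X).IsClosedUnderKernels
  coker (X : Scheme.{u}) : N X → (P X).IsClosedUnderCokernels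
  ext (X : Scheme.{u}) : N X → (P X).IsClosedUnderExtensions
  restrict {X U : Scheme.{u}} (j : U ⟶ X) [IsOpenImmersion j] (M : X.Modules) :
    P X M → P U (M.restrict j)
  local_ {X : Scheme.{u}} (M : X.Modules)
    (h : ∀ x : X, ∃ U : X.Opens, x ∈ U ∧ P U (M.restrict U.ι)) : P X M

variable {N : Scheme.{u} → Prop} {P : ∀ X : Scheme.{u}, ObjectProperty X.Modules}
  (hP : LocSerre N P) {X : Scheme.{u}}

include hP

lemma coh_restrict {U : Scheme.{u}} (j : U ⟶ X) [IsOpenImmersion j] {K : DCoh.D X}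
    (hK : coh (P X) K) : coh (P U) ((DCoh.restrictD j).obj K) := fun i => by
  have := hP.iso U
  exact (P U).prop_of_iso (HDRestrict j K i).symm (hP.restrict j _ (hK i))

lemma coh_local {K : DCoh.D X}
    (h : ∀ x : X, ∃ U : X.Opens, x ∈ U ∧ coh (P U) ((DCoh.restrictD U.ι).obj K)) :
    coh (P X) K := fun i => by
  refine hP.local_ _ fun x => ?_
  obtain ⟨U, hx, hU⟩ := h x
  have := hP.iso U
  exact ⟨U, hx, (P U).prop_of_iso (HDRestrict U.ι K i) (hU i)⟩

lemma coh_iso {K L : DCoh.D X} (e : K ≅ L) (hK : coh (P X) K) : coh (P X) L := by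
  have := hP.iso X
  exact (coh (P X)).prop_of_iso e hK

lemma coh_shift {K : DCoh.D X} (hK : coh (P X) K) (n : ℤ) : coh (P X) (K⟦n⟧) := by
  have := hP.iso X
  exact (coh (P X)).le_shift n _ hK

lemma good_of (K L : DCoh.D X) (h : ∀ n : ℤ, coh (P X) ((RH K).obj (L⟦n⟧))) :
    good (P X) L K := fun n => by
  obtain ⟨e⟩ := nonempty_rhShift K L n
  exact coh_iso hP e.symm (h (-n))

lemma good_unit {L : DCoh.D X} (hL : coh (P X) L) :
    good (P X) L (DCoh.inD X (Coh.structureModule X)) :=
  good_of hP _ _ fun n => by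
    obtain ⟨e⟩ := nonempty_rhUnit (L⟦n⟧)
    exact coh_iso hP e.symm (coh_shift hP hL n)

omit hP in
lemma prop_sigma {A : Type*} [Category* A] [Abelian A]
    {T : Type*} [Category* T] [HasZeroObject T] [HasShift T ℤ] [Preadditive T]
    [∀ n : ℤ, (shiftFunctor T n).Additive] [Pretriangulated T]
    (P : ObjectProperty T) [P.IsTriangulated] [P.IsClosedUnderIsomorphisms]
    (Φ : A ⥤ T) [Φ.Additive] {n : ℕ} (M : Fin n → A) (h : ∀ i, P (Φ.obj (M i))) :
    P (Φ.obj (∐ M)) := by
  have : HasFiniteBiproducts A := Abelian.hasFiniteBiproducts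
  have : HasFiniteBiproducts T := HasFiniteBiproducts.of_hasFiniteProducts
  have := Φ.preservesFiniteBiproductsOfAdditive
  refine P.prop_of_iso (Φ.mapIso (biproduct.isoCoproduct M)) ?_
  refine P.prop_of_iso (Φ.mapBiproduct M).symm ?_
  refine P.prop_of_iso (biproduct.isoProduct _).symm ?_
  exact P.prop_product h

lemma good_free (hN : N X) {L : DCoh.D X} (hL : coh (P X) L) (r : ℕ) :
    good (P X) L (DCoh.inD X (FlatMod.freeMod X r)) := by
  have := hP.iso X
  have := hP.zero X
  have := hP.ker X hN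
  have := hP.coker X hN
  have := hP.ext X hN
  exact prop_sigma (good (P X) L) (DerivedCategory.singleFunctor X.Modules 0) _
    (fun _ => good_unit hP hL)

/-- `RHom(M, L)` for `M` finite locally free. -/
lemma coh_rh_finLocFree (hN : N X) {M : X.Modules} (hM : FlatMod.IsFinLocFree M)
    {L : DCoh.D X} (hL : coh (P X) L) : coh (P X) ((RH (DCoh.inD X M)).obj L) := by
  refine coh_local hP fun x => ?_
  obtain ⟨U, r, hx, ⟨e⟩⟩ := hM x
  refine ⟨U, hx, ?_⟩
  obtain ⟨a⟩ := nonempty_rhRes U.ι (DCoh.inD X M) L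
  refine coh_iso hP a.symm ?_
  have := hP.iso U
  refine coh_iso hP (rhIso (((Scheme.Modules.restrictFunctor U.ι).mapDerivedCategorySingleFunctor
    0).app M ≪≫ (DerivedCategory.singleFunctor _ 0).mapIso e) _) ?_
  exact coh_of_good (P U) (good_free hP (hP.open_ U.ι hN) (coh_restrict hP U.ι hL) r)

/-- `RHom(E, L)` for `E` strictly perfect. -/
lemma good_strPerf (hN : N X) {E : CochainComplex X.Modules ℤ} (hE : DCoh.IsStrictlyPerfect E)
    {L : DCoh.D X} (hL : coh (P X) L) : good (P X) L (DerivedCategory.Q.obj E) := by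
  have := hP.iso X
  have := hP.zero X
  have := hP.ker X hN
  have := hP.coker X hN
  have := hP.ext X hN
  obtain ⟨⟨a, b, hab⟩, hf⟩ := hE
  exact Groth.Agent.PerfB.BoundedInd.bounded_induction (good (P X) L) E a b
    (fun i hi => hab i hi) (fun i => good_of hP _ _ fun n =>
      coh_rh_finLocFree hP hN (hf i) (coh_shift hP hL n))

/-- `RHom(K, L)` for `K` perfect. -/
theorem coh_rh_perfect (hN : N X) {K : DCoh.D X} (hK : DCoh.IsPerfect K)
    {L : DCoh.D X} (hL : coh (P X) L) : coh (P X) ((RH K).obj L) := by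
  rw [isPerfect_iff_locally] at hK
  refine coh_local hP fun x => ?_
  obtain ⟨U, hx, E, hE, ⟨e⟩⟩ := hK x
  refine ⟨U, hx, ?_⟩
  obtain ⟨a⟩ := nonempty_rhRes U.ι K L
  have := hP.iso U
  refine coh_iso hP (a.symm) ?_
  refine coh_iso hP (rhIso e _) ?_
  exact coh_of_good (P U) (good_strPerf hP (hP.open_ U.ι hN) hE (coh_restrict hP U.ι hL))

end Groth.Agent.PerfC.RHomCoh
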