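import Groth.Agent.S0476
import Groth.Agent.S0484
import Groth.Agent.Dcoh.StalkT
import Groth.Agent.Dcoh.KFlat
import Groth.Agent.PerfC.RHomAdj
import Groth.Agent.PerfC.BifAdj

/-!
# Existence of `RHom(K, -)` on `D(O_X)` for K-flat `K`, and its value on K-injective complexes
-/

set_option autoImplicit false

universe u

open CategoryTheory CategoryTheory.Limits AlgebraicGeometry

namespace Groth.Agent.PerfC.RHomEx

open Groth.Agent.Dcoh.CxFun Groth.Agent.Dcoh.DerHo Groth.Agent.Dcoh.KFlat

variable {X : Scheme.{u}}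

variable (X) in
/-- `O_X`-modules form a Grothendieck abelian category. -/
theorem isGrothendieckAbelian : IsGrothendieckAbelian.{u} X.Modules :=
  Groth.Agent.S0484.result _ X.ringCatSheaf

variable (X) in
theorem hasKInj : HasKInj X.Modules := fun K => by
  have := isGrothendieckAbelian X
  obtain ⟨I, f, h1, h2, -, -⟩ := Groth.Agent.S0476.result K
  exact ⟨I, f, h1, h2⟩

/-- `- ⊗ K` on complexes of `O_X`-modules has a right adjoint. -/
theorem isLeftAdjoint_tR (K : CochainComplex X.Modules ℤ) : (tR K).IsLeftAdjoint := by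
  have := isGrothendieckAbelian X
  exact Groth.Agent.PerfC.BifAdj.isLeftAdjoint_flip_obj DCoh.tensorBi K

/-- `K ⊗ -` on complexes of `O_X`-modules has a right adjoint. -/
theorem isLeftAdjoint_tL (K : CochainComplex X.Modules ℤ) : (tL K).IsLeftAdjoint := by
  have := isGrothendieckAbelian X
  exact Groth.Agent.PerfC.BifAdj.isLeftAdjoint_obj DCoh.tensorBi K

end Groth.Agent.PerfC.RHomEx
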