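import Groth.Agent.PerfC.RHomSerre
import Groth.Agent.PerfC.RHomBnd556

/-!
# `RHom(K, L)` for pseudo-coherent `K` and bounded below `L`

* `coh_rh_pc`: for `K` pseudo-coherent, `L` bounded below with cohomology sheaves in a local weak Serre class
  `P`, the object `RHom(K, L)` has cohomology sheaves in `P`.
-/

set_option autoImplicit false

universe u

open CategoryTheory CategoryTheory.Limits AlgebraicGeometry Pretriangulated

attribute [local instance] HasDerivedCategory.standard

namespace Groth.Agent.PerfC.RHomPC346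

open Groth.Agent.PerfC.RHomD Groth.Agent.PerfC.DTens Groth.Agent.PerfC.RHomShift
  Groth.Agent.PerfC.RHomCoh Groth.Agent.PerfC.RHomBnd556 Groth.Agent.PerfA.CohomIn
  Groth.Agent.Dcoh.LocalD

variable {X : Scheme.{u}}

/-- The cone of an approximation is bounded above. -/
lemma isLE_cone {P E C : DCoh.D X} {α : P ⟶ E} {g : E ⟶ C} {h : C ⟶ P⟦(1 : ℤ)⟧}
    (hT : Triangle.mk α g h ∈ distTriang (DCoh.D X)) (m : ℤ)
    (h1 : ∀ i : ℤ, m < i → IsIso ((DerivedCategory.homologyFunctor X.Modules i).map α))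
    (h2 : Epi ((DerivedCategory.homologyFunctor X.Modules m).map α)) : C.IsLE (m - 1) := by
  refine (DerivedCategory.isLE_iff C (m - 1)).2 fun i hi => ?_
  have e1 : Epi ((DerivedCategory.homologyFunctor X.Modules i).map α) := by
    obtain rfl | hi' := (show m ≤ i by lia).eq_or_lt
    · exact h2
    · have := h1 i hi'
      infer_instance
  have e2 : IsIso ((DerivedCategory.homologyFunctor X.Modules (i + 1)).map α) := h1 _ (by lia)
  have z1 : (DerivedCategory.homologyFunctor X.Modules i).map g = 0 := by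
    rw [← cancel_epi ((DerivedCategory.homologyFunctor X.Modules i).map α), comp_zero,
      ← Functor.map_comp, show α ≫ g = 0 from comp_distTriang_mor_zero₁₂ _ hT, Functor.map_zero]
  have z2 : DerivedCategory.HomologySequence.δ (Triangle.mk α g h) i (i + 1) rfl = 0 := by
    have : DerivedCategory.HomologySequence.δ (Triangle.mk α g h) i (i + 1) rfl ≫
        (DerivedCategory.homologyFunctor X.Modules (i + 1)).map α = 0 :=
      (DerivedCategory.HomologySequence.δ_comp (Triangle.mk α g h) hT i (i + 1) rfl)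
    exact (cancel_mono ((DerivedCategory.homologyFunctor X.Modules (i + 1)).map α)).1
      (this.trans zero_comp.symm)
  exact (DerivedCategory.HomologySequence.exact₃ (Triangle.mk α g h) hT i (i + 1) rfl).isZero_of_both_zeros
    z1 z2

/-- `H^i RHom(K, L)` vanishes for `K ≤ b`, `L ≥ a`, `i < a - b`. -/
lemma isZero_HD_rh (K L : DCoh.D X) (a b i : ℤ) (hK : K.IsLE b) (hL : L.IsGE a) (hi : i < a - b) :
    IsZero ((DerivedCategory.homologyFunctor X.Modules i).obj ((RH K).obj L)) := by
  have := isGE_RH K L a b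
  exact DerivedCategory.isZero_of_isGE _ (a - b) i hi

/-- The comparison along an approximation `E → K` with cone `≤ m - 1`. -/
lemma isIso_HD_rhMap {E K C : DCoh.D X} {α : E ⟶ K} {g : K ⟶ C} {h : C ⟶ E⟦(1 : ℤ)⟧}
    (hT : Triangle.mk α g h ∈ distTriang (DCoh.D X)) (L : DCoh.D X) (a m i : ℤ)
    (hC : C.IsLE (m - 1)) (hL : L.IsGE a) (hi : i < a - m) :
    IsIso ((DerivedCategory.homologyFunctor X.Modules i).map (rhMap α L)) := by
  have hC' : (C⟦(-1 : ℤ)⟧).IsLE m := DerivedCategory.TStructure.t.isLE_shift C (m - 1) (-1) m (by lia)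
  exact Groth.Agent.PerfC.RHomTri.isIso_homology_ρ (LTX X).flip RH rhAdj
    (fun M => isTriang_LTX_obj M) additive_LTX_flip L (Triangle.mk α g h) hT i
    (isZero_HD_rh C L a (m - 1) i hC hL (by lia)) (isZero_HD_rh _ L a m i hC' hL hi)

variable {N : Scheme.{u} → Prop} {P : ∀ X : Scheme.{u}, ObjectProperty X.Modules}
  (hP : LocSerre N P)

include hP

/-- `H^i RHom(K, L)` for `K` approximated by a strictly perfect complex. -/
lemma prop_HD_of_strPC (hN : N X) {K L : DCoh.D X} (a m i : ℤ) (hK : StrPC m X K) (hL : L.IsGE a)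
    (hi : i < a - m) (hLP : coh (P X) L) : P X (DCoh.HD ((RH K).obj L) i) := by
  obtain ⟨E, α, hE, h1, h2⟩ := hK
  obtain ⟨C, g, k, hT⟩ := distinguished_cocone_triangle α
  have := isIso_HD_rhMap hT L a m i (isLE_cone hT m h1 h2) hL hi
  have := hP.iso X
  exact (P X).prop_of_iso (asIso ((DerivedCategory.homologyFunctor X.Modules i).map (rhMap α L))).symm
    (coh_of_good (P X) (good_strPerf hP hN hE hLP) i)

/-- `RHom(K, L)` for `K` pseudo-coherent and `L` bounded below. -/
theorem coh_rh_pc (hN : N X) {K L : DCoh.D X} (hK : ∀ m : ℤ, DCoh.IsPseudoCoherentD m K) (a : ℤ)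
    (hL : L.IsGE a) (hLP : coh (P X) L) : coh (P X) ((RH K).obj L) := fun i => by
  refine hP.local_ _ fun x => ?_
  obtain ⟨U, hx, hU⟩ := (isPseudoCoherentD_iff_locally (a - i - 1) K).1 (hK _) x
  have := hP.iso U
  have hL' : ((DCoh.restrictD U.ι).obj L).IsGE a :=
    Groth.Agent.Dcoh.MapDer.isGE_map (Scheme.Modules.restrictFunctor U.ι) a L
  obtain ⟨e⟩ := nonempty_rhRes U.ι K L
  refine ⟨U, hx, (P U).prop_of_iso (HDRestrict U.ι ((RH K).obj L) i) ?_⟩
  refine (P U).prop_of_iso ((DerivedCategory.homologyFunctor _ i).mapIso e.symm) ?_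
  exact prop_HD_of_strPC hP (hP.open_ U.ι hN) a (a - i - 1) i hU hL' (by lia)
    (coh_restrict hP U.ι hLP)

end Groth.Agent.PerfC.RHomPC346
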