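import Groth.Agent.PerfC.RHomD
import Groth.Agent.PerfC.LTBound
import Groth.Agent.PerfC.SigmaInd
import Groth.Agent.PerfB.BoundedInd
import Groth.Agent.Dcoh.DualX
import Groth.Agent.PerfC.RHomBnd556
import Groth.Agent.PerfA.QCohSerre
import Groth.Agent.PerfA.CohSerre
import Groth.Agent.PerfA.QCohExt

/-!
# `RHom(K, L)` for `K` pseudo-coherent

* `coh_RH_of_freePerf`: `RHom(K, L)` has cohomology sheaves in a weak Serre class `P` if `L` has and
  `K` is a bounded complex of finite free modules.
-/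

set_option autoImplicit false

universe u

open CategoryTheory CategoryTheory.Limits AlgebraicGeometry MonoidalCategory

attribute [local instance] HasDerivedCategory.standard

namespace Groth.Agent.PerfC.RHomPc175

open Groth.Agent.PerfC.DBif Groth.Agent.PerfC.DTens Groth.Agent.PerfC.RHomD
  Groth.Agent.PerfC.IsoLocus Groth.Agent.PerfA.CohomIn Groth.Agent.Dcoh.LocalFree
open scoped Groth.Agent.Dcoh.MonCat Groth.Agent.Dcoh.ModD

variable {X : Scheme.{u}}

/-- `- ⊗ᴸ K` is the monoidal product with `K`. -/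
noncomputable def flipIso (K : DCoh.D X) : (LTX X).flip.obj K ≅ tensorRight K :=
  haveI := DTens.hasLTensorCx (DerivedCategory.Q.objPreimage K)
  (LTX X).flip.mapIso (DerivedCategory.Q.objObjPreimageIso K).symm ≪≫
    LTXcx (DerivedCategory.Q.objPreimage K) ≪≫
    Groth.Agent.Dcoh.ModTens.LTensorCxIso (DerivedCategory.Q.objPreimage K) ≪≫
    (tensoringRight (DCoh.D X)).mapIso (DerivedCategory.Q.objObjPreimageIso K)

/-- If `K` has a dual `Y` then `RHom(K, L) = L ⊗ Y`. -/
noncomputable def rhPairing {K Y : DCoh.D X} (h : ExactPairing K Y) (L : DCoh.D X) :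
    (RH K).obj L ≅ ((LTX X).obj L).obj Y :=
  (((rhAdj K).ofNatIsoLeft (flipIso K)).rightAdjointUniq (tensorRightAdjunction K Y)).app L ≪≫
    ((flipIso Y).symm.app L)

/-- `L ⊗ᴸ O_X = L`. -/
noncomputable def tensorUnitIso (L : DCoh.D X) :
    ((LTX X).obj L).obj ((DerivedCategory.singleFunctor X.Modules 0).obj (Coh.structureModule X)) ≅ L :=
  ((LTX X).obj L).mapIso (Groth.Agent.Dcoh.DualX.unitIso X) ≪≫
    (flipIso (𝟙_ (DCoh.D X))).app L ≪≫ ρ_ L

/-- A triangulated property containing `O_X` contains the bounded complexes of finite free modules. -/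
theorem prop_of_freePerf (S : ObjectProperty (DCoh.D X)) [S.IsTriangulated] [S.IsClosedUnderIsomorphisms]
    (hS : S ((DerivedCategory.singleFunctor X.Modules 0).obj (Coh.structureModule X)))
    {K : DCoh.D X} (hK : FreePerf X K) : S K := by
  obtain ⟨E, a, b, hE, hF, ⟨c⟩⟩ := hK
  refine S.prop_of_iso c.symm (Groth.Agent.PerfB.BoundedInd.bounded_induction S E a b hE (fun i => ?_))
  obtain ⟨n, ⟨e⟩⟩ := hF i
  refine S.prop_of_iso ((DerivedCategory.singleFunctor X.Modules 0).mapIso e.symm) ?_
  refine SigmaInd.sigma_fin (fun A => S ((DerivedCategory.singleFunctor X.Modules 0).obj A))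
    (fun e h => S.prop_of_iso ((DerivedCategory.singleFunctor X.Modules 0).mapIso e) h)
    (fun A hA => S.prop_of_isZero (Functor.map_isZero _ hA)) (fun A B hA hB => ?_) n _ (fun _ => hS)
  have : PreservesBinaryBiproducts (DerivedCategory.singleFunctor X.Modules 0) :=
    preservesBinaryBiproducts_of_preservesBiproducts _
  refine S.prop_of_iso ((DerivedCategory.singleFunctor X.Modules 0).mapBiprod A B).symm ?_
  exact S.ext_of_isTriangulatedClosed₂ _
    (Pretriangulated.binaryBiproductTriangle_distinguished _ _) hA hB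

variable (P : ObjectProperty X.Modules) [P.IsClosedUnderIsomorphisms] [P.ContainsZero]
  [P.IsClosedUnderKernels] [P.IsClosedUnderCokernels] [P.IsClosedUnderExtensions]

/-- `L ⊗ᴸ Y` has cohomology sheaves in `P` if `L` has and `Y` is a bounded complex of finite free
modules. -/
theorem coh_tensor_of_freePerf {L Y : DCoh.D X} (hL : coh P L) (hY : FreePerf X Y) :
    coh P (((LTX X).obj L).obj Y) := by
  obtain ⟨_, _⟩ := isTriang_LTX_obj L
  exact prop_of_freePerf ((coh P).inverseImage ((LTX X).obj L))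
    ((coh P).prop_of_iso (tensorUnitIso L).symm hL) hY

/-- `RHom(K, L)` has cohomology sheaves in `P` if `L` has and `K` is a bounded complex of finite free
modules. -/
theorem coh_RH_of_freePerf {K L : DCoh.D X} (hK : FreePerf X K) (hL : coh P L) :
    coh P ((RH K).obj L) := by
  obtain ⟨Y, ⟨h⟩, hY⟩ := Groth.Agent.Dcoh.DualX.exists_pairing_of_freePerf hK
  exact (coh P).prop_of_iso (rhPairing h L).symm (coh_tensor_of_freePerf P hL hY)

section PseudoCoherent

open Groth.Agent.Dcoh.LocalD

/-- `K` receives a map from a bounded complex of finite free modules which is an isomorphism on `H^i`,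
`i > m`, and an epimorphism on `H^m`. -/
def FreePC (m : ℤ) : PropD.{u} := fun U K =>
  ∃ (F : DCoh.D U) (α : F ⟶ K), FreePerf U F ∧
    (∀ i : ℤ, m < i → IsIso ((DerivedCategory.homologyFunctor _ i).map α)) ∧
    Epi ((DerivedCategory.homologyFunctor _ m).map α)

lemma isStable_freePC (m : ℤ) : IsStable (FreePC.{u} m) where
  iso e := fun ⟨F, α, hF, h1, h2⟩ => ⟨F, α ≫ e.hom, hF, fun i hi => by
    have := h1 i hi
    rw [Functor.map_comp]; infer_instance, by
    rw [Functor.map_comp]; exact epi_comp _ _⟩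
  restrict f _ K := fun ⟨F, α, hF, h1, h2⟩ => ⟨_, (DCoh.restrictD f).map α,
    isStable_freePerf.restrict f F hF, fun i hi =>
      Groth.Agent.Dcoh.MapDer.isIso_homology_map (Scheme.Modules.restrictFunctor f) α i (h1 i hi),
      Groth.Agent.Dcoh.MapDer.epi_homology_map (Scheme.Modules.restrictFunctor f) α m h2⟩

lemma locally_freePC_of_strPC (m : ℤ) {K : DCoh.D X} (h : StrPC m X K) : Locally (FreePC m) X K := by
  obtain ⟨E, α, hE, h1, h2⟩ := h
  intro x
  obtain ⟨V, hx, hV⟩ := locally_freePerf_of_strPerf ⟨E, hE, ⟨Iso.refl _⟩⟩ x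
  exact ⟨V, hx, _, (DCoh.restrictD V.ι).map α, hV, fun i hi =>
      Groth.Agent.Dcoh.MapDer.isIso_homology_map (Scheme.Modules.restrictFunctor V.ι) α i (h1 i hi),
      Groth.Agent.Dcoh.MapDer.epi_homology_map (Scheme.Modules.restrictFunctor V.ι) α m h2⟩

/-- A pseudo-coherent object is locally approximated by bounded complexes of finite free modules. -/
lemma locally_freePC (m : ℤ) {K : DCoh.D X} (h : DCoh.IsPseudoCoherentD m K) :
    Locally (FreePC m) X K :=
  locally_of_locally (isStable_freePC m)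
    (locally_mono (fun _ _ => locally_freePC_of_strPC m) ((isPseudoCoherentD_iff_locally m K).1 h))

open CategoryTheory.Pretriangulated in
lemma isLE_obj₃ (T : Triangle (DCoh.D X)) (hT : T ∈ distTriang (DCoh.D X)) (m : ℤ)
    (h1 : ∀ i : ℤ, m < i → IsIso ((DerivedCategory.homologyFunctor _ i).map T.mor₁))
    (h2 : Epi ((DerivedCategory.homologyFunctor _ m).map T.mor₁)) : T.obj₃.IsLE (m - 1) := by
  rw [DerivedCategory.isLE_iff]
  intro i hi
  have e1 : Epi ((DerivedCategory.homologyFunctor _ i).map T.mor₁) := by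
    rcases (show m ≤ i by lia).eq_or_lt with rfl | h
    · exact h2
    · have := h1 i h
      infer_instance
  have e2 : Mono ((DerivedCategory.homologyFunctor _ (i + 1)).map T.mor₁) := by
    have := h1 (i + 1) (by lia)
    infer_instance
  exact (DerivedCategory.HomologySequence.exact₃ T hT i (i + 1) rfl).isZero_of_both_zeros
    ((DerivedCategory.HomologySequence.epi_homologyMap_mor₁_iff T hT i).1 e1)
    ((DerivedCategory.HomologySequence.mono_homologyMap_mor₁_iff T hT i (i + 1) rfl).1 e2)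

/-- The cohomology sheaf `H^i` of `RHom(K, L)` for `K` approximated by a finite free complex. -/
theorem prop_homology_RH_of_freePC (P : ObjectProperty X.Modules) [P.IsClosedUnderIsomorphisms]
    [P.ContainsZero] [P.IsClosedUnderKernels] [P.IsClosedUnderCokernels] [P.IsClosedUnderExtensions]
    {K L : DCoh.D X} (a i m : ℤ) (hm : i + m < a) [L.IsGE a] (hL : coh P L) (hK : FreePC m X K) :
    P ((DerivedCategory.homologyFunctor _ i).obj ((RH K).obj L)) := by
  obtain ⟨F, α, hF, h1, h2⟩ := hK
  obtain ⟨C, g, h, hT⟩ := Pretriangulated.distinguished_cocone_triangle α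
  have hC : C.IsLE (m - 1) := isLE_obj₃ _ hT m h1 h2
  have hC' : (C⟦(-1 : ℤ)⟧).IsLE m :=
    DerivedCategory.TStructure.t.isLE_shift C (m - 1) (-1) m (by lia)
  have b1 := Groth.Agent.PerfC.RHomBnd556.isGE_RH C L a (m - 1)
  have b2 := Groth.Agent.PerfC.RHomBnd556.isGE_RH (C⟦(-1 : ℤ)⟧) L a m
  have key := Groth.Agent.PerfC.RHomTri.isIso_homology_ρ (LTX X).flip RH rhAdj
    (fun M => isTriang_LTX_obj M) additive_LTX_flip L _ hT i
    (DerivedCategory.isZero_of_isGE ((RH C).obj L) (a - (m - 1)) i (by lia))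
    (DerivedCategory.isZero_of_isGE ((RH (C⟦(-1 : ℤ)⟧)).obj L) (a - m) i (by lia))
  exact P.prop_of_iso (@asIso _ _ _ _ ((DerivedCategory.homologyFunctor _ i).map
    (Groth.Agent.PerfC.RHomTri.ρ (LTX X).flip RH rhAdj α L)) key).symm (coh_RH_of_freePerf P hF hL i)

end PseudoCoherent

/-- `RHom(K, L)` has quasi-coherent cohomology sheaves if `K` is pseudo-coherent and `L` is bounded
below with quasi-coherent cohomology sheaves. -/
theorem isQCohD_RH {K L : DCoh.D X} (hK : ∀ m : ℤ, DCoh.IsPseudoCoherentD m K) (a : ℤ) [L.IsGE a]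
    (hL : DCoh.IsQCohD L) : DCoh.IsQCohD ((RH K).obj L) := by
  intro i
  refine Groth.Agent.PerfC.RHomBnd556.isQCoh_HD_of_cover _ i fun x => ?_
  obtain ⟨V, hx, hV⟩ := locally_freePC (a - i - 1) (hK _) x
  refine ⟨V, V.ι, inferInstance, by simpa using hx, ?_⟩
  obtain ⟨e⟩ := nonempty_rhRes V.ι K L
  have : ((DCoh.restrictD V.ι).obj L).IsGE a :=
    Groth.Agent.PerfA.ExactD.isGE_map (Scheme.Modules.restrictFunctor V.ι) L a
  exact Groth.Agent.PerfA.QCohSerre.isQCoh_of_iso ((DerivedCategory.homologyFunctor _ i).mapIso e.symm)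
    (prop_homology_RH_of_freePC (Groth.Agent.PerfA.QCohSerre.qcoh V) a i (a - i - 1) (by lia)
      (Groth.Agent.PerfC.RHomBnd556.isQCohD_restrictD V.ι hL) hV)

/-- `RHom(K, L)` has coherent cohomology sheaves if `K` is pseudo-coherent and `L` is bounded
below with coherent cohomology sheaves. -/
theorem isCohD_RH [IsLocallyNoetherian X] {K L : DCoh.D X}
    (hK : ∀ m : ℤ, DCoh.IsPseudoCoherentD m K) (a : ℤ) [L.IsGE a]
    (hL : DCoh.IsCohD L) : DCoh.IsCohD ((RH K).obj L) := by
  intro i
  refine Groth.Agent.PerfC.RHomBnd556.isCoh_HD_of_cover _ i fun x => ?_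
  obtain ⟨V, hx, hV⟩ := locally_freePC (a - i - 1) (hK _) x
  refine ⟨V, V.ι, inferInstance, by simpa using hx, ?_⟩
  obtain ⟨e⟩ := nonempty_rhRes V.ι K L
  have : ((DCoh.restrictD V.ι).obj L).IsGE a :=
    Groth.Agent.PerfA.ExactD.isGE_map (Scheme.Modules.restrictFunctor V.ι) L a
  exact Groth.Agent.PerfA.CohSerre.isCoh_of_iso ((DerivedCategory.homologyFunctor _ i).mapIso e.symm)
    (prop_homology_RH_of_freePC (Groth.Agent.PerfA.CohSerre.cohp V) a i (a - i - 1) (by lia)
      (Groth.Agent.PerfC.RHomBnd556.isCohD_restrictD V.ι hL) hV)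

end Groth.Agent.PerfC.RHomPc175
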