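import Groth.Agent.PerfA.TensDev
import Groth.Agent.Dcoh.TensSymm
import Groth.Agent.PerfC.RHomAdjP
import Groth.Agent.PerfA.PerfLocal
import Groth.Agent.S0965

/-!
# `RHom(E, G)` for `E` perfect is `E^∨ ⊗^L G`
-/

set_option autoImplicit false
universe u
open CategoryTheory CategoryTheory.Limits CategoryTheory.Pretriangulated AlgebraicGeometry
attribute [local instance] HasDerivedCategory.standard

namespace Groth.Agent.PerfC.RHomPush
open Groth.Agent.Dcoh.CxFun Groth.Agent.PerfC.DInd Groth.Agent.PerfC.DBif Groth.Agent.Dcoh.KFlatAbs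
  Groth.Agent.Dcoh.KFlatFlip Groth.Agent.Dcoh Groth.Agent.PerfA.TensDev

variable {X : Scheme.{u}}

theorem hasLTensorCx (E : CochainComplex X.Modules ℤ) : DCoh.HasLTensorCx E :=
  bifData.hasLeftDerivedFunctor E

theorem nonempty_LTensorCx_congr {E E' : CochainComplex X.Modules ℤ} [DCoh.HasLTensorCx E] [DCoh.HasLTensorCx E']
    (e : DerivedCategory.Q.obj E ≅ DerivedCategory.Q.obj E') :
    Nonempty (DCoh.LTensorCx E ≅ DCoh.LTensorCx E') := by
  have : HasLT (DCoh.tensorCx (X := X)) := bifData.hasLT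
  exact ⟨(LTflip bifData E).symm ≪≫ (LTf bifData).mapIso e ≪≫ LTflip bifData E'⟩

theorem hasRSheafHom_congr {E E' : CochainComplex X.Modules ℤ} [DCoh.HasLTensorCx E] [DCoh.HasLTensorCx E']
    (e : DerivedCategory.Q.obj E ≅ DerivedCategory.Q.obj E') [h : DCoh.HasRSheafHom E] :
    DCoh.HasRSheafHom E' := by
  obtain ⟨i⟩ := nonempty_LTensorCx_congr e
  exact ⟨_, ⟨(DCoh.RSheafHomAdj E).ofNatIsoLeft i⟩⟩

theorem nonempty_RSheafHom_congr {E E' : CochainComplex X.Modules ℤ} [DCoh.HasLTensorCx E] [DCoh.HasLTensorCx E']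
    (e : DerivedCategory.Q.obj E ≅ DerivedCategory.Q.obj E') [DCoh.HasRSheafHom E] [DCoh.HasRSheafHom E'] :
    Nonempty (DCoh.RSheafHom E ≅ DCoh.RSheafHom E') := by
  obtain ⟨i⟩ := nonempty_LTensorCx_congr e
  exact ⟨((DCoh.RSheafHomAdj E).ofNatIsoLeft i).rightAdjointUniq (DCoh.RSheafHomAdj E')⟩

/-- `G[0] ⊗^L P ≅ P ⊗^L G` for `P` K-flat in both variables. -/
theorem nonempty_inD_iso (G : X.Modules) [DCoh.HasLTensorMod G]
    {P : CochainComplex X.Modules ℤ} (hP : KF₂ P) [DCoh.HasLTensorCx P] :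
    Nonempty ((DCoh.LTensorCx P).obj (DCoh.inD X G) ≅ (DCoh.LTensorMod G).obj (DerivedCategory.Q.obj P)) := by
  have : HasLT (DCoh.tensorCx (X := X)) := bifData.hasLT
  have : PresQis ((DCoh.tensorCx (X := X)).flip.obj P) :=
    { quasiIso_map := fun f hf => by
        have := hf
        exact KFlat.quasiIso_tensor hP.1 f }
  let S := (HomologicalComplex.single X.Modules (ComplexShape.up ℤ) 0).obj G
  have h1 := isIso_β_of_presQis bifData P S
  obtain ⟨e⟩ := nonempty_single_iso G hP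
  exact ⟨@asIso _ _ _ _ _ h1 ≪≫ DerivedCategory.Q.mapIso (Groth.Agent.Dcoh.TensSymm.tensorCxIso S P) ≪≫ e⟩

/-- For `E` perfect there is a perfect `V` (the dual) with `RHom(E, G) ≅ V ⊗^L G`. -/
theorem exists_dual (E : CochainComplex X.Modules ℤ) (hE : DCoh.IsPerfect (DCoh.toD X E))
    [DCoh.HasLTensorCx E] [DCoh.HasRSheafHom E] :
    ∃ V : DCoh.D X, DCoh.IsPerfect V ∧ ∀ (G : X.Modules) [DCoh.HasLTensorMod G],
      Nonempty ((DCoh.RSheafHom E).obj (DCoh.inD X G) ≅ (DCoh.LTensorMod G).obj V) := by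
  obtain ⟨P, hP, ⟨e⟩⟩ := exists_rep (DCoh.toD X E)
  have : DCoh.HasLTensorCx P := hasLTensorCx P
  have : DCoh.HasRSheafHom P := hasRSheafHom_congr e.symm
  obtain ⟨r⟩ := nonempty_RSheafHom_congr e.symm
  obtain ⟨h1, h2⟩ := S0965.result P hP.1 (PerfA.PerfLocal.isPerfect_of_iso e.symm hE)
  refine ⟨_, h1, fun G _ => ?_⟩
  obtain ⟨D, hD, ⟨d⟩⟩ := exists_rep
    ((DCoh.RSheafHom P).obj ((DerivedCategory.singleFunctor X.Modules 0).obj (Coh.structureModule X)))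
  have : DCoh.HasLTensorCx D := hasLTensorCx D
  obtain ⟨a⟩ := h2 D hD.1 ⟨d⟩ (DCoh.inD X G)
  obtain ⟨b⟩ := nonempty_inD_iso G hD
  exact ⟨r.app _ ≪≫ a.symm ≪≫ b ≪≫ (DCoh.LTensorMod G).mapIso d⟩

end Groth.Agent.PerfC.RHomPush
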