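import Groth.Agent.PerfC.RHomCoh

/-!
# The local weak Serre classes of quasi-coherent and coherent modules
-/

set_option autoImplicit false

universe u

open CategoryTheory CategoryTheory.Limits AlgebraicGeometry

attribute [local instance] HasDerivedCategory.standard

namespace Groth.Agent.PerfC.RHomSerre

open Groth.Agent.PerfC.RHomCoh Groth.Agent.PerfA.QCohSerre Groth.Agent.PerfA.CohSerre

theorem locSerre_qcoh : LocSerre.{u} (fun _ => True) (fun X => qcoh X) where
  open_ _ _ _ := trivial
  iso X := inferInstance
  zero X := inferInstance
  ker X _ := inferInstance
  coker X _ := inferInstance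
  ext X _ := inferInstance
  restrict j _ M h := isQCoh_restrict j h
  local_ M h := isQCoh_of_restrict_opens M h

theorem locSerre_coh : LocSerre.{u} (fun X => IsLocallyNoetherian X) (fun X => cohp X) where
  open_ j _ h := LocallyOfFiniteType.isLocallyNoetherian j
  iso X := inferInstance
  zero X := inferInstance
  ker X _ := inferInstance
  coker X _ := inferInstance
  ext X _ := inferInstance
  restrict j _ M h := isCoh_restrict j h
  local_ M h := isCoh_of_restrict M h

end Groth.Agent.PerfC.RHomSerre
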