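import Groth.Agent.PerfC.RHomD
import Groth.Agent.Dcoh.MonCat
import Groth.Agent.Dcoh.TensSingle
import Groth.Agent.PerfB.BoundedInd
import Groth.Agent.PerfC.SigmaInd
import Groth.Agent.PerfA.CohomIn

/-!
# `RHom(K, -)` for `K` a bounded complex of finite free modules

* `rhUnit L : RHom(O_X, L) ≅ L`, `rhShift K L n : RHom(K[n], L) ≅ RHom(K, L[-n])`.
* `good_of_bounded_free`.
-/

set_option autoImplicit false

universe u v₁ v₂ v₃ u₁ u₂ u₃

open CategoryTheory CategoryTheory.Limits AlgebraicGeometry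

attribute [local instance] HasDerivedCategory.standard

namespace Groth.Agent.PerfC.RHomShift

section Abstract

variable {C₁ : Type u₁} {C₂ : Type u₂} {D : Type u₃} [Category.{v₁} C₁] [Category.{v₂} C₂]
  [Category.{v₃} D] [Preadditive C₁] [Preadditive C₂] [Preadditive D]
  (F : C₁ ⥤ C₂ ⥤ D) [F.Additive] [∀ (X₁ : C₁), (F.obj X₁).Additive]
  [∀ (K₁ : CochainComplex C₁ ℤ) (K₂ : CochainComplex C₂ ℤ), CochainComplex.HasMapBifunctor K₁ K₂ F]

/-- `- ⊗ K₂[n] ≅ (- ⊗ K₂)[n]` on complexes. -/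
noncomputable def flipObjShift (K₂ : CochainComplex C₂ ℤ) (n : ℤ) :
    F.map₂CochainComplex.flip.obj (K₂⟦n⟧) ≅
      F.map₂CochainComplex.flip.obj K₂ ⋙ shiftFunctor (CochainComplex D ℤ) n :=
  NatIso.ofComponents (fun K₁ => ((F.map₂CochainComplex.obj K₁).commShiftIso n).app K₂)
    (fun f => (NatTrans.shift_app_comm (F.map₂CochainComplex.map f) n K₂).symm)

/-- `- ⊗ K₂[n] ≅ (- ⊗ K₂)[n]` on complexes, for a bifunctor equal to `F.map₂CochainComplex`. -/
theorem nonempty_flipObjShift {G : CochainComplex C₁ ℤ ⥤ CochainComplex C₂ ℤ ⥤ CochainComplex D ℤ}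
    (hG : G = F.map₂CochainComplex) (K₂ : CochainComplex C₂ ℤ) (n : ℤ) :
    Nonempty (G.flip.obj (K₂⟦n⟧) ≅ G.flip.obj K₂ ⋙ shiftFunctor (CochainComplex D ℤ) n) := by
  subst hG
  exact ⟨flipObjShift F K₂ n⟩

end Abstract

open Groth.Agent.Dcoh.CxFun Groth.Agent.Dcoh.KFlat Groth.Agent.PerfC.DBif Groth.Agent.PerfC.DTens
  Groth.Agent.PerfC.RHomEx Groth.Agent.PerfC.HomCx Groth.Agent.PerfC.IsoLocus
  Groth.Agent.PerfC.RHomD

variable {X : Scheme.{u}}

/-- `- ⊗ K[n] ≅ (- ⊗ K)[n]` on complexes of `O_X`-modules. -/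
theorem nonempty_tRShift (K : CochainComplex X.Modules ℤ) (n : ℤ) :
    Nonempty (tR (K⟦n⟧) ≅ tR K ⋙ shiftFunctor (CochainComplex X.Modules ℤ) n) :=
  nonempty_flipObjShift DCoh.tensorBi tensorCx_eq K n

/-- `Hom(K[n], -) ≅ Hom(K, -[-n])` on complexes. -/
theorem nonempty_hCShift (K : CochainComplex X.Modules ℤ) (n : ℤ) :
    Nonempty (hC (K⟦n⟧) ≅ shiftFunctor (CochainComplex X.Modules ℤ) (-n) ⋙ hC K) := by
  obtain ⟨e⟩ := nonempty_tRShift K n
  exact ⟨((hCAdj (K⟦n⟧)).ofNatIsoLeft e).rightAdjointUniq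
    ((hCAdj K).comp (shiftEquiv (CochainComplex X.Modules ℤ) n).toAdjunction)⟩

/-- `RHom(K[n], L) ≅ RHom(K, L[-n])`. -/
theorem nonempty_rhShift (K L : DCoh.D X) (n : ℤ) :
    Nonempty ((RH (K⟦n⟧)).obj L ≅ (RH K).obj (L⟦-n⟧)) := by
  obtain ⟨I, f, hI, hf⟩ := Groth.Agent.PerfC.RHomEx.hasKInj X (DerivedCategory.Q.objPreimage L)
  have hf' : IsIso (DerivedCategory.Q.map f) := (DerivedCategory.isIso_Q_map_iff_quasiIso _ _).2 hf
  let eL : DerivedCategory.Q.obj I ≅ L :=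
    (asIso (DerivedCategory.Q.map f)).symm ≪≫ DerivedCategory.Q.objObjPreimageIso L
  let E := DerivedCategory.Q.objPreimage K
  let eK : DerivedCategory.Q.obj E ≅ K := DerivedCategory.Q.objObjPreimageIso K
  obtain ⟨e⟩ := nonempty_hCShift E n
  have h1 : (I⟦-n⟧).IsKInjective := inferInstance
  exact ⟨(RH (K⟦n⟧)).mapIso eL.symm ≪≫
    rhIso (((DerivedCategory.Q (C := X.Modules)).commShiftIso n).app E ≪≫
      (shiftFunctor (DCoh.D X) n).mapIso eK) _ ≪≫
    (toRHIso (E⟦n⟧) I hI).symm ≪≫ DerivedCategory.Q.mapIso (e.app I) ≪≫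
    toRHIso E (I⟦-n⟧) h1 ≪≫
    (RH (DerivedCategory.Q.obj E)).mapIso
      (((DerivedCategory.Q (C := X.Modules)).commShiftIso (-n)).app I ≪≫
        (shiftFunctor (DCoh.D X) (-n)).mapIso eL) ≪≫ rhIso eK.symm _⟩

section Unit

open Groth.Agent.Dcoh.MonCat MonoidalCategory

variable (X) in
/-- `M ⊗ O_X ≅ M`. -/
noncomputable def unitR : (DCoh.tensorBi (X := X)).flip.obj (Coh.structureModule X) ≅ 𝟭 X.Modules :=
  NatIso.ofComponents (fun M => (ρ_ M : M ⊗ 𝟙_ X.Modules ≅ M))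
    (fun f => rightUnitor_naturality f)

/-- The unit for complexes. -/
theorem nonempty_mapUnit {C : Type u₁} [Category.{v₁} C] [Preadditive C] {F : C ⥤ C} [F.Additive]
    (e : F ≅ 𝟭 C) : Nonempty (F.mapHomologicalComplex (ComplexShape.up ℤ) ≅
      𝟭 (CochainComplex C ℤ)) :=
  ⟨NatIso.mapHomologicalComplex e (ComplexShape.up ℤ) ≪≫
    NatIso.ofComponents (fun K => HomologicalComplex.Hom.isoOfComponents (fun i => Iso.refl _)
      (fun i j _ => (Category.id_comp _).trans (Category.comp_id _).symm))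
      (fun f => by
        ext i
        exact (Category.comp_id _).trans (Category.id_comp _).symm)⟩

theorem nonempty_flipUnit {C : Type u₁} [Category.{v₁} C] [Preadditive C] [HasZeroObject C]
    (F : C ⥤ C ⥤ C) [F.Additive] [∀ (X₁ : C), (F.obj X₁).Additive]
    [∀ (K₁ : CochainComplex C ℤ) (K₂ : CochainComplex C ℤ), CochainComplex.HasMapBifunctor K₁ K₂ F]
    (B : C) (e : F.flip.obj B ≅ 𝟭 C)
    {G : CochainComplex C ℤ ⥤ CochainComplex C ℤ ⥤ CochainComplex C ℤ}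
    (hG : G = F.map₂CochainComplex) :
    Nonempty (G.flip.obj ((HomologicalComplex.single C (ComplexShape.up ℤ) 0).obj B) ≅ 𝟭 _) := by
  subst hG
  have : (F.flip.obj B).Additive := ⟨fun {M N f g} => by
    change (F.map (f + g)).app B = _
    rw [F.map_add]
    rfl⟩
  obtain ⟨e⟩ := nonempty_mapUnit e
  exact ⟨(Groth.Agent.Dcoh.TensSingle.singleRightIso F B).symm ≪≫ e⟩

variable (X) in
theorem nonempty_tRUnit : Nonempty (tR ((HomologicalComplex.single X.Modules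
    (ComplexShape.up ℤ) 0).obj (Coh.structureModule X)) ≅ 𝟭 _) :=
  nonempty_flipUnit DCoh.tensorBi (Coh.structureModule X) (unitR X) tensorCx_eq

variable (X) in
theorem nonempty_hCUnit : Nonempty (hC ((HomologicalComplex.single X.Modules
    (ComplexShape.up ℤ) 0).obj (Coh.structureModule X)) ≅ 𝟭 _) := by
  obtain ⟨e⟩ := nonempty_tRUnit X
  exact ⟨((hCAdj _).ofNatIsoLeft e).rightAdjointUniq Adjunction.id⟩

/-- `RHom(O_X, L) ≅ L`. -/
theorem nonempty_rhUnit (L : DCoh.D X) :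
    Nonempty ((RH (DCoh.inD X (Coh.structureModule X))).obj L ≅ L) := by
  obtain ⟨I, f, hI, hf⟩ := Groth.Agent.PerfC.RHomEx.hasKInj X (DerivedCategory.Q.objPreimage L)
  have hf' : IsIso (DerivedCategory.Q.map f) := (DerivedCategory.isIso_Q_map_iff_quasiIso _ _).2 hf
  let eL : DerivedCategory.Q.obj I ≅ L :=
    (asIso (DerivedCategory.Q.map f)).symm ≪≫ DerivedCategory.Q.objObjPreimageIso L
  obtain ⟨e⟩ := nonempty_hCUnit X
  exact ⟨(RH (DCoh.inD X (Coh.structureModule X))).mapIso eL.symm ≪≫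
    rhIso ((DerivedCategory.singleFunctorIsoCompQ X.Modules 0).symm.app
      (Coh.structureModule X)) _ ≪≫ (toRHIso _ I hI).symm ≪≫
    DerivedCategory.Q.mapIso (e.app I) ≪≫ eL⟩

end Unit

end Groth.Agent.PerfC.RHomShift
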