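import Groth.Agent.PerfC.RelFlatLpull
import Groth.Agent.PerfC.LpullRestrict
import Groth.Agent.Dcoh.LocalD

/-!
# Base change of relative flat amplitude

`locHasFiniteRelTorDim_lpull`: in a cartesian square with `f` flat, if `K` locally has finite tor dimension relative
to `S`, then `Lp^* K` locally has finite tor dimension relative to `S'`.
-/

set_option autoImplicit false
universe u
open CategoryTheory CategoryTheory.Limits AlgebraicGeometry
attribute [local instance] HasDerivedCategory.standard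

namespace Groth.Agent.PerfC.RelAmp

open Groth.Agent.PerfC.RelFlatLpull Groth.Agent.Dcoh.LocalD

variable {X S X' S' : Scheme.{u}} {p : X' ⟶ X} {q : X' ⟶ S'} {f : X ⟶ S} {g : S' ⟶ S}

/-- The definition of `LocHasFiniteRelTorDim` through the restriction functor. -/
theorem locHasFiniteRelTorDim_iff (f : X ⟶ S) (K : DCoh.D X) :
    DCoh.LocHasFiniteRelTorDim f K ↔ ∀ x : X, ∃ (V : X.Opens) (a b : ℤ), x ∈ V ∧
      DCoh.HasRelFlatAmplitudeIn (V.ι ≫ f) a b ((DCoh.restrictD V.ι).obj K) := by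
  have key : ∀ (V : X.Opens) (a b : ℤ) {L L' : DCoh.D (V : Scheme.{u})} (_ : L ≅ L'),
      DCoh.HasRelFlatAmplitudeIn (V.ι ≫ f) a b L → DCoh.HasRelFlatAmplitudeIn (V.ι ≫ f) a b L' := by
    rintro V a b L L' e ⟨E, h1, h2, ⟨h3⟩⟩
    exact ⟨E, h1, h2, ⟨h3 ≪≫ e⟩⟩
  constructor
  · intro h x
    obtain ⟨V, a, b, hx, h1⟩ := h x
    refine ⟨V, a, b, hx, ?_⟩
    have e := DerivedCategory.Q.objObjPreimageIso K
    exact key V a b ((QRestrict V.ι _).symm ≪≫ (DCoh.restrictD V.ι).mapIso e)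
      (h1 (DerivedCategory.Q.objPreimage K) ⟨e⟩)
  · intro h x
    obtain ⟨V, a, b, hx, h1⟩ := h x
    refine ⟨V, a, b, hx, ?_⟩
    rintro F' ⟨e⟩
    exact key V a b ((DCoh.restrictD V.ι).mapIso e.symm ≪≫ QRestrict V.ι F') h1

/-- A complex of relatively flat modules in `[a, b]` pulls back to such a complex. -/
theorem hasRelFlatAmplitudeIn_lpull [Flat f] {Pc : ObjectProperty (CochainComplex X.Modules ℤ)}
    (hA : PullData p Pc) [DCoh.HasLpull p] (H : IsPullback p q f g) {a b : ℤ} {K : DCoh.D X}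
    (hK : DCoh.HasRelFlatAmplitudeIn f a b K) :
    DCoh.HasRelFlatAmplitudeIn q a b ((DCoh.Lpull p).obj K) := by
  obtain ⟨E, h1, h2, ⟨e⟩⟩ := hK
  refine ⟨((Scheme.Modules.pullback p).mapHomologicalComplex (ComplexShape.up ℤ)).obj E,
    fun i hi => (Scheme.Modules.pullback p).map_isZero (h1 i hi),
    fun i x => Fdesc.FlatBC.isFlatOverAt_pullback H (E.X i) x (h2 i _), ⟨?_⟩⟩
  exact (lpullRelIso hA H E b (fun i hi => h1 i (Or.inr hi)) h2).symm ≪≫ (DCoh.Lpull p).mapIso e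

theorem locHasFiniteRelTorDim_lpull [Flat f]
    (hA : ∀ (Y Z : Scheme.{u}) (h : Y ⟶ Z), ∃ Pc : ObjectProperty (CochainComplex Z.Modules ℤ), PullData h Pc)
    [DCoh.HasLpull p] (H : IsPullback p q f g) {K : DCoh.D X}
    (hK : DCoh.LocHasFiniteRelTorDim f K) :
    DCoh.LocHasFiniteRelTorDim q ((DCoh.Lpull p).obj K) := by
  rw [locHasFiniteRelTorDim_iff] at hK ⊢
  intro x
  obtain ⟨V, a, b, hx, h1⟩ := hK (p x)
  refine ⟨p ⁻¹ᵁ V, a, b, hx, ?_⟩
  have sq : IsPullback (p ∣_ V) ((p ⁻¹ᵁ V).ι ≫ q) (V.ι ≫ f) g :=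
    ((isPullback_morphismRestrict p V).flip.paste_horiz H.flip).flip
  have : DCoh.HasLpull (p ∣_ V) := S0959.result _
  obtain ⟨Pc, hPc⟩ := hA _ _ (p ∣_ V)
  obtain ⟨e⟩ := LpullRestrict.nonempty_restrict_lpull (g := p) (g' := p ∣_ V) V.ι (p ⁻¹ᵁ V).ι
    (morphismRestrict_ι p V) K
  obtain ⟨E, e1, e2, ⟨e3⟩⟩ := hasRelFlatAmplitudeIn_lpull hPc sq h1
  exact ⟨E, e1, e2, ⟨e3 ≪≫ e.symm⟩⟩

theorem isGE_of_hasRelFlatAmplitudeIn {a b : ℤ} {K : DCoh.D X} (h : DCoh.HasRelFlatAmplitudeIn f a b K) :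
    K.IsGE a := by
  obtain ⟨E, h1, -, ⟨e⟩⟩ := h
  have h2 : E.IsStrictlyGE a := by
    rw [CochainComplex.isStrictlyGE_iff]
    exact fun i hi => h1 i (Or.inl hi)
  have h3 : (DerivedCategory.Q.obj E).IsGE a := by
    rw [DerivedCategory.isGE_Q_obj_iff]
    infer_instance
  exact DerivedCategory.TStructure.t.isGE_of_iso e a

end Groth.Agent.PerfC.RelAmp
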