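import Groth.Agent.PerfC.RelAmp
import Groth.Agent.PerfC.FibInj
import Groth.Agent.Flat2G.FlatLocus
import Groth.Agent.Dcoh.BddCx
import Groth.Agent.Dcoh.Spread
import Groth.Agent.Desc.FinLocFreeSections
import Groth.Agent.Ega3B.FlatRestrict

/-!
# Pseudo-coherent complexes with bounded fibre: flat representatives near a point

`exists_open_hasRelFlatAmplitudeIn`: `f : V ⟶ S` flat, locally of finite presentation, `L ∈ D(O_V)` in degrees `≥ r + 1` with a
strictly perfect approximation up to degree `r - 1`, and `H^r(L g^* L) = 0` where `g : W ⟶ V` is the fibre over `s`.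
Then near every point of the fibre `L` is represented by a bounded complex of `S`-flat modules.
-/

set_option autoImplicit false
universe u
open CategoryTheory CategoryTheory.Limits AlgebraicGeometry
attribute [local instance] HasDerivedCategory.standard

namespace Groth.Agent.PerfC.RelPerfPt

open Groth.Agent.PerfC.RelFlatLpull Groth.Agent.Dcoh.LocalD Groth.Agent.CycB.StalkExact

section Abstract

variable {A : Type*} [Category* A] [Abelian A] {B : Type*} [Category* B] [Abelian B] (F : A ⥤ B) [F.Additive]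
  [PreservesFiniteColimits F]

/-- If `F K` is exact in degree `i`, then `F (coker d^{i-1}) ⟶ F (K^{i+1})` is a monomorphism. -/
lemma mono_map_fromOpcycles (K : CochainComplex A ℤ) (i : ℤ)
    (h : ((F.mapHomologicalComplex (ComplexShape.up ℤ)).obj K).ExactAt i) :
    Mono (F.map (K.fromOpcycles i (i + 1))) := by
  rw [HomologicalComplex.exactAt_iff' _ (i - 1) i (i + 1) (by simp) (by simp),
    ShortComplex.exact_iff_exact_up_to_refinements] at h
  apply Preadditive.mono_of_cancel_zero
  intro T t ht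
  obtain ⟨T', π, hπ, t', ht'⟩ := surjective_up_to_refinements_of_epi (F.map (K.pOpcycles i)) t
  have h1 : t' ≫ F.map (K.d i (i + 1)) = 0 := by
    rw [← K.p_fromOpcycles, F.map_comp, ← Category.assoc, ← ht', Category.assoc, ht, comp_zero]
  obtain ⟨T'', π', hπ', t'', ht''⟩ := h t' h1
  have h2 : π' ≫ t' = t'' ≫ F.map (K.d (i - 1) i) := ht''
  have h4 : F.map (K.d (i - 1) i) ≫ F.map (K.pOpcycles i) = 0 := by
    rw [← F.map_comp, K.d_pOpcycles, F.map_zero]
  rw [← cancel_epi π, ← cancel_epi π', comp_zero, comp_zero, ht', ← Category.assoc, h2, Category.assoc]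
  exact (congrArg (t'' ≫ ·) h4).trans comp_zero

end Abstract

variable {V W S : Scheme.{u}} {f : V ⟶ S} {s : S} {g : W ⟶ V} {q : W ⟶ Spec (S.residueField s)}

lemma opcycles_iso_cokernel (P : CochainComplex V.Modules ℤ) (i j : ℤ) (hij : i + 1 = j) :
    Nonempty (cokernel (P.d i j) ≅ P.opcycles j) :=
  ⟨IsColimit.coconePointUniqueUpToIso (cokernelIsCokernel _) (P.opcyclesIsCokernel i j (by simp [← hij]))⟩

lemma cokernel_fromOpcycles_iso (P : CochainComplex V.Modules ℤ) (i j : ℤ) (hij : i + 1 = j) :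
    Nonempty (cokernel (P.fromOpcycles i j) ≅ P.opcycles j) := by
  subst hij
  exact ⟨IsColimit.coconePointUniqueUpToIso (cokernelIsCokernel _)
    ((Dcoh.BddCx.exact_opcycles P i (i + 1) rfl).gIsCokernel)⟩

lemma isFP_opcycles (P : CochainComplex V.Modules ℤ) (hP : ∀ i, FlatMod.IsFinLocFree (P.X i)) (i : ℤ) :
    CohB1.IsFP (P.opcycles i) := by
  obtain ⟨e⟩ := opcycles_iso_cokernel P (i - 1) i (by omega)
  exact Smoothlim.FPMod.isFP_of_iso e (Smoothlim.FPMod.isFP_cokernel _
    (Desc.FinLocFreeSections.isFP_of_isFinLocFree (hP _)) (Desc.FinLocFreeSections.isFP_of_isFinLocFree (hP _)))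

theorem exists_open_hasRelFlatAmplitudeIn [Flat f] [LocallyOfFinitePresentation f]
    (H : IsPullback g q f (S.fromSpecResidueField s)) (y : W)
    {Pc : ObjectProperty (CochainComplex V.Modules ℤ)} (hA : PullData g Pc) [DCoh.HasLpull g]
    (r : ℤ) (L : DCoh.D V) (hL : StrPC (r - 1) V L) (hge : L.IsGE (r + 1))
    (hz : IsZero (DCoh.HD ((DCoh.Lpull g).obj L) r)) :
    ∃ (O : V.Opens) (b : ℤ), g y ∈ O ∧
      DCoh.HasRelFlatAmplitudeIn (O.ι ≫ f) (r + 1) b ((DCoh.restrictD O.ι).obj L) := by
  obtain ⟨P, α, ⟨⟨a, b, hab⟩, hP⟩, hα1, hα2⟩ := hL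
  -- the cone of `α`
  obtain ⟨C, β, γ, hT⟩ := Pretriangulated.distinguished_cocone_triangle α
  have hC : C.IsLE (r - 2) := by
    rw [DerivedCategory.isLE_iff]
    intro i hi
    refine Dcoh.BddCx.isZero_homology_obj₃ _ hT i (i + 1) rfl ?_ ?_
    · by_cases h : i = r - 1
      · subst h; exact hα2
      · have := hα1 i (by omega)
        exact (inferInstance : Epi ((DerivedCategory.homologyFunctor _ i).map α))
    · have := hα1 (i + 1) (by omega)
      exact (inferInstance : Mono ((DerivedCategory.homologyFunctor _ (i + 1)).map α))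
  have h1 : IsZero (DCoh.HD ((DCoh.Lpull g).obj (DerivedCategory.Q.obj P)) r) := by
    have h2 : IsZero (DCoh.HD ((DCoh.Lpull g).obj C) (r - 1)) := by
      have := isLE_lpull hA C (r - 2)
      exact (DerivedCategory.isLE_iff _ _).mp this (r - 1) (by omega)
    have h3 := isZero₁ hA _ hT (r - 1)
    have e : r - 1 + 1 = r := by omega
    rw [e] at h3
    exact h3 hz h2
  have hflat : ∀ i, FlatMod.IsFlat (P.X i) := fun i => Dcoh.Spread.isFlat_of_isFinLocFree (hP i)
  have hex : (((Scheme.Modules.pullback g).mapHomologicalComplex (ComplexShape.up ℤ)).obj P).ExactAt r := by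
    rw [HomologicalComplex.exactAt_iff_isZero_homology]
    exact (h1.of_iso ((DerivedCategory.homologyFunctor W.Modules r).mapIso
      (lpullIso hA P b (fun i hi => hab i (Or.inr hi)) hflat).symm)).of_iso
        ((DerivedCategory.homologyFunctorFactors W.Modules r).app _).symm
  have hmono := mono_map_fromOpcycles (Scheme.Modules.pullback g) P r hex
  have hx : FlatMod.IsFlatOverAt f (P.opcycles (r + 1)) (g y) := by
    obtain ⟨e⟩ := cokernel_fromOpcycles_iso P r (r + 1) rfl
    refine RelFlat.isFlatOverAt_of_iso f e (g y) ?_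
    exact (FibInj.injective_and_flat H y (isFP_opcycles P hP r)
      (Desc.FinLocFreeSections.isFP_of_isFinLocFree (hP (r + 1))) (P.fromOpcycles r (r + 1))
      (RelFlat.isFlatOver_of_isFlat f (hflat _) _) (stalkLin_injective _ y)).2
  have hfp := isFP_opcycles P hP (r + 1)
  let O : V.Opens := ⟨_, Flat2G.FlatLocus.isOpen_flatLocus f (P.opcycles (r + 1))
    (Models2.FPCoh.isQCoh_of_isFP hfp) hfp⟩
  obtain ⟨e⟩ := Dcoh.BddCx.nonempty_iso_truncGE P L (r + 1)
    (fun i hi => (DerivedCategory.isGE_iff L (r + 1)).mp hge i hi) α (fun i hi => hα1 i (by omega))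
  let Pr : ObjectProperty V.Modules := fun M => ∀ v ∈ O, FlatMod.IsFlatOverAt f M v
  have hPr : Pr.IsClosedUnderIsomorphisms := ⟨fun e h v hv => RelFlat.isFlatOverAt_of_iso f e v (h v hv)⟩
  have hterms : ∀ i, Pr ((P.truncGE (r + 1)).X i) :=
    Dcoh.BddCx.prop_truncGE_X (P := Pr) (fun M hM v _ => RelFlat.isFlatOver_of_isZero f hM v) P (r + 1)
      (fun v hv => hv) (fun i _ v _ => RelFlat.isFlatOver_of_isFlat f (hflat i) v)
  refine ⟨O, b, hx, ((Scheme.Modules.restrictFunctor O.ι).mapHomologicalComplex (ComplexShape.up ℤ)).obj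
    (P.truncGE (r + 1)), ?_, ?_, ⟨(QRestrict O.ι _).symm ≪≫ (DCoh.restrictD O.ι).mapIso e.symm⟩⟩
  · intro i hi
    refine (Scheme.Modules.restrictFunctor O.ι).map_isZero ?_
    rcases hi with hi | hi
    · exact (P.truncGE (r + 1)).isZero_of_isStrictlyGE (r + 1) i hi
    · exact Dcoh.BddCx.truncGE_isZero_of_lt P (r + 1) b (fun i hi => hab i (Or.inr hi)) i hi
  · intro i v
    exact (Ega3B.FlatRestrict.isFlatOverAt_restrict_iff_comp f O.ι _ v).mpr (hterms i _ v.2)

end Groth.Agent.PerfC.RelPerfPt
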