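import Groth.Agent.PerfC.FTExt
import Groth.Agent.PerfC.PullRestrict
import Groth.Agent.Ega1.QcqsPush
import Groth.Agent.PerfA.QCohEpi
import Groth.Prelude.Def_PerfAux

/-!
# The resolution property passes to schemes affine over a qcqs base (Stacks 0F88)
-/

set_option autoImplicit false
universe u

open CategoryTheory CategoryTheory.Limits AlgebraicGeometry Opposite TopologicalSpace
open Groth.Agent.Fdesc.LocGen

namespace Groth.Agent.PerfC.ResolAffine

open Groth.Agent.PerfC.FTExt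

variable {X Y : Scheme.{u}}

theorem exists_finite_affine_cover (X : Scheme.{u}) [CompactSpace X] :
    ∃ T : Finset X.affineOpens, ∀ x : X, ∃ V ∈ T, x ∈ (V : X.Opens) := by
  have hc : IsCompact (Set.univ : Set X) := isCompact_univ
  obtain ⟨t, ht⟩ := hc.elim_finite_subcover (fun V : X.affineOpens => ((V : X.Opens) : Set X))
    (fun V => V.1.2) (by
      intro x _
      obtain ⟨V, hV, hx, -⟩ := exists_isAffineOpen_mem_and_subset (U := ⊤) (x := x) trivial
      exact Set.mem_iUnion.2 ⟨⟨V, hV⟩, hx⟩)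
  refine ⟨t, fun x => ?_⟩
  have := ht (Set.mem_univ x)
  simpa using this

/-- A morphism hitting generators of the sections over `V` is surjective on sections over `V`. -/
theorem surjective_of_span {M N : X.Modules} (φ : M ⟶ N) (V : X.Opens) (S : Set Γ(N, V))
    (hS : Submodule.span Γ(X, V) S = ⊤) (h : ∀ m ∈ S, ∃ t, φ.app V t = m) :
    Function.Surjective (φ.app V) := by
  intro m
  have hm : m ∈ Submodule.span Γ(X, V) S := by rw [hS]; trivial
  induction hm using Submodule.span_induction with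
  | mem m hm => exact h m hm
  | zero => exact ⟨0, map_zero _⟩
  | add a b _ _ ha hb =>
    obtain ⟨a', rfl⟩ := ha
    obtain ⟨b', rfl⟩ := hb
    exact ⟨a' + b', map_add _ _ _⟩
  | smul r a _ ha =>
    obtain ⟨a', rfl⟩ := ha
    exact ⟨r • a', Scheme.Modules.Hom.app_smul _ _ _⟩

theorem hasResolutionProperty_of_isAffineHom (f : X ⟶ Y) [IsAffineHom f] [CompactSpace Y]
    [QuasiSeparatedSpace Y] (hY : PerfAux.HasResolutionProperty Y) :
    PerfAux.HasResolutionProperty X := by
  classical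
  intro M hM hM'
  let P := (Scheme.Modules.pushforward f).obj M
  have hP : Coh.IsQCoh P := Ega1.QcqsPush.isQCoh_pushforward f M hM
  obtain ⟨T, hT⟩ := exists_finite_affine_cover Y
  have hgen : ∀ V : Y.affineOpens, ∃ S : Finset Γ(M, f ⁻¹ᵁ (V : Y.Opens)),
      Submodule.span Γ(X, f ⁻¹ᵁ (V : Y.Opens)) (S : Set Γ(M, f ⁻¹ᵁ (V : Y.Opens))) = ⊤ := fun V =>
    (CohqB.FiniteType2.finite_sections_of_isFT M hM' (V.2.preimage f)).fg_top
  choose S hS using hgen
  let I := Σ V : Y.affineOpens, Γ(M, f ⁻¹ᵁ (V : Y.Opens))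
  obtain ⟨N, φ, hN, h⟩ := exists_isFP_sections P hP (T.sigma S : Finset I)
    (fun i => (i.1 : Y.Opens)) (fun i _ => i.1.2.isCompact) (fun i => i.2)
  have hNq := Models2.FPCoh.isQCoh_of_isFP hN
  obtain ⟨E, π, hE, hπ⟩ := hY N hNq (Models2.FPCoh.isFT_of_isFP hN)
  let ψ : (Scheme.Modules.pullback f).obj E ⟶ M :=
    ((Scheme.Modules.pullbackPushforwardAdjunction f).homEquiv E M).symm (π ≫ φ)
  have hψ : (Scheme.Modules.pullbackPushforwardAdjunction f).unit.app E ≫
      (Scheme.Modules.pushforward f).map ψ = π ≫ φ := by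
    have h1 := ((Scheme.Modules.pullbackPushforwardAdjunction f).homEquiv E M).apply_symm_apply
      (π ≫ φ)
    rwa [Adjunction.homEquiv_unit] at h1
  refine ⟨_, ψ, PullRestrict.isFinLocFree_pullback f hE,
    FormalB.ModPowAff2.epi_of_affine_cover hM _ fun x => ?_⟩
  obtain ⟨V, hV, hx⟩ := hT (f x)
  refine ⟨f ⁻¹ᵁ (V : Y.Opens), hx, V.2.preimage f, ?_⟩
  refine surjective_of_span ψ _ _ (hS V) fun m hm => ?_
  obtain ⟨t, ht⟩ := h ⟨V, m⟩ (Finset.mem_sigma.2 ⟨hV, hm⟩)
  obtain ⟨e, rfl⟩ := CohqB.QC5.app_surjective_of_epi π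
    (PerfA.QCohEpi.isQCoh_of_isFinLocFree hE) hNq V.2 t
  refine ⟨((Scheme.Modules.pullbackPushforwardAdjunction f).unit.app E).app V e, ?_⟩
  have h2 : ((Scheme.Modules.pullbackPushforwardAdjunction f).unit.app E ≫
      (Scheme.Modules.pushforward f).map ψ).app V e = (π ≫ φ).app V e := by rw [hψ]
  exact h2.trans ht

end Groth.Agent.PerfC.ResolAffine
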