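import Mathlib.Algebra.Homology.DerivedCategory.KProjective
import Mathlib.Algebra.Homology.DerivedCategory.Fractions
import Mathlib.Algebra.Homology.Embedding.CochainComplex
import Groth.Agent.LoccohB.KDer

/-!
# Complexes homotopy equivalent to a bounded below complex

If the identity of `F` is homotopic to a map vanishing in degree `j` then `H^j(F) = 0` and
`opcycles j` is a direct summand of `F^j`.  If `Q F ≅ Q P` with `F`, `P` K-projective and `P` vanishing in
degrees `< a` this applies to all `j < a`.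
-/

set_option autoImplicit false

universe w v u

open CategoryTheory CategoryTheory.Limits DerivedCategory

namespace Groth.Agent.PerfC.RetractPerf

section General

variable {C : Type u} [Category.{v} C] [Abelian C]

lemma isZero_homology {F : CochainComplex C ℤ} {φ : F ⟶ F} (h : Homotopy (𝟙 F) φ) (j : ℤ)
    (hj : φ.f j = 0) : IsZero (F.homology j) := by
  have h1 : HomologicalComplex.homologyMap φ j = 0 := by
    rw [← cancel_epi (F.homologyπ j), HomologicalComplex.homologyπ_naturality]
    have h2 : HomologicalComplex.cyclesMap φ j = 0 := by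
      rw [← cancel_mono (F.iCycles j), HomologicalComplex.cyclesMap_i, hj, comp_zero, zero_comp]
    rw [h2, zero_comp, comp_zero]
  rw [IsZero.iff_id_eq_zero, ← HomologicalComplex.homologyMap_id, h.homologyMap_eq, h1]

/-- The projection onto `opcycles j` is split. -/
lemma exists_section {F : CochainComplex C ℤ} {φ : F ⟶ F} (h : Homotopy (𝟙 F) φ) (j : ℤ)
    (hj : φ.f j = 0) : ∃ s : F.opcycles j ⟶ F.X j, s ≫ F.pOpcycles j = 𝟙 _ := by
  have hc := h.comm j
  rw [hj, add_zero, HomologicalComplex.id_f, dNext_eq h.hom (show (ComplexShape.up ℤ).Rel j (j + 1) by simp),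
    prevD_eq h.hom (show (ComplexShape.up ℤ).Rel (j - 1) j by simp)] at hc
  refine ⟨F.descOpcycles (F.d j (j + 1) ≫ h.hom (j + 1) j) (j - 1) (by simp) (by simp), ?_⟩
  rw [← cancel_epi (F.pOpcycles j), HomologicalComplex.p_descOpcycles_assoc, Category.comp_id]
  have h2 : F.d j (j + 1) ≫ h.hom (j + 1) j = 𝟙 _ - h.hom j (j - 1) ≫ F.d (j - 1) j := by
    rw [hc]
    simp
  rw [h2, Preadditive.sub_comp, Category.id_comp, Category.assoc, HomologicalComplex.d_pOpcycles,
    comp_zero, sub_zero]

variable [HasDerivedCategory.{w} C]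

/-- The identity of `F` is homotopic to a map factoring through `P`. -/
lemma exists_homotopy {F P : CochainComplex C ℤ} [F.IsKProjective] [P.IsKProjective]
    (e : Q.obj F ≅ Q.obj P) :
    ∃ (φ : F ⟶ P) (ψ : P ⟶ F), Nonempty (Homotopy (𝟙 F) (φ ≫ ψ)) := by
  obtain ⟨φ, hφ⟩ := LoccohB.KDer.liftsFrom_Q F e.hom
  obtain ⟨ψ, hψ⟩ := LoccohB.KDer.liftsFrom_Q P e.inv
  refine ⟨φ, ψ, LoccohB.KDer.homotopy_of_Q_map_eq_of_isKProjective ?_⟩
  rw [Functor.map_comp, hφ, hψ, Iso.hom_inv_id, CategoryTheory.Functor.map_id]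

lemma isZero_homology_of_iso {F P : CochainComplex C ℤ} [F.IsKProjective] [P.IsKProjective]
    (e : Q.obj F ≅ Q.obj P) (j : ℤ) (hP : IsZero (P.X j)) : IsZero (F.homology j) := by
  obtain ⟨φ, ψ, ⟨h⟩⟩ := exists_homotopy e
  refine isZero_homology h j ?_
  rw [HomologicalComplex.comp_f, hP.eq_of_tgt (φ.f j) 0, zero_comp]

lemma exists_section_of_iso {F P : CochainComplex C ℤ} [F.IsKProjective] [P.IsKProjective]
    (e : Q.obj F ≅ Q.obj P) (j : ℤ) (hP : IsZero (P.X j)) :
    ∃ s : F.opcycles j ⟶ F.X j, s ≫ F.pOpcycles j = 𝟙 _ := by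
  obtain ⟨φ, ψ, ⟨h⟩⟩ := exists_homotopy e
  refine exists_section h j ?_
  rw [HomologicalComplex.comp_f, hP.eq_of_tgt (φ.f j) 0, zero_comp]

end General

end Groth.Agent.PerfC.RetractPerf
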