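import Groth.Agent.S0999
import Groth.Agent.LoccohB.DQCohBasic
import Groth.Agent.LoccohB.RpushTri
import Groth.Agent.PerfC.IsoLocus

/-!
# `Rf_*` is triangulated and of bounded cohomological amplitude on `D_QCoh`
-/

set_option autoImplicit false
universe u
open CategoryTheory CategoryTheory.Limits AlgebraicGeometry Pretriangulated
attribute [local instance] HasDerivedCategory.standard

namespace Groth.Agent.PerfC.RpushBound

variable {X S : Scheme.{u}} (f : X ⟶ S) [DCoh.HasRpush f]

theorem isTriang_Rpush : IsoLocus.IsTriang (DCoh.Rpush f) := by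
  obtain ⟨_, h, -⟩ := LoccohB.RpushTri.exists_isTriangulated_Rpush f
  exact ⟨_, h⟩

/-- There is an `N` such that `Rf_*` sends `D_QCoh^{≤ a}` to `D^{≤ a + N}` for all `a`. -/
theorem exists_isLE_Rpush [QuasiCompact f] [QuasiSeparated f] [CompactSpace S] :
    ∃ N : ℤ, ∀ (C : DCoh.D X) (a : ℤ), DCoh.IsQCohD C → C.IsLE a →
      ((DCoh.Rpush f).obj C).IsLE (a + N) := by
  obtain ⟨N, hN⟩ := S0999.result f
  refine ⟨N, fun C a hC ha => (DerivedCategory.isLE_iff _ _).2 fun j hj => ?_⟩
  have h1 : (C⟦a⟧).IsLE 0 := (DerivedCategory.isLE_iff _ _).2 fun i hi =>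
    (C.isZero_of_isLE a (a + i) (by lia)).of_iso
      (LoccohB.DQCohBasic.homologyShiftIso C a i (a + i) rfl)
  exact (hN (C⟦a⟧) (LoccohB.DQCohBasic.isQCohD_shift hC a) h1 (j - a) (by lia)).of_iso
    (LoccohB.DQCohBasic.HDRpushShiftIso f C a (j - a) j (by lia)).symm

end Groth.Agent.PerfC.RpushBound
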