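import Groth.Agent.PerfC.SuppGenRing
import Groth.Agent.PerfC.Excision
import Groth.Agent.PerfA.AffModel
import Groth.Agent.PerfA.PerfTri
import Groth.Agent.PerfA.GenRing
import Groth.Agent.PerfC.ExtZeroD2
import Groth.Agent.PerfA.QCohD
import Groth.Agent.S1098

/-!
# Perfect generators of `D_{QCoh,T}(O_X)`
-/

set_option autoImplicit false
universe u
open CategoryTheory CategoryTheory.Limits CategoryTheory.Pretriangulated AlgebraicGeometry
attribute [local instance] HasDerivedCategory.standard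
open scoped ZeroObject

namespace Groth.Agent.PerfC.SuppGen
open Groth.Agent.PerfA.Restrict Groth.Agent.PerfA.PerfLocal Groth.Agent.PerfA.AffModel
open Groth.Agent.PerfC.Excision Groth.Agent.PerfC.Supp Groth.Agent.PerfA Groth.Agent.PerfA.PerfTri

/-- `D_{QCoh,T}(O_X)` has a perfect weak generator. -/
def SGen (X : Scheme.{u}) (T : Set X) : Prop :=
  ∃ P : DCoh.D X, DCoh.IsPerfect P ∧ suppP T P ∧ ∀ E : DCoh.D X, DCoh.IsQCohD E → suppP T E →
    (∀ (n : ℤ) (φ : P⟦n⟧ ⟶ E), φ = 0) → IsZero E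

section Affine

lemma isPerfect_single (A : CommRingCat.{u}) :
    DRing.IsPerfect A ((DerivedCategory.singleFunctor (ModuleCat.{u} A) 0).obj (ModuleCat.of A A)) := by
  refine ⟨(CochainComplex.singleFunctor (ModuleCat.{u} A) 0).obj (ModuleCat.of A A), 0, 0, ?_, ?_,
    ⟨(DerivedCategory.singleFunctorIsoCompQ (ModuleCat.{u} A) 0).symm.app _⟩⟩
  · intro i hi
    exact HomologicalComplex.isZero_single_obj_X _ _ _ _ (by lia)
  · intro i
    by_cases hi : i = 0
    · subst hi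
      let e : ((CochainComplex.singleFunctor (ModuleCat.{u} A) 0).obj (ModuleCat.of A A)).X 0 ≅
        ModuleCat.of A A := HomologicalComplex.singleObjXSelf _ _ _
      exact ⟨Module.Finite.equiv e.toLinearEquiv.symm, Module.Projective.of_equiv e.toLinearEquiv.symm⟩
    · have h : IsZero (((CochainComplex.singleFunctor (ModuleCat.{u} A) 0).obj (ModuleCat.of A A)).X i) :=
        HomologicalComplex.isZero_single_obj_X _ _ _ _ hi
      have := ModuleCat.subsingleton_of_isZero h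
      exact ⟨inferInstance, Module.Projective.of_free⟩

variable (X : Scheme.{u}) [IsAffine X]

lemma suppP_iff_isZero {X : Scheme.{u}} {T : Set X} (hT : IsClosed T) (K : DCoh.D X) :
    suppP T K ↔ IsZero ((restrictD (compl hT).ι).obj K) := by
  refine ⟨isZero_restrictD_compl hT, fun h i x hx => ?_⟩
  by_contra hxT
  rw [isZero_iff_suppP_empty] at h
  have h1 := h i
  rw [supp_restrictD] at h1
  exact h1 (show (⟨x, hxT⟩ : compl hT) ∈ (compl hT).ι ⁻¹' supp K i from hx)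

theorem sgen_of_isAffine {T : Set X} (hT : IsClosed T) (hTc : IsCompact Tᶜ) : SGen X T := by
  obtain ⟨l, hl⟩ := exists_list_basicOpen X (compl hT) hTc
  let A0 : DerivedCategory (ModuleCat.{u} Γ(X, ⊤)) :=
    (DerivedCategory.singleFunctor (ModuleCat.{u} Γ(X, ⊤)) 0).obj (ModuleCat.of Γ(X, ⊤) Γ(X, ⊤))
  obtain ⟨Q, h1, h2, h3⟩ := SuppGenRing.exists_test l A0
  have hQ : DCoh.IsPerfect ((modelD X).obj Q) :=
    h2 ((perf X).inverseImage (modelD X)) inferInstance inferInstance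
      ((isPerfect_modelD_iff X _).2 (isPerfect_single Γ(X, ⊤)))
  refine ⟨(modelD X).obj Q, hQ, ?_, fun E hE hET h => ?_⟩
  · rw [suppP_iff_isZero hT, isZero_restrictD_modelD_iff_isTors X Q _ l hl]
    exact fun f hf => RingKill.isTors_of_nilp (h1 f hf)
  · obtain ⟨M, ⟨e⟩⟩ := exists_iso_modelD X hE
    refine IsZero.of_iso (Functor.map_isZero (modelD X) ?_) e.symm
    have hM : ∀ f ∈ l, RingKill.IsTors f M := by
      rw [← isZero_restrictD_modelD_iff_isTors X M _ l hl, ← suppP_iff_isZero hT]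
      exact (suppP T).prop_of_iso e.symm hET
    refine GenRing.isZero_of_forall M fun n φ => ?_
    let e' : A0⟦-n⟧ ≅ (DerivedCategory.singleFunctor (ModuleCat.{u} Γ(X, ⊤)) n).obj
        (ModuleCat.of Γ(X, ⊤) Γ(X, ⊤)) :=
      ((DerivedCategory.singleFunctors (ModuleCat.{u} Γ(X, ⊤))).shiftIso (-n) n 0 (by lia)).app _
    have h4 : e'.hom ≫ φ = 0 := h3 M (fun f hf => RingKill.killsTo_of_isPerfect
        (isPerfect_single Γ(X, ⊤)) (hM f hf)) (fun k ψ => by
      have h5 := h k (((modelD X).commShiftIso k).inv.app Q ≫ (modelD X).map ψ ≫ e.hom)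
      have h6 : (modelD X).map ψ = 0 := by
        rw [← cancel_epi (((modelD X).commShiftIso k).inv.app Q), ← cancel_mono e.hom,
          Category.assoc, h5]
        simp
      exact (modelD X).map_injective (by rw [h6, Functor.map_zero])) (-n) _
    rw [← cancel_epi e'.hom, h4, comp_zero]

end Affine

section Step

variable {X : Scheme.{u}}

lemma hom_eq_zero_of_retract {D : Type*} [Category D] [Preadditive D] [HasShift D ℤ] {P R E : D}
    (i : R ⟶ P) (p : P ⟶ R) (hip : i ≫ p = 𝟙 R) (n : ℤ) (h : ∀ φ : P⟦n⟧ ⟶ E, φ = 0)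
    (φ : R⟦n⟧ ⟶ E) : φ = 0 := by
  have h1 := h (p⟦n⟧' ≫ φ)
  have h2 : i⟦n⟧' ≫ p⟦n⟧' ≫ φ = φ := by
    rw [← Category.assoc, ← Functor.map_comp, hip, CategoryTheory.Functor.map_id, Category.id_comp]
  rw [← h2, h1, comp_zero]

lemma isZero_map_shift {C D : Type*} [Category C] [Category D] [Preadditive C] [Preadditive D]
    [HasZeroObject C] [HasZeroObject D] [HasShift C ℤ] [HasShift D ℤ]
    (L : C ⥤ D) [L.CommShift ℤ] [∀ n : ℤ, (shiftFunctor D n).Additive] {K : C} (h : IsZero (L.obj K)) (n : ℤ) :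
    IsZero (L.obj (K⟦n⟧)) :=
  IsZero.of_iso (Functor.map_isZero (shiftFunctor D n) h) ((L.commShiftIso n).app K)

lemma suppP_biprod {T : Set X} {P Q : DCoh.D X} (hP : suppP T P) (hQ : suppP T Q) : suppP T (P ⊞ Q) :=
  fun i => (supp_obj₂ _ (binaryBiproductTriangle_distinguished P Q) i).trans
    (Set.union_subset (hP i) (hQ i))

lemma isPerfect_biprod {P Q : DCoh.D X} (hP : DCoh.IsPerfect P) (hQ : DCoh.IsPerfect Q) :
    DCoh.IsPerfect (P ⊞ Q) :=
  (S0887.result _ (binaryBiproductTriangle_distinguished P Q)).2.1 hP hQ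

lemma hom_eq_zero_of_shriek {Y : Scheme.{u}} (j : Y ⟶ X) [IsOpenImmersion j] (A : DCoh.D Y) (M : DCoh.D X) (n : ℤ)
    (h : ∀ φ : ((ExtZeroD.shriekD j).obj A)⟦n⟧ ⟶ M, φ = 0)
    (ψ : A⟦n⟧ ⟶ (restrictD j).obj M) : ψ = 0 := by
  obtain ⟨χ, hχ⟩ := ((ExtZeroD.adjunction j).homEquiv _ _).surjective ψ
  have h1 : χ = ((ExtZeroD.shriekD j).commShiftIso n).hom.app A ≫
      (((ExtZeroD.shriekD j).commShiftIso n).inv.app A ≫ χ) := by
    rw [Iso.hom_inv_id_app_assoc]
  rw [← hχ, h1, h (((ExtZeroD.shriekD j).commShiftIso n).inv.app A ≫ χ), comp_zero,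
    Adjunction.homEquiv_unit, Functor.map_zero, comp_zero]

theorem sgen_step [CompactSpace X] [QuasiSeparatedSpace X] (U V : X.Opens) (hUV : U ⊔ V = ⊤)
    (hU : IsCompact (U : Set X)) (T : Set X) (hT : IsClosed T) (hTc : IsCompact Tᶜ)
    (R : DCoh.D (U : Scheme.{u}) ⥤ DCoh.D X) (adj : restrictD U.ι ⊣ R) [IsIso adj.counit]
    (hR : ∀ K : DCoh.D (U : Scheme.{u}), DCoh.IsQCohD K → DCoh.IsQCohD (R.obj K))
    (hgU : SGen (U : Scheme.{u}) (U.ι ⁻¹' T))
    (hgV : SGen (V : Scheme.{u}) (V.ι ⁻¹' (T ∩ (U : Set X)ᶜ))) : SGen X T := by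
  obtain ⟨P, hP, hPs, hPgen⟩ := hgU
  obtain ⟨P', -, i, p, hP', hPs', hip, -⟩ := S1098.result X U hU T hT hTc 0
    (QCohD.isQCohD_of_isPerfect _ (isPerfect_of_isZero (isZero_zero _))) P hP hPs 0
  obtain ⟨K, hK, hKs, hKgen⟩ := hgV
  have hZ : IsClosed (T ∩ (U : Set X)ᶜ) := hT.inter U.isOpen.isClosed_compl
  have hZV : (T ∩ (U : Set X)ᶜ) ⊆ Set.range V.ι := by
    rintro x ⟨-, hxU⟩
    have : x ∈ (U ⊔ V : X.Opens) := by rw [hUV]; trivial
    rcases this with h | h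
    · exact absurd h hxU
    · exact ⟨⟨x, h⟩, rfl⟩
  obtain ⟨Q, hQ, hQs, hQhom⟩ : ∃ Q : DCoh.D X, DCoh.IsPerfect Q ∧ suppP (T ∩ (U : Set X)ᶜ) Q ∧
      ∀ (M : DCoh.D X) (n : ℤ), (∀ φ : Q⟦n⟧ ⟶ M, φ = 0) →
        ∀ ψ : K⟦n⟧ ⟶ (restrictD V.ι).obj M, ψ = 0 :=
    ⟨(ExtZeroD.shriekD V.ι).obj K, perf_shriekD V.ι hK hZ hZV hKs, suppP_shriekD V.ι hKs,
      fun M n h ψ => hom_eq_zero_of_shriek V.ι K M n h ψ⟩
  refine ⟨P' ⊞ Q, isPerfect_biprod hP' hQ,
    suppP_biprod hPs' (suppP_mono Set.inter_subset_left hQs), fun E hE hET hzero => ?_⟩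
  have hP0 : ∀ (n : ℤ) (φ : P'⟦n⟧ ⟶ E), φ = 0 := fun n φ =>
    hom_eq_zero_of_retract biprod.inl biprod.fst biprod.inl_fst n (hzero n) φ
  have hQ0 : ∀ (n : ℤ) (φ : Q⟦n⟧ ⟶ E), φ = 0 := fun n φ =>
    hom_eq_zero_of_retract biprod.inr biprod.snd biprod.inr_snd n (hzero n) φ
  have : R.Additive := adj.right_adjoint_additive
  let L := restrictD U.ι
  let η : E ⟶ R.obj (L.obj E) := adj.unit.app E
  have htri : L.map η ≫ adj.counit.app (L.obj E) = 𝟙 _ := adj.left_triangle_components E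
  have hη : IsIso (L.map η) := by
    have : IsIso (L.map η ≫ adj.counit.app (L.obj E)) := by rw [htri]; infer_instance
    exact IsIso.of_isIso_comp_right (L.map η) (adj.counit.app (L.obj E))
  obtain ⟨M, m, d, hTr⟩ := distinguished_cocone_triangle₁ η
  have hRE : DCoh.IsQCohD (R.obj (L.obj E)) := hR _ (QCohD.isQCohD_restrictD U.ι hE)
  have hREs : suppP T (R.obj (L.obj E)) := by
    rw [suppP_iff_isZero hT]
    refine ExtZeroD.isZero_restrictD_of_supp (compl hT).ι U.ι R adj _ fun i => ?_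
    rw [Scheme.Opens.range_ι, supp_restrictD, Set.disjoint_left]
    intro y hy hy'
    exact hy' (hET i hy)
  have hM : DCoh.IsQCohD M := QCohD.isQCohD_ext₁ _ hTr hE hRE
  have hMs : suppP T M := suppP_obj₁ (Triangle.mk m η d) hTr hET hREs
  have hLM : IsZero (L.obj M) := by
    have h3 := L.map_distinguished _ hTr
    exact (Triangle.isZero₁_iff_isIso₂ _ h3).2 hη
  have hMU : suppP (U : Set X)ᶜ M := by
    intro i x hx hxU
    have h4 := (isZero_iff_suppP_empty _).1 hLM i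
    rw [supp_restrictD] at h4
    exact h4 (show (⟨x, hxU⟩ : U) ∈ U.ι ⁻¹' supp M i from hx)
  have hMZ : suppP (T ∩ (U : Set X)ᶜ) M := fun i => Set.subset_inter (hMs i) (hMU i)
  have hLQ : IsZero (L.obj Q) := by
    rw [isZero_iff_suppP_empty]
    refine suppP_mono ?_ (suppP_restrictD U.ι hQs)
    rintro ⟨x, hx⟩ hx'
    exact hx'.2 hx
  -- morphisms from shifts of `Q` to `M` are zero
  have hQM : ∀ (n : ℤ) (φ : Q⟦n⟧ ⟶ M), φ = 0 := by
    intro n φ
    have h5 : φ ≫ m = 0 := hQ0 n _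
    obtain ⟨g, hg⟩ := Triangle.coyoneda_exact₂ _ (inv_rot_of_distTriang _ hTr) φ h5
    change Q⟦n⟧ ⟶ (R.obj (L.obj E))⟦(-1 : ℤ)⟧ at g
    have hz : IsZero (L.obj (Q⟦n⟧⟦(1 : ℤ)⟧)) := isZero_map_shift L (isZero_map_shift L hLQ n) 1
    have h7 : g⟦(1 : ℤ)⟧' ≫ (shiftNegShift (R.obj (L.obj E)) (1 : ℤ)).hom = 0 :=
      (adj.homEquiv _ _).symm.injective (hz.eq_of_src _ _)
    have h6 : g⟦(1 : ℤ)⟧' = 0 := by
      rw [← cancel_mono (shiftNegShift (R.obj (L.obj E)) (1 : ℤ)).hom, h7, zero_comp]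
    have h8 : g = 0 := (shiftFunctor (DCoh.D X) (1 : ℤ)).map_injective (by rw [h6, Functor.map_zero])
    rw [hg, h8]
    exact zero_comp
  -- `M` is zero
  have hMV : IsZero ((restrictD V.ι).obj M) := by
    exact hKgen _ (QCohD.isQCohD_restrictD V.ι hM) (suppP_restrictD V.ι hMZ) fun n ψ =>
      hQhom M n (hQM n) ψ
  have hM0 : IsZero M := ExtZeroD.isZero_of_supp (j := V.ι) (fun i => (hMZ i).trans hZV) hMV
  have hη' : IsIso η := (Triangle.isZero₁_iff_isIso₂ _ hTr).1 hM0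
  have hLE : IsZero (L.obj E) := by
    refine hPgen _ (QCohD.isQCohD_restrictD U.ι hE) (suppP_restrictD U.ι hET) ?_
    intro n ψ
    refine hom_eq_zero_of_retract i p hip n (fun χ => ?_) ψ
    -- `χ : L(P')[n] ⟶ L E`
    have h1 : (adj.homEquiv _ _ ((L.commShiftIso n).hom.app P' ≫ χ)) ≫ inv η = 0 := hP0 n _
    have h2 : (adj.homEquiv _ _ ((L.commShiftIso n).hom.app P' ≫ χ)) = 0 := by
      rw [← cancel_mono (inv η), h1, zero_comp]
    have h3 : (L.commShiftIso n).hom.app P' ≫ χ = 0 := by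
      apply (adj.homEquiv _ _).injective
      rw [h2, Adjunction.homEquiv_unit, Functor.map_zero, comp_zero]
    rw [← cancel_epi ((L.commShiftIso n).hom.app P'), h3, comp_zero]
  have := (Functor.map_isZero R hLE)
  exact this.of_iso (asIso η)

end Step

end Groth.Agent.PerfC.SuppGen
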