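import Groth.Agent.PerfA.RingKill
import Groth.Agent.PerfA.GenRing

/-!
# A perfect object testing vanishing of torsion objects of `D(A)`
-/

set_option autoImplicit false

universe u

open CategoryTheory CategoryTheory.Limits CategoryTheory.Pretriangulated

attribute [local instance] HasDerivedCategory.standard

namespace Groth.Agent.PerfC.SuppGenRing
open Groth.Agent.PerfA.ConeKill Groth.Agent.PerfA.RingKill Groth.Agent.PerfA

variable {A : Type u} [CommRing A]

theorem exists_test (l : List A) (P : Dual.D A) :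
    ∃ Q : Dual.D A, (∀ f ∈ l, Nilp f Q) ∧
      (∀ 𝒯 : ObjectProperty (Dual.D A), 𝒯.IsTriangulated → 𝒯.IsClosedUnderIsomorphisms → 𝒯 P → 𝒯 Q) ∧
      ∀ M : Dual.D A, (∀ f ∈ l, KillsTo f M P) → (∀ (n : ℤ) (φ : Q⟦n⟧ ⟶ M), φ = 0) →
        ∀ (n : ℤ) (φ : P⟦n⟧ ⟶ M), φ = 0 := by
  induction l with
  | nil => exact ⟨P, by simp, fun _ _ _ h => h, fun M _ h => h⟩
  | cons f l ih =>
    obtain ⟨Q', h1, h2, h3⟩ := ih
    obtain ⟨Q, g, h, hT⟩ := distinguished_cocone_triangle (f ^ 1 • 𝟙 Q')
    refine ⟨Q, ?_, ?_, ?_⟩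
    · intro a ha
      rcases List.mem_cons.1 ha with rfl | ha
      · exact nilp_cone 1 g h hT
      · exact nilp_ext _ (rot_of_distTriang _ hT) (h1 a ha) (nilp_shift (h1 a ha) 1)
    · intro 𝒯 i1 i2 hP
      exact 𝒯.ext_of_isTriangulatedClosed₃ _ hT (h2 𝒯 i1 i2 hP) (h2 𝒯 i1 i2 hP)
    · intro M hM hQ
      refine h3 M (fun a ha => hM a (List.mem_cons_of_mem _ ha)) ?_
      have hk : KillsTo f M Q' := h2 _ inferInstance inferInstance (hM f List.mem_cons_self)
      have key : ∀ (k : ℕ) (n : ℤ) (φ : Q'⟦n⟧ ⟶ M), f ^ k • φ = 0 → φ = 0 := by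
        intro k
        induction k with
        | zero =>
          intro n φ hφ
          rwa [pow_zero, one_smul] at hφ
        | succ k ihk =>
          intro n φ hφ
          have h4 : f • φ = 0 := ihk n _ (by rw [smul_smul, ← pow_succ, hφ])
          have hT' := Triangle.shift_distinguished _ hT n
          obtain ⟨ψ, hψ⟩ : ∃ ψ : Q⟦n⟧ ⟶ M, φ = (n.negOnePow • (shiftFunctor (Dual.D A) n).map g) ≫ ψ :=
            Triangle.yoneda_exact₂ _ hT' φ (by
              change (n.negOnePow • (shiftFunctor (Dual.D A) n).map (f ^ 1 • 𝟙 Q')) ≫ φ = 0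
              rw [Functor.map_smul, CategoryTheory.Functor.map_id, pow_one, Linear.units_smul_comp,
                Linear.smul_comp, Category.id_comp, h4, smul_zero])
          rw [hψ, hQ n ψ, comp_zero]
      intro n φ
      obtain ⟨k, hk⟩ := hk n φ
      exact key k n φ hk

end Groth.Agent.PerfC.SuppGenRing
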