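import Groth.Agent.FormalA.AnnIdeal
import Groth.Agent.FormalA.ProperOver
import Groth.Agent.FormalA.PullbackQC
import Groth.Agent.CohqA.AffineBaseChange
import Groth.Agent.Flat2C.FlatSec
import Groth.Agent.Ega1.QcqsPush
import Groth.Agent.Models2.FPCoh
import Groth.Agent.Models2.FlatIso
import Groth.Agent.PerfB.ApproxMain

/-!
# Modules with proper support: reduction to a closed subscheme which is proper, over an arbitrary affine base
-/

set_option autoImplicit false
universe u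

open CategoryTheory CategoryTheory.Limits AlgebraicGeometry Opposite TopologicalSpace

namespace Groth.Agent.PerfC.SuppRed

/-- `G` is flat over `S` if `i_* G` is, for `i` affine. -/
theorem isFlatOver_of_pushforward {Z Y S : Scheme.{u}} (i : Z ⟶ Y) [IsAffineHom i] (f : Y ⟶ S)
    (G : Z.Modules) (hG : Coh.IsQCoh G)
    (h : FlatMod.IsFlatOver f ((Scheme.Modules.pushforward i).obj G)) :
    FlatMod.IsFlatOver (i ≫ f) G := by
  have hq : Coh.IsQCoh ((Scheme.Modules.pushforward i).obj G) := Ega1.QcqsPush.isQCoh_pushforward i G hG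
  refine Flat2C.FlatSec.isFlatOver_of_cover (i ≫ f) G hG (fun z => ?_)
  obtain ⟨_, ⟨V, hV, rfl⟩, hzV, -⟩ := S.isBasis_affineOpens.exists_subset_of_mem_open
    (Set.mem_univ (f (i z))) isOpen_univ
  obtain ⟨_, ⟨U, hU, rfl⟩, hzU, hUV⟩ := Y.isBasis_affineOpens.exists_subset_of_mem_open
    (show i z ∈ (f ⁻¹ᵁ V : Y.Opens) from hzV) (f ⁻¹ᵁ V).2
  have e : U ≤ f ⁻¹ᵁ V := hUV
  have e' : i ⁻¹ᵁ U ≤ (i ≫ f) ⁻¹ᵁ V := fun x hx => e hx
  refine ⟨i ⁻¹ᵁ U, V, hU.preimage i, hV, e', hzU, ?_⟩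
  have h1 : Flat2C.FlatSec.FlatSections f ((Scheme.Modules.pushforward i).obj G) e :=
    (Flat2C.FlatSec.flat_sections_iff f _ hU hV e hq).mpr (fun x _ => h x)
  have h2 : Flat2C.FlatSec.moduleOver (i ≫ f) G e' =
      Flat2C.FlatSec.moduleOver f ((Scheme.Modules.pushforward i).obj G) e := by
    apply Module.ext'
    intro r m
    change ((i ≫ f).appLE V (i ⁻¹ᵁ U) e').hom r • m = (i.app U).hom ((f.appLE V U e).hom r) • m
    congr 1
    rw [← CommRingCat.comp_apply]
    congr 2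
    rw [Scheme.Hom.app_eq_appLE, Scheme.Hom.appLE_comp_appLE]
  unfold Flat2C.FlatSec.FlatSections at h1 ⊢
  rw [h2]
  exact h1

/-- Over a Noetherian base: a finitely presented module with proper support is the direct image of a module on a
closed subscheme which is proper. -/
theorem exists_closed {B : Type u} [CommRing B] {Y : Scheme.{u}} (h : Y ⟶ Spec (CommRingCat.of B))
    [LocallyOfFiniteType h] (G : Y.Modules) (hG : CohB1.IsFP G)
    (hsupp : ClSub.IsProperOver h (CohB1.support G)) :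
    ∃ (Z : Scheme.{u}) (i : Z ⟶ Y) (_ : IsClosedImmersion i) (G' : Z.Modules),
      IsProper (i ≫ h) ∧ CohB1.IsFP G' ∧ Nonempty ((Scheme.Modules.pushforward i).obj G' ≅ G) ∧
      (FlatMod.IsFlatOver h G → FlatMod.IsFlatOver (i ≫ h) G') := by
  have hq := Models2.FPCoh.isQCoh_of_isFP hG
  have hft := Models2.FPCoh.isFT_of_isFP hG
  refine ⟨_, (FormalA.AnnIdeal.annIdeal G hq hft).subschemeι, inferInstance,
    (Scheme.Modules.pullback (FormalA.AnnIdeal.annIdeal G hq hft).subschemeι).obj G, ?_, ?_,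
    ⟨FormalA.AnnIdeal.pushPullIso G hq hft⟩, fun hfl => ?_⟩
  · exact FormalA.ProperOver.isProper_closedImmersion h _ hsupp _ (FormalA.AnnIdeal.range_subschemeι G hq hft)
  · exact FormalA.PullbackQC.isFP_pullback _ G hG
  · exact isFlatOver_of_pushforward _ h _
      (Models2.FPCoh.isQCoh_of_isFP (FormalA.PullbackQC.isFP_pullback _ G hG))
      (Models2.FlatIso.isFlatOver_of_iso h (FormalA.AnnIdeal.pushPullIso G hq hft).symm hfl)

/-- **Support reduction over an arbitrary affine base**, with a Noetherian model of the closed subscheme. -/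
theorem exists_model {A : Type u} [CommRing A] {X : Scheme.{u}}
    (f : X ⟶ Spec (CommRingCat.of A)) [LocallyOfFinitePresentation f] [QuasiCompact f]
    [QuasiSeparated f] (F : X.Modules) (hF : CohB1.IsFP F) (hfl : FlatMod.IsFlatOver f F)
    (hsupp : ClSub.IsProperOver f (CohB1.support F)) :
    ∃ (B : Subalgebra ℤ A) (Z₀ : Scheme.{u}) (h₀ : Z₀ ⟶ Spec (CommRingCat.of B)) (G₀ : Z₀.Modules)
      (Z : Scheme.{u}) (i : Z ⟶ X) (g : Z ⟶ Z₀),
      B.FG ∧ IsProper h₀ ∧ CohB1.IsFP G₀ ∧ FlatMod.IsFlatOver h₀ G₀ ∧ IsClosedImmersion i ∧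
      IsPullback g (i ≫ f) h₀ (Spec.map (CommRingCat.ofHom (algebraMap B A))) ∧
      Nonempty ((Scheme.Modules.pushforward i).obj ((Scheme.Modules.pullback g).obj G₀) ≅ F) := by
  obtain ⟨B, Y, h, g, G, hB, hlfp, hqc, hqs, pb, hG, ⟨e⟩, h1, h2, -, -, -⟩ :=
    PerfB.ApproxMain.exists_noetherian_model A f F hF
  obtain ⟨Z₀, i₀, hi₀, G₀, p1, p2, ⟨e₀⟩, p4⟩ := exists_closed h G hG (h2 hsupp)
  have hq₀ : Coh.IsQCoh G₀ := Models2.FPCoh.isQCoh_of_isFP p2
  have sq : IsPullback (pullback.snd g i₀) (pullback.fst g i₀) i₀ g := (IsPullback.of_hasPullback g i₀).flip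
  have hci : IsClosedImmersion (pullback.fst g i₀) := inferInstance
  have : G₀.IsQuasicoherent := hq₀
  obtain ⟨e1⟩ := CohqA.AffineBaseChange.nonempty_iso sq G₀
  exact ⟨B, Z₀, i₀ ≫ h, G₀, pullback g i₀, pullback.fst g i₀, pullback.snd g i₀, hB, p1, p2, p4 (h1 hfl),
    hci, sq.paste_vert pb, ⟨e1.symm ≪≫ (Scheme.Modules.pullback g).mapIso e₀ ≪≫ e⟩⟩

end Groth.Agent.PerfC.SuppRed
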