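import Groth.Agent.PerfC.ProjMap
import Mathlib.CategoryTheory.Yoneda

/-!
# The projection map at invertible objects

`theta adj M A : T.obj (R A) ⟶ L ⋙ T'.obj A ⋙ R` is an isomorphism at `I` if `T(-, I)` is an
equivalence and `T'(-, L I)` is fully faithful (for example for the shifts of a unit object).
-/

set_option autoImplicit false

universe v₁ v₂ u₁ u₂

open CategoryTheory Category

namespace Groth.Agent.PerfC.ThetaEquiv291

open Groth.Agent.PerfC.ProjMap

variable {D : Type u₁} [Category.{v₁} D] {E : Type u₂} [Category.{v₂} E]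
  {T : D ⥤ D ⥤ D} {T' : E ⥤ E ⥤ E} {L : D ⥤ E} {R : E ⥤ D} (adj : L ⊣ R)
  (M : T ⋙ (Functor.whiskeringRight _ _ _).obj L ⟶ L ⋙ T' ⋙ (Functor.whiskeringLeft _ _ _).obj L)

lemma comp_theta_app (A : E) (I : D) {P : D} (f : P ⟶ R.obj A) :
    (T.map f).app I ≫ (theta adj M A).app I =
      adj.unit.app _ ≫ R.map (Ma M P I ≫ (T'.map ((adj.homEquiv _ _).symm f)).app (L.obj I)) := by
  have h1 := adj.unit.naturality ((T.map f).app I)
  dsimp only [Functor.id_obj, Functor.id_map, Functor.comp_obj, Functor.comp_map] at h1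
  rw [theta_app, reassoc_of% h1, ← R.map_comp, ← R.map_comp]
  congr 2
  rw [← assoc, Ma_nat₁, assoc, ← NatTrans.comp_app, ← Functor.map_comp, Adjunction.homEquiv_counit]

/-- The projection map is an isomorphism at an object `I` such that `- ⊗ I` and `- ⊗ L I` are
equivalences. -/
theorem isIso_theta_app (A : E) (I : D) [(T.flip.obj I).Full] [(T.flip.obj I).Faithful]
    [(T.flip.obj I).EssSurj] [(T'.flip.obj (L.obj I)).Full] [(T'.flip.obj (L.obj I)).Faithful]
    (hM : ∀ F, IsIso (Ma M F I)) : IsIso ((theta adj M A).app I) := by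
  rw [isIso_iff_yoneda_map_bijective]
  intro Z
  -- reduction to `Z = P ⊗ I`
  let P := (T.flip.obj I).objPreimage Z
  let e : (T.obj P).obj I ≅ Z := (T.flip.obj I).objObjPreimageIso Z
  have key : Function.Bijective (fun (g : (T.obj P).obj I ⟶ (T.obj (R.obj A)).obj I) =>
      g ≫ (theta adj M A).app I) := by
    have := hM P
    have h0 : ∀ f : P ⟶ R.obj A, (T.map f).app I ≫ (theta adj M A).app I =
        adj.homEquiv _ _ (Ma M P I ≫ (T'.map ((adj.homEquiv _ _).symm f)).app (L.obj I)) := by
      intro f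
      rw [comp_theta_app, Adjunction.homEquiv_unit]
    constructor
    · intro g g' hg
      obtain ⟨f, rfl⟩ := (T.flip.obj I).map_surjective g
      obtain ⟨f', rfl⟩ := (T.flip.obj I).map_surjective g'
      have h1 := (h0 f).symm.trans (hg.trans (h0 f'))
      rw [(adj.homEquiv _ _).apply_eq_iff_eq, cancel_epi] at h1
      have h2 := (T'.flip.obj (L.obj I)).map_injective h1
      rw [(adj.homEquiv _ _).symm.apply_eq_iff_eq] at h2
      rw [h2]
    · intro b
      obtain ⟨h, hh⟩ := (T'.flip.obj (L.obj I)).map_surjective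
        (inv (Ma M P I) ≫ (adj.homEquiv _ _).symm b)
      refine ⟨(T.map (adj.homEquiv _ _ h)).app I, ?_⟩
      refine (h0 _).trans ?_
      have hh' : (T'.map h).app (L.obj I) = inv (Ma M P I) ≫ (adj.homEquiv _ _).symm b := hh
      rw [Equiv.symm_apply_apply, hh', IsIso.hom_inv_id_assoc, Equiv.apply_symm_apply]
  constructor
  · intro a b hab
    rw [← cancel_epi e.hom]
    apply key.1
    dsimp only at hab ⊢
    rw [assoc, assoc, hab]
  · intro b
    obtain ⟨a, ha⟩ := key.2 (e.hom ≫ b)
    refine ⟨e.inv ≫ a, ?_⟩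
    dsimp only at ha ⊢
    rw [assoc, ha, Iso.inv_hom_id_assoc]

end Groth.Agent.PerfC.ThetaEquiv291
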