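import Groth.Agent.PerfA.TildeModel
import Groth.Agent.Ega3B.LocFree
import Groth.Agent.PerfA.QCohSerre
import Groth.Agent.PerfC.TildeProj
import Mathlib.RingTheory.LocalProperties.FinitePresentation

/-!
# Finite locally free sheaves on affine schemes come from finite projective modules

`finProj_of_isFinLocFree`: `N~` finite locally free ⟹ `N` finite projective.
-/

set_option autoImplicit false
universe u
open CategoryTheory CategoryTheory.Limits AlgebraicGeometry
open scoped TensorProduct
attribute [local instance] HasDerivedCategory.standard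

namespace Groth.Agent.PerfC.TildeFLF

open Groth.Agent.PerfA.TildeRes Groth.Agent.PerfA.PerfLocal Groth.Agent.PerfA.Restrict
  AlgebraicGeometry.Scheme.Modules

lemma exists_away_equiv (A : Type u) [CommRing A] (N : ModuleCat.{u} A)
    (h : FlatMod.IsFinLocFree (tilde (R := CommRingCat.of A) N)) (p : PrimeSpectrum A) :
    ∃ f : A, f ∉ p.asIdeal ∧ ∃ n : ℕ,
      Nonempty (LocalizedModule.Away f N ≃ₗ[Localization.Away f] (Fin n → Localization.Away f)) := by
  obtain ⟨U, n, hU, ⟨e⟩⟩ := h p
  obtain ⟨f, hf, k, hk, hkU⟩ := PerfA.TildeModel.exists_lift_away U.ι ⟨p, hU⟩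
  refine ⟨f, hf, n, ⟨?_⟩⟩
  let S : CommRingCat.{u} := CommRingCat.of (Localization.Away f)
  let e1 : tilde (R := S) (ModuleCat.of (Localization.Away f) (Localization.Away f ⊗[A] N)) ≅
      tilde (R := S) (ModuleCat.of (Localization.Away f) (Fin n → Localization.Away f)) :=
    (tildeRestrictIsoTensor A (Localization.Away f) N).symm ≪≫
      (restrictFunctorCongr hkU.symm).app _ ≪≫ (restrictFunctorComp k U.ι).app _ ≪≫
      (restrictFunctor k).mapIso e ≪≫ freeModRestrict k n ≪≫ (Ega3B.LocFree.tildePiIso S n).symm
  let e2 := (tilde.fullyFaithfulFunctor (R := S)).preimageIso e1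
  exact (LocalizedModule.equivTensorProduct (.powers f) N) ≪≫ₗ e2.toLinearEquiv

/-- `N~` finite locally free ⟹ `N` finite projective. -/
theorem finProj_of_isFinLocFree (A : Type u) [CommRing A] (N : ModuleCat.{u} A)
    (h : FlatMod.IsFinLocFree (tilde (R := CommRingCat.of A) N)) :
    Module.Finite A N ∧ Module.Projective A N := by
  let s : Set A := {f | ∃ n : ℕ,
    Nonempty (LocalizedModule.Away f N ≃ₗ[Localization.Away f] (Fin n → Localization.Away f))}
  have hs : Ideal.span s = ⊤ := by
    by_contra hne
    obtain ⟨m, hm, hle⟩ := Ideal.exists_le_maximal _ hne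
    obtain ⟨f, hf, hf'⟩ := exists_away_equiv A N h ⟨m, hm.isPrime⟩
    exact hf (hle (Ideal.subset_span hf'))
  have h1 : Module.Flat A N := by
    refine Module.flat_of_localized_span (M := N) (s := s) (spn := hs) (h := fun g => ?_)
    obtain ⟨n, ⟨e⟩⟩ := g.2
    have : Module.Flat (Localization.Away g.1) (LocalizedModule.Away g.1 N) :=
      Module.Flat.of_linearEquiv e
    exact Module.Flat.trans A (Localization.Away g.1) _
  have h2 : Module.FinitePresentation A N := by
    refine Module.FinitePresentation.of_localizationSpan s hs (fun g => ?_)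
    obtain ⟨n, ⟨e⟩⟩ := g.2
    exact Module.FinitePresentation.of_equiv e.symm
  exact ⟨inferInstance, Module.Flat.projective_of_finitePresentation⟩

end Groth.Agent.PerfC.TildeFLF
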