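import Groth.Agent.S0476
import Groth.Agent.S1035
import Groth.Agent.PerfA.AffVan
import Groth.Agent.PerfC.FlasquePush
import Groth.Agent.PerfC.QCohInj
import Groth.Agent.PerfB.DQAdj
import Groth.Agent.Dcoh.DerHo
import Mathlib.Algebra.Category.ModuleCat.AB

/-!
# Complexes of quasi-coherent sheaves attached to complexes of injective modules

Let `A` be Noetherian and `L` a complex of injective `A`-modules; `L~` is a complex of flasque sheaves,
hence adapted to `j_*`, for any quasi-compact quasi-separated `j : Spec A ⟶ X`.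
-/

set_option autoImplicit false
universe u v w

open CategoryTheory CategoryTheory.Limits AlgebraicGeometry Opposite TopologicalSpace
attribute [local instance] HasDerivedCategory.standard

namespace Groth.Agent.PerfC.TildeInjAdapted

open Scheme.Modules PerfB

variable {X Y : Scheme.{u}}

theorem hasInjectiveResolutions (X : Scheme.{u}) : HasInjectiveResolutions X.Modules := by
  have := PerfA.AffVan.enoughInjectives X
  infer_instance

theorem hasKInj (X : Scheme.{u}) : Dcoh.DerHo.HasKInj X.Modules := fun K => by
  have := PerfA.AffVan.isGrothendieckAbelian X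
  obtain ⟨I, f, h1, h2, -⟩ := S0476.result K
  exact ⟨I, f, h1, h2⟩

/-- Every unbounded `Rf_*` exists. -/
theorem hasRpush (f : X ⟶ Y) : DCoh.HasRpush f :=
  Dcoh.DerHo.hasRightDerivedFunctor (hasKInj X) _

/-- A complex of quasi-coherent `f_*`-acyclic modules is adapted to `f_*`. -/
theorem adapted_of_acyclic (f : X ⟶ Y) [QuasiCompact f] [QuasiSeparated f] [HasInjectiveResolutions X.Modules]
    (F : CochainComplex X.Modules ℤ) (hq : ∀ n : ℤ, Coh.IsQCoh (F.X n))
    (hac : ∀ (n : ℤ) (i : ℕ), 0 < i → IsZero ((Coh.Rpush f i).obj (F.X n))) :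
    DQAdj.Adapted (pushforward f) F := by
  obtain ⟨I, s, hI, hs⟩ := hasKInj X F
  refine ⟨I, s, hI, hs, ?_⟩
  have := hasRpush f
  have h1 := S1035.result f F hq hac
  let α := (DCoh.pushKh f).totalRightDerivedUnit DerivedCategory.Qh
    (HomotopyCategory.quasiIso X.Modules (ComplexShape.up ℤ))
  have h2 : IsIso (α.app ((HomotopyCategory.quotient _ _).obj I)) :=
    Dcoh.DerHo.isIso_unit_app' (hasKInj X) _ α I hI
  have h3 : IsIso (DerivedCategory.Qh.map ((HomotopyCategory.quotient _ _).map s)) :=
    Localization.inverts DerivedCategory.Qh _ _ ((HomotopyCategory.quotient_map_mem_quasiIso_iff s).2 hs)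
  have h4 := α.naturality ((HomotopyCategory.quotient _ _).map s)
  have h5 : IsIso (α.app ((HomotopyCategory.quotient _ _).obj F)) := h1
  have h6 : IsIso ((DCoh.pushKh f).map ((HomotopyCategory.quotient _ _).map s)) := by
    have h7 : IsIso ((DCoh.pushKh f).map ((HomotopyCategory.quotient _ _).map s) ≫
        α.app ((HomotopyCategory.quotient _ _).obj I)) := by
      rw [h4]
      dsimp only [Functor.comp_map]
      infer_instance
    exact IsIso.of_isIso_comp_right _ (α.app ((HomotopyCategory.quotient _ _).obj I))
  exact (HomotopyCategory.quotient_map_mem_quasiIso_iff _).1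
    ((DerivedCategory.isIso_Qh_map_iff _).1 h6)

/-- For a complex `L` of injective modules over a Noetherian ring, `L~` is adapted to `j_*`. -/
theorem adapted_tilde {A : CommRingCat.{u}} [IsNoetherianRing A] (j : Spec A ⟶ X) [QuasiCompact j]
    [QuasiSeparated j] (L : CochainComplex (ModuleCat.{u} A) ℤ) (hL : ∀ n, Injective (L.X n)) :
    DQAdj.Adapted (pushforward j)
      (((tilde.functor A).mapHomologicalComplex (ComplexShape.up ℤ)).obj L) := by
  have := hasInjectiveResolutions (Spec A)
  refine adapted_of_acyclic j _ (fun n => ?_) (fun n i hi => ?_)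
  · exact inferInstanceAs ((tilde.functor A).obj (L.X n)).IsQuasicoherent
  · refine FlasquePush.isZero_Rpush j _ ?_ i hi
    have := hL n
    rw [FlasquePush.isFlasqueMod_iff]
    intro U V h
    exact QCohInj.tilde_map_surjective (L.X n) h

/-- Every object of `D(A)`, `A` Noetherian, is represented by a K-injective complex `L` such that
`L~` is adapted to `j_*`. -/
theorem exists_adapted {A : CommRingCat.{u}} [IsNoetherianRing A] (j : Spec A ⟶ X) [QuasiCompact j]
    [QuasiSeparated j] {B : Type v} [Category.{w} B] [Abelian B] (S : ModuleCat.{u} A ⥤ B) [S.Additive]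
    (N : DerivedCategory (ModuleCat.{u} A)) :
    ∃ L : CochainComplex (ModuleCat.{u} A) ℤ, Nonempty (DerivedCategory.Q.obj L ≅ N) ∧
      DQAdj.Adapted S L ∧
      DQAdj.Adapted (pushforward j)
        (((tilde.functor A).mapHomologicalComplex (ComplexShape.up ℤ)).obj L) := by
  obtain ⟨L, f, h1, h2, -, h3⟩ := S0476.result (DerivedCategory.Q.objPreimage N)
  refine ⟨L, ⟨(asIso (DerivedCategory.Q.map f)).symm ≪≫ DerivedCategory.Q.objObjPreimageIso N⟩,
    DQAdj.adapted_of_isKInjective L, adapted_tilde j L h3⟩

end Groth.Agent.PerfC.TildeInjAdapted
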