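import Groth.Agent.PerfC.TildeHom
import Groth.Agent.Dcoh.StalkT
import Groth.Agent.Fdesc.QCohStalk
import Mathlib.RingTheory.Localization.BaseChange

/-!
# Stalks of `M ⊗ N^~` on `Spec R`: `(M ⊗ N^~)_x = M_x ⊗_R N`
-/

set_option autoImplicit false
universe u

open CategoryTheory CategoryTheory.Limits AlgebraicGeometry Opposite TopologicalSpace MonoidalCategory
open Groth.Agent.PerfC.TildeHom Groth.Agent.Dcoh.Stalk

namespace Groth.Agent.PerfC.TildeStalk

section Algebra

open TensorProduct

variable {R A : Type u} [CommRing R] [CommRing A] [Algebra R A]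
  {P N M' : Type u} [AddCommGroup P] [Module A P] [Module R P] [IsScalarTower R A P]
  [AddCommGroup N] [Module R N] [AddCommGroup M'] [Module A M'] [Module R M'] [IsScalarTower R A M']

/-- `P ⊗_R N = P ⊗_A M'` for `N → M'` a base change. -/
noncomputable def cancelEquiv (g : N →ₗ[R] M') (hg : IsBaseChange A g) :
    P ⊗[R] N ≃ₗ[A] P ⊗[A] M' :=
  (AlgebraTensorModule.cancelBaseChange R A A P N).symm ≪≫ₗ
    TensorProduct.congr (LinearEquiv.refl A P) hg.equiv

theorem cancelEquiv_tmul (g : N →ₗ[R] M') (hg : IsBaseChange A g) (p : P) (n : N) :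
    cancelEquiv g hg (p ⊗ₜ[R] n) = p ⊗ₜ[A] g n := by
  simp [cancelEquiv, IsBaseChange.equiv_tmul]

end Algebra

variable {R : CommRingCat.{u}} (x : Spec R)

/-- `R → O_{Spec R, x}` -/
noncomputable def alpha : R →+* (Spec R).presheaf.stalk x :=
  ((Scheme.ΓSpecIso R).inv ≫ (Spec R).presheaf.germ ⊤ x trivial).hom

theorem alpha_eq : alpha x = (StructureSheaf.toStalk R x).hom := rfl

/-- The prime of `x`. -/
abbrev px (x : Spec R) : Ideal R := PrimeSpectrum.asIdeal x

instance (x : Spec R) : (px x).IsPrime := PrimeSpectrum.isPrime x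

theorem isLocalization_alpha :
    @IsLocalization R _ (px x).primeCompl ((Spec R).presheaf.stalk x) _ (alpha x).toAlgebra :=
  inferInstanceAs (IsLocalization.AtPrime ((structurePresheafInCommRingCat R).stalk x)
    (PrimeSpectrum.asIdeal (R := R) x))

/-- Restriction of scalars along `R → O_{Spec R, x}`. -/
noncomputable abbrev stR : ModuleCat.{u} ((Spec R).presheaf.stalk x) ⥤ ModuleCat.{u} R :=
  ModuleCat.restrictScalars (alpha x)

/-- The stalk functor with values in `R`-modules. -/
noncomputable def SR : (Spec R).Modules ⥤ ModuleCat.{u} R := stalkF x ⋙ stR x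

/-- `N → (N^~)_x` -/
noncomputable def toSt (N : ModuleCat.{u} R) : N ⟶ (SR x).obj (tilde N) :=
  tilde.toStalk N x

theorem toSt_apply (N : ModuleCat.{u} R) (n : N) :
    (toSt x N).hom n = (tilde N).presheaf.germ ⊤ x trivial (toOpenL (R := R) (N : Type u) ⊤ n) := rfl

theorem isLocalizedModule_toSt (N : ModuleCat.{u} R) :
    IsLocalizedModule (px x).primeCompl (toSt x N).hom :=
  (inferInstance : IsLocalizedModule (PrimeSpectrum.asIdeal (R := R) x).primeCompl
    (tilde.toStalk N x).hom)

section Cancel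

variable (P : ModuleCat.{u} ((Spec R).presheaf.stalk x)) (N : ModuleCat.{u} R)

theorem isBaseChange_toSt :
    letI : Algebra R ((Spec R).presheaf.stalk x) := (alpha x).toAlgebra
    letI : Module R ((stalkF x).obj (tilde N)) := Module.compHom _ (alpha x)
    haveI : IsScalarTower R ((Spec R).presheaf.stalk x) ((stalkF x).obj (tilde N)) :=
      IsScalarTower.of_algebraMap_smul fun _ _ => rfl
    ∃ g : N →ₗ[R] ((stalkF x).obj (tilde N)), (∀ n, g n = (toSt x N).hom n) ∧
      IsBaseChange ((Spec R).presheaf.stalk x) g := by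
  let : Algebra R ((Spec R).presheaf.stalk x) := (alpha x).toAlgebra
  let : Module R ((stalkF x).obj (tilde N)) := Module.compHom _ (alpha x)
  have : IsScalarTower R ((Spec R).presheaf.stalk x) ((stalkF x).obj (tilde N)) :=
    IsScalarTower.of_algebraMap_smul fun _ _ => rfl
  have := isLocalization_alpha x
  let g : N →ₗ[R] ((stalkF x).obj (tilde N)) :=
    { toFun := (toSt x N).hom
      map_add' := fun a b => map_add _ a b
      map_smul' := fun r a => LinearMap.map_smul (toSt x N).hom r a }
  have : IsLocalizedModule (px x).primeCompl g := isLocalizedModule_toSt x N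
  exact ⟨g, fun _ => rfl, IsLocalizedModule.isBaseChange (px x).primeCompl _ g⟩

open TensorProduct in
/-- The comparison map `P ⊗_R N → P ⊗_{O_x} (N^~)_x`. -/
noncomputable def kappa : (stR x).obj P ⊗ N ⟶ (stR x).obj (P ⊗ (stalkF x).obj (tilde N)) :=
  ModuleCat.ofHom (X := ((stR x).obj P) ⊗[R] N)
    (Y := ↑((stR x).obj (P ⊗ (stalkF x).obj (tilde N))))
    (TensorProduct.lift (LinearMap.mk₂ R
      (fun (p : P) (n : N) => (p ⊗ₜ[(Spec R).presheaf.stalk x] ((toSt x N).hom n :
        ((stalkF x).obj (tilde N)))))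
      (fun p p' n => TensorProduct.add_tmul p p' _)
      (fun r p n => rfl)
      (fun p n n' => by
        rw [map_add]
        exact TensorProduct.tmul_add p _ _)
      (fun r p n => by
        rw [map_smul]
        exact TensorProduct.tmul_smul (R := (Spec R).presheaf.stalk x) (M := P)
          (N := ((stalkF x).obj (tilde N))) (alpha x r) p _)))

open TensorProduct in
theorem kappa_tmul (p : P) (n : N) :
    (kappa x P N).hom (p ⊗ₜ[R] n : ((stR x).obj P) ⊗[R] N) =
      (p ⊗ₜ[(Spec R).presheaf.stalk x] ((toSt x N).hom n : ((stalkF x).obj (tilde N))) :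
        P ⊗[(Spec R).presheaf.stalk x] ((stalkF x).obj (tilde N))) := rfl

open TensorProduct in
instance isIso_kappa : IsIso (kappa x P N) := by
  rw [ConcreteCategory.isIso_iff_bijective]
  let : Algebra R ((Spec R).presheaf.stalk x) := (alpha x).toAlgebra
  let : Module R ((stalkF x).obj (tilde N)) := Module.compHom _ (alpha x)
  have : IsScalarTower R ((Spec R).presheaf.stalk x) ((stalkF x).obj (tilde N)) :=
    IsScalarTower.of_algebraMap_smul fun _ _ => rfl
  let : Module R P := Module.compHom _ (alpha x)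
  have : IsScalarTower R ((Spec R).presheaf.stalk x) P :=
    IsScalarTower.of_algebraMap_smul fun _ _ => rfl
  obtain ⟨g, hg, hg'⟩ := isBaseChange_toSt x N
  have h := (cancelEquiv (P := P) g hg').bijective
  have h2 : ∀ z : P ⊗[R] N, cancelEquiv (P := P) g hg' z = (kappa x P N).hom z := by
    intro z
    induction z using TensorProduct.induction_on with
    | zero => exact (map_zero _).trans (map_zero (kappa x P N).hom).symm
    | tmul p n =>
      rw [cancelEquiv_tmul, hg]
      rfl
    | add a b ha hb =>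
      exact (map_add _ _ _).trans
        ((congrArg₂ _ ha hb).trans (map_add (kappa x P N).hom a b).symm)
  exact (funext h2) ▸ h

end Cancel

theorem toSt_naturality {N N' : ModuleCat.{u} R} (h : N ⟶ N') (n : N) :
    ((stalkF x).map (tilde.map h)).hom ((toSt x N).hom n) = (toSt x N').hom (h.hom n) := by
  have h1 : (tilde.map h).app ⊤ (toOpenL (R := R) (N : Type u) ⊤ n) =
      toOpenL (R := R) (N' : Type u) ⊤ (h.hom n) :=
    congr($(tilde.toOpen_map_app h ⊤) n)
  rw [toSt_apply, toSt_apply, ← h1]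
  exact Dcoh.StalkP.stalkMap_germ (R := (Spec R).presheaf) ((DCoh.toP).map (tilde.map h)) ⊤ x
    trivial (toOpenL (R := R) (N : Type u) ⊤ n)

open TensorProduct in
theorem kappa_naturality {P P' : ModuleCat.{u} ((Spec R).presheaf.stalk x)} (f : P ⟶ P')
    {N N' : ModuleCat.{u} R} (h : N ⟶ N') :
    ((stR x).map f ⊗ₘ h) ≫ kappa x P' N' =
      kappa x P N ≫ (stR x).map (f ⊗ₘ (stalkF x).map (tilde.map h)) := by
  ext z
  induction z using TensorProduct.induction_on with
  | zero => rw [map_zero, map_zero]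
  | tmul p n =>
    change (kappa x P' N').hom ((f.hom p) ⊗ₜ[R] (h.hom n) : ((stR x).obj P') ⊗[R] N') = _
    rw [kappa_tmul, ← toSt_naturality]
    rfl
  | add a b ha hb => rw [map_add, map_add, ha, hb]

/-- `(M ⊗ N^~)_x = M_x ⊗_R N`, as `R`-modules. -/
noncomputable def tensorTildeStalk (M : (Spec R).Modules) (N : ModuleCat.{u} R) :
    (SR x).obj ((DCoh.tensorBi.obj M).obj (tilde N)) ≅ (SR x).obj M ⊗ N :=
  (stR x).mapIso (tensorStalkIso M (tilde N) x) ≪≫ (asIso (kappa x ((stalkF x).obj M) N)).symm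

theorem sq_aux {C : Type*} [Category C] {A A' B B' D D' : C} (a : A ⟶ A') (t : A ≅ B)
    (t' : A' ≅ B') (k : D ⟶ B) [IsIso k] (k' : D' ⟶ B') [IsIso k'] (b : B ⟶ B') (c : D ⟶ D')
    (h2 : a ≫ t'.hom = t.hom ≫ b) (h1 : c ≫ k' = k ≫ b) :
    a ≫ (t' ≪≫ (asIso k').symm).hom = (t ≪≫ (asIso k).symm).hom ≫ c := by
  simp only [Iso.trans_hom, Iso.symm_hom, asIso_inv, Category.assoc]
  rw [← Category.assoc, IsIso.comp_inv_eq, h2, Category.assoc, Category.assoc, h1,
    IsIso.inv_hom_id_assoc]

theorem tensorTildeStalk_naturality {M M' : (Spec R).Modules} (f : M ⟶ M') {N N' : ModuleCat.{u} R}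
    (h : N ⟶ N') :
    (SR x).map ((DCoh.tensorBi.map f).app (tilde N) ≫ (DCoh.tensorBi.obj M').map (tilde.map h)) ≫
      (tensorTildeStalk x M' N').hom =
    (tensorTildeStalk x M N).hom ≫ ((SR x).map f ⊗ₘ h) := by
  have h2 := congrArg (stR x).map (tensorStalkIso_naturality f (tilde.map h) x)
  rw [CategoryTheory.Functor.map_comp (stR x), CategoryTheory.Functor.map_comp (stR x)] at h2
  exact sq_aux _ ((stR x).mapIso (tensorStalkIso M (tilde N) x))
    ((stR x).mapIso (tensorStalkIso M' (tilde N') x)) (kappa x ((stalkF x).obj M) N)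
    (kappa x ((stalkF x).obj M') N') _ _ h2 (kappa_naturality x ((stalkF x).map f) h)

end Groth.Agent.PerfC.TildeStalk
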