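import Groth.Agent.Dcoh.LTMod
import Groth.Agent.Dcoh.StalkT
import Groth.Agent.Dcoh.FlatTor

/-!
# Vanishing of `H^i(P ⊗ F)` in terms of stalks, `P` K-flat
-/

set_option autoImplicit false
universe u
open CategoryTheory CategoryTheory.Limits AlgebraicGeometry MonoidalCategory
attribute [local instance] HasDerivedCategory.standard

namespace Groth.Agent.PerfC.TorStalk
open Groth.Agent.Dcoh Groth.Agent.Dcoh.Stalk

variable {X : Scheme.{u}}

/-- stalks of `- ⊗ G` -/
noncomputable def tensorRightModStalk (G : X.Modules) (x : X) :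
    DCoh.tensorRightMod G ⋙ stalkF x ≅ stalkF x ⋙ tensorRight ((stalkF x).obj G) :=
  Functor.isoWhiskerRight (TMod.flipIso G).symm (stalkF x) ≪≫ tensorBiFlipStalk G x

/-- `(- ⊗ G)_x` only depends on the stalk `G_x`. -/
noncomputable def tensorRightModStalkCongr {G G' : X.Modules} (x : X) (e : (stalkF x).obj G ≅ (stalkF x).obj G') :
    DCoh.tensorRightMod G ⋙ stalkF x ≅ DCoh.tensorRightMod G' ⋙ stalkF x :=
  tensorRightModStalk G x ≪≫ Functor.isoWhiskerLeft (stalkF x)
    ((tensoringRight (ModuleCat.{u} (X.presheaf.stalk x))).mapIso e) ≪≫ (tensorRightModStalk G' x).symm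

lemma isZero_HD_iff (G : X.Modules) [DCoh.HasLTensorMod G] {P : CochainComplex X.Modules ℤ}
    (hP : DCoh.IsKFlat P) (i : ℤ) :
    IsZero (DCoh.HD ((DCoh.LTensorMod G).obj (DCoh.toD X P)) i) ↔
      ∀ x : X, ((P.sc i).map (DCoh.tensorRightMod G ⋙ stalkF x)).Exact := by
  rw [(LTMod.homologyIso G hP i).isZero_iff, ← HomologicalComplex.exactAt_iff_isZero_homology]
  exact FlatTor.exact_map_stalkF_iff ((P.sc i).map (DCoh.tensorRightMod G))

end Groth.Agent.PerfC.TorStalk
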